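import Cfsg.Agent.Lib.ThreeTrans.FiCent.PairCent

/-!
A copy of the presented Fischer group on 22 letters containing the centraliser of a transposition is
the whole group.
-/

set_option autoImplicit false
set_option linter.unusedSectionVars false

namespace CfsgLib.ThreeTrans.FiCent

open Subgroup CfsgLib.Presented CfsgLib.Presented.Fi22Pts
open CfsgLib.ThreeTrans.Inst.FiTwentyTwo (P)
open CfsgLib.ThreeTrans.TypeTop (IsProd isProd_one)

variable {G : Type*} [Group G]

/-- In a dihedral group reflections invert the rotations. -/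
theorem flip_pow {y r : G} (hy : y * y = 1) (h : y * r * y = r⁻¹) (i : ℕ) : y * r ^ i = (r ^ i)⁻¹ * y := by
  have h' : y * r ^ i * y = (r ^ i)⁻¹ := by
    induction i with
    | zero => simp [hy]
    | succ i ih =>
      calc y * r ^ (i + 1) * y = (y * r ^ i * y) * (y * r * y) := by
            rw [pow_succ, show y * r ^ i * y * (y * r * y) = y * r ^ i * (y * y) * r * y by group, hy, mul_one,
              ← mul_assoc y]
        _ = (r ^ (i + 1))⁻¹ := by rw [ih, h, ← mul_inv_rev, ← pow_succ']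
  rw [← h', mul_assoc _ y y, hy, mul_one]

/-- A reflection times an even power of a rotation is a conjugate. -/
theorem flip_conj {y r : G} (hy : y * y = 1) (h : y * r * y = r⁻¹) (i : ℕ) :
    y * r ^ (2 * i) = (r ^ i)⁻¹ * y * r ^ i := by
  rw [two_mul, pow_add, ← mul_assoc, flip_pow hy h]

/-- Two involutions are conjugate, or a central involution of what they generate exchanges or fixes their
classes. -/
theorem dihedral_cases [Finite G] {y z : G} (hy : y * y = 1) (hz : z * z = 1) :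
    IsConj y z ∨ ∃ v : G, v * v = 1 ∧ v ≠ 1 ∧ Commute y v ∧ Commute z v ∧
      (IsConj y (y * v) ∨ (IsConj z (y * v) ∧ IsConj y (z * v))) := by
  obtain ⟨r, hr⟩ : ∃ r, y * z = r := ⟨_, rfl⟩
  have hyr : y * r = z := by rw [← hr, ← mul_assoc, hy, one_mul]
  have hrinv : r⁻¹ = z * y := inv_eq_of_mul_eq_one_right (by
    rw [← hr, mul_assoc, ← mul_assoc z, hz, one_mul, hy])
  have fy : y * r * y = r⁻¹ := by rw [hyr, hrinv]
  have fz : z * r * z = r⁻¹ := by rw [hrinv, ← hr, mul_assoc, mul_assoc y, hz, mul_one]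
  rcases Nat.even_or_odd' (orderOf r) with ⟨k, hk | hk⟩
  swap
  · left
    have e : y = (r ^ k)⁻¹ * z * (r ^ k)⁻¹⁻¹ := by
      rw [inv_inv, ← flip_conj hz fz, ← hyr, mul_assoc, ← pow_succ', ← hk, pow_orderOf_eq_one, mul_one]
    exact (isConj_iff.2 ⟨_, e.symm⟩).symm
  right
  have hk0 : k ≠ 0 := fun e => by
    rw [e, Nat.mul_zero] at hk
    exact (orderOf_pos r).ne' hk
  have hvv : r ^ k * r ^ k = 1 := by rw [← pow_add, ← two_mul, ← hk, pow_orderOf_eq_one]
  have hvinv : (r ^ k)⁻¹ = r ^ k := inv_eq_of_mul_eq_one_right hvv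
  refine ⟨r ^ k, hvv, pow_ne_one_of_lt_orderOf hk0 (by omega), ?_, ?_, ?_⟩
  · show y * r ^ k = r ^ k * y
    rw [flip_pow hy fy, hvinv]
  · show z * r ^ k = r ^ k * z
    rw [flip_pow hz fz, hvinv]
  rcases Nat.even_or_odd' k with ⟨i, hi | hi⟩
  · left
    exact isConj_iff.2 ⟨(r ^ i)⁻¹, by rw [inv_inv, hi, flip_conj hy fy]⟩
  · right
    have e : z * r = z * y * z := by rw [← hr, mul_assoc]
    have hw : z * y * z * (z * y * z) = 1 := by
      rw [show z * y * z * (z * y * z) = z * y * (z * z) * y * z by group, hz, mul_one,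
        mul_assoc z y y, hy, mul_one, hz]
    have fw : z * y * z * r * (z * y * z) = r⁻¹ := by
      rw [hrinv, ← hr]
      calc z * y * z * (y * z) * (z * y * z) = z * y * z * y * (z * z) * y * z := by group
        _ = z * y * z * (y * y) * z := by rw [hz]; group
        _ = z * y * (z * z) := by rw [hy]; group
        _ = z * y := by rw [hz, mul_one]
    refine ⟨isConj_iff.2 ⟨(r ^ i)⁻¹, ?_⟩, isConj_iff.2 ⟨(r ^ i)⁻¹ * z, ?_⟩⟩
    · rw [inv_inv, hi, pow_succ', ← mul_assoc y, hyr, flip_conj hz fz]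
    · rw [hi, pow_succ', ← mul_assoc z, e, flip_conj hw fw]
      rw [mul_inv_rev, inv_inv, inv_eq_of_mul_eq_one_right hz]
      group

variable {d : G} {θ : ↥H0 ≃* ↥(Cd d)} {φ : X →* G} [Finite G]

theorem Emb.type_sq (_E : Emb d θ φ) {n : ℕ} {x : X} (h : IsProd D0 n x) : x * x = 1 :=
  TypeTop.IsProd.sq Inst.FiTwentyTwo.threeSet h

/-- A triple is not fused with a pair. -/
theorem Emb.not_fused (E : Emb d θ φ) {w p : X} (hw : IsProd D0 3 w) (hp : IsProd D0 2 p) {g : G}
    (h : g * φ p * g⁻¹ = φ w) : False := by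
  obtain ⟨t, ht, hwt⟩ := member_fix (E.type_sq hw)
  have hc : Commute (g⁻¹ * φ t * g) (φ p) := by
    have := (hwt.map φ).symm.map (MulAut.conj g⁻¹).toMonoidHom
    rw [← h] at this
    simpa [mul_assoc] using this
  obtain ⟨t', ht'⟩ := E.of_commute_pair hp hc
  have ht'D : t' ∈ D0 := E.mem_D.1 (by
    rw [ht', show g⁻¹ * φ t * g = g⁻¹ * φ t * g⁻¹⁻¹ by rw [inv_inv], conjugatesOf_conj]
    exact E.mapsTo t ht)
  obtain ⟨c, hc'⟩ := P.cls t' ht'D t ht
  have hg : Commute ((φ c)⁻¹ * g) (φ t') := by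
    refine mul_inv_eq_iff_eq_mul.1 ?_
    calc (φ c)⁻¹ * g * φ t' * ((φ c)⁻¹ * g)⁻¹ = (φ c)⁻¹ * (g * φ t' * g⁻¹) * φ c := by group
      _ = (φ c)⁻¹ * φ t * φ c := by rw [ht']; group
      _ = φ t' := by rw [← hc', map_mul, map_mul, map_inv]; group
  obtain ⟨k, hk⟩ := mul_mem (show φ c ∈ φ.range from ⟨c, rfl⟩) (E.of_commute ht'D hg)
  rw [mul_inv_cancel_left] at hk
  have hw2 : IsProd D0 2 w := by
    have e : k * p * k⁻¹ = w := E.inj (by rw [map_mul, map_mul, map_inv, hk, h])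
    exact e ▸ isProd_conj k hp
  exact absurd (len_unique (by norm_num) (by norm_num) (by norm_num) le_rfl hw2 hw) (by norm_num)

/-- What a pair gives for a conjugate of the involution outside. -/
theorem Emb.outside (E : Emb d θ φ) {g : G} (hy : g * d * g⁻¹ ∉ φ.range) {p : X} (hp : IsProd D0 2 p) :
    ∃ v v' m : X, IsProd D0 3 v ∧ IsProd D0 3 v' ∧ φ v = g * φ v' * g⁻¹ ∧ Commute v' (T 0) ∧
      IsProd D0 2 (T 0 * v') ∧ m ∈ D0 ∧ Commute m v ∧ IsProd D0 2 (m * v) ∧ p = m * v := by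
  have hd2 : d * d = 1 := by rw [← E.base, ← map_mul, D0_sq (T_mem 0), map_one]
  have hpD : p ∉ D0 := fun h => by
    have := len_unique (by norm_num) (by norm_num) le_rfl (by norm_num) hp (isProd_one.2 h)
    norm_num at this
  have hnotD : φ p ∉ conjugatesOf d := fun h => hpD (E.mem_D.1 h)
  have hyy : g * d * g⁻¹ * (g * d * g⁻¹) = 1 := by
    rw [show g * d * g⁻¹ * (g * d * g⁻¹) = g * (d * d) * g⁻¹ by group, hd2, mul_one, mul_inv_cancel]
  have hzz : φ p * φ p = 1 := by rw [← map_mul, E.type_sq hp, map_one]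
  have hyD : IsConj d (g * d * g⁻¹) := isConj_iff.2 ⟨g, rfl⟩
  obtain ⟨v, hvv, hv1, hyv, hzv, hcases⟩ :=
    (dihedral_cases hyy hzz).resolve_left fun h => hnotD (hyD.trans h)
  obtain ⟨v₀, hv₀⟩ := E.of_commute_pair hp hzv.symm
  have hv₀2 : v₀ * v₀ = 1 := E.inj (by rw [map_mul, hv₀, hvv, map_one])
  have hv₀1 : v₀ ≠ 1 := fun e => hv1 (by rw [← hv₀, e, map_one])
  have hv₀3 : IsProd D0 3 v₀ := by
    obtain ⟨n, hn1, hn3, hn⟩ := classify hv₀2 hv₀1
    interval_cases n
    · exact absurd (E.of_commute (isProd_one.1 hn) (by rw [hv₀]; exact hyv)) hy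
    · exact absurd (E.of_commute_pair hn (by rw [hv₀]; exact hyv)) hy
    · exact hn
  have hcd : Commute (g⁻¹ * v * g) d := by
    have := hyv.symm.map (MulAut.conj g⁻¹).toMonoidHom
    simpa [mul_assoc] using this
  obtain ⟨⟨v', hv'H⟩, hv'⟩ := E.of_commute_base hcd
  change φ v' = g⁻¹ * v * g at hv'
  have hgv : g * φ v' * g⁻¹ = φ v₀ := by rw [hv', hv₀]; group
  have hc' : Commute v' (T 0) := mem_H0_iff.1 hv'H
  have hv'2 : v' * v' = 1 := E.inj (by
    rw [map_mul, hv', show g⁻¹ * v * g * (g⁻¹ * v * g) = g⁻¹ * (v * v) * g by group, hvv, mul_one,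
      inv_mul_cancel, map_one])
  have hv'1 : v' ≠ 1 := fun e => hv₀1 (E.inj (by rw [← hgv, e, map_one, mul_one, mul_inv_cancel]))
  have hv'3 : IsProd D0 3 v' := by
    obtain ⟨n, hn1, hn3, hn⟩ := classify hv'2 hv'1
    interval_cases n
    · exfalso
      have h1 : v₀ ∈ D0 := E.mem_D.1 (by rw [← hgv, conjugatesOf_conj]; exact E.mapsTo _ (isProd_one.1 hn))
      exact absurd (len_unique (by norm_num) le_rfl (by norm_num) (by norm_num) hv₀3 (isProd_one.2 h1)) (by norm_num)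
    · exact (E.not_fused hv₀3 hn hgv).elim
    · exact hn
  have hav2 : (T 0 * v') * (T 0 * v') = 1 := by
    rw [show T 0 * v' * (T 0 * v') = T 0 * (v' * T 0) * v' by group, hc'.eq,
      show T 0 * (T 0 * v') * v' = (T 0 * T 0) * (v' * v') by group, hv'2, D0_sq (T_mem 0), one_mul]
  have hgyv : g * φ (T 0 * v') * g⁻¹ = g * d * g⁻¹ * v := by
    rw [map_mul, E.base, hv']; group
  rcases hcases with hcase | ⟨hcy, hcz⟩
  · exfalso
    have hD : T 0 * v' ∈ D0 := E.mem_D.1 (by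
      rw [← conjugatesOf_conj g, hgyv]; exact hyD.trans hcase)
    have hne : T 0 * v' ≠ T 0 := fun e' => hv'1 (mul_eq_left.1 e')
    have h2 : IsProd D0 2 v' := by
      have h := pair_prod (T_mem 0) hD hne ((Commute.refl _).mul_right hc'.symm)
      rwa [← mul_assoc, D0_sq (T_mem 0), one_mul] at h
    exact absurd (len_unique (by norm_num) (by norm_num) (by norm_num) le_rfl h2 hv'3) (by norm_num)
  have hm : p * v₀ ∈ D0 := E.mem_D.1 (by
    rw [map_mul, hv₀]; exact hyD.trans hcz)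
  have hpv : Commute p v₀ := E.comm_iff.1 (by rw [hv₀]; exact hzv)
  have hpm : p = p * v₀ * v₀ := by rw [mul_assoc, hv₀2, mul_one]
  refine ⟨v₀, v', p * v₀, hv₀3, hv'3, hgv.symm, hc', ?_, hm, hpv.mul_left (Commute.refl _),
    hpm ▸ hp, hpm⟩
  have hav1 : T 0 * v' ≠ 1 := fun e => by
    have h1 : v' ∈ D0 := by
      rw [show v' = T 0 from mul_left_cancel (e.trans (D0_sq (T_mem 0)).symm)]
      exact T_mem 0
    exact absurd (len_unique (by norm_num) le_rfl (by norm_num) (by norm_num) hv'3 (isProd_one.2 h1)) (by norm_num)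
  obtain ⟨n, hn1, hn3, hn⟩ := classify hav2 hav1
  interval_cases n
  · exfalso
    refine hnotD ?_
    have h := E.mapsTo _ (isProd_one.1 hn)
    rw [← conjugatesOf_conj g, hgyv] at h
    exact IsConj.trans h hcy.symm
  · exact hn
  · exfalso
    obtain ⟨c, hc⟩ := isConj_iff.1 hcy
    refine E.not_fused hn hp (g := g⁻¹ * c) ?_
    rw [show φ (T 0 * v') = g⁻¹ * (g * φ (T 0 * v') * g⁻¹) * g by group, hgyv, ← hc]
    group

/-- All conjugates of the involution are inside. -/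
theorem Emb.conj_mem_range (E : Emb d θ φ) (g : G) : g * d * g⁻¹ ∈ φ.range := by
  classical
  by_contra hy
  obtain ⟨P2, hP2, hcard⟩ := pairs_ge
  obtain ⟨S, hS, hSmem⟩ := options_le
  have hsix : ∀ v' : X, ∃ B : Finset X, B.card ≤ 6 ∧ ∀ v m : X, IsProd D0 3 v → φ v = g * φ v' * g⁻¹ →
      m ∈ D0 → Commute m v → IsProd D0 2 (m * v) → m * v ∈ B := by
    intro v'
    by_cases h : ∃ v : X, IsProd D0 3 v ∧ φ v = g * φ v' * g⁻¹
    · obtain ⟨v₁, h1, h2⟩ := h
      obtain ⟨B, hB, hBm⟩ := six_bound h1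
      refine ⟨B.image (· * v₁), Finset.card_image_le.trans hB, fun v m _ he hm hc hp => ?_⟩
      obtain rfl : v = v₁ := E.inj (he.trans h2.symm)
      exact Finset.mem_image.2 ⟨m, hBm m hm hc hp, rfl⟩
    · exact ⟨∅, by simp, fun v m h3 he => absurd ⟨v, h3, he⟩ h⟩
  choose B hB hBmem using hsix
  have hsub : P2 ⊆ S.biUnion B := fun p hp => by
    obtain ⟨v, v', m, h1, h2, h3, h4, h5, h6, h7, h8, rfl⟩ := E.outside hy (hP2 p hp)
    exact Finset.mem_biUnion.2 ⟨v', hSmem v' h2 h4 h5, hBmem v' v m h1 h3 h6 h7 h8⟩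
  have h1 := (Finset.card_le_card hsub).trans (Finset.card_biUnion_le.trans (Finset.sum_le_card_nsmul S _ 6
    fun v _ => hB v))
  rw [smul_eq_mul] at h1
  omega

/-- The copy is everything. -/
theorem Emb.surjective (E : Emb d θ φ) : Function.Surjective φ := by
  intro g
  obtain ⟨x, hx⟩ := E.conj_mem_range g
  have hxD : x ∈ D0 := E.mem_D.1 (by rw [hx, conjugatesOf_conj]; exact mem_conjugatesOf_self)
  obtain ⟨c, hc⟩ := P.cls _ (T_mem 0) x hxD
  have h : Commute ((φ c)⁻¹ * g) d := by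
    refine mul_inv_eq_iff_eq_mul.1 ?_
    calc (φ c)⁻¹ * g * d * ((φ c)⁻¹ * g)⁻¹ = (φ c)⁻¹ * (g * d * g⁻¹) * φ c := by group
      _ = d := by rw [← hx, ← hc, map_mul, map_mul, map_inv, E.base]; group
  obtain ⟨k, hk⟩ := E.of_commute_base h
  exact ⟨c * k, by rw [map_mul, hk, mul_inv_cancel_left]⟩

end CfsgLib.ThreeTrans.FiCent
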