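import Cfsg.Agent.Lib.ThreeTrans.FiCent.Frames
import Cfsg.Agent.Lib.ThreeTrans.FiCent.ExtendData

/-!
An identification of the first centraliser with the centraliser of an involution, matching the classes,
extends to a monomorphism of the presented Fischer group on 22 letters.
-/

set_option autoImplicit false
set_option maxRecDepth 100000
set_option linter.constructorNameAsVariable false
set_option exponentiation.threshold 4000

namespace CfsgLib.ThreeTrans.FiCent

open Subgroup CfsgLib.Presented CfsgLib.Presented.Fi22Pts ChainData ExtendData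
open CfsgLib.ThreeTrans.Inst.FiTwentyTwo (P maskA)
open Fi22UCosets (ev)
open Fi22UCert (rep)

/-! ### The checks -/

theorem sGens_ok : (sGens.all fun w => ok w && Nat.beq (img w 0) 0 && Nat.beq (img w 2) 2) = true := by
  decide +kernel

theorem sPts_ok : (Nat.beq sGens.length sPts.length &&
    (List.range sPts.length).all (fun k => ok (sGens.getD k []) &&
      sGens.getD k [] == tw ((sGens.getD k []).take ((sGens.getD k []).length / 2)) &&
      Nat.beq (img ((sGens.getD k []).take ((sGens.getD k []).length / 2)) 0) (sPts.getD k 0) &&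
      Nat.blt (sPts.getD k 0) 3510 && Nat.beq (img [0] (sPts.getD k 0)) (sPts.getD k 0) &&
      (Nat.beq (img [6] (sPts.getD k 0)) (sPts.getD k 0) || Nat.beq (sPts.getD k 0) 88)) &&
    allLt (fun q => !bit sMask q || sPts.contains q) 512 && Nat.blt sMask (2 ^ 256)) = true := by
  decide +kernel

theorem sTree_ok : ((grow sGens sTree sMask).1 &&
    agGens.all ok && agGens.all (fun w => Nat.beq (img w 0) 0 && Nat.beq (img w 154) 154) &&
    abChainPts.all (fun p => (grow sGens sTree sMask).2.testBit p) &&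
    abGens.all (fun w => abChainPts.any fun p => ok w && Nat.blt p 3510 &&
      w == tw (w.take (w.length / 2)) && Nat.beq (img (w.take (w.length / 2)) 0) p)) = true := by
  decide +kernel

theorem gTree_ok : (let g := grow agGens gTree (Nat.shiftLeft 1 2)
    g.1 && allLt (fun q => !(Nat.beq (img [6] q) q) || bit maskA q || Nat.beq q 0 || bit g.2 q) 3510) = true := by
  decide +kernel

theorem forest_ok : (let g := grow sGens forest gMask
    g.1 && allLt (fun q => (!bit gMask q || Nat.beq (img [6] q) q) && bit g.2 q) 3510 &&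
      Nat.blt gMask (2 ^ 3510)) = true := by
  decide +kernel

theorem pin_ok : (carry.all (fun x => Nat.blt x 9) && Nat.beq (img carry 0) 0 && Nat.beq (img carry 154) 92 &&
    pinGens.all (fun w => ok w && Nat.beq (img w 0) 0 && Nat.beq (img w 154) 154 && Nat.beq (img w 92) 92 &&
      Nat.beq (img w 2) 2) &&
    allLt (fun p => !(Nat.beq (img [8] p) p) || bit maskA p || Nat.beq p 0 || Nat.beq p 1 || Nat.beq p 2 ||
      pinGens.any (fun w => !(Nat.beq (img w p) p))) 3510) = true := by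
  decide +kernel

variable {G : Type*} [Group G] {d : G} {θ : ↥H0 ≃* ↥(Cd d)}

theorem conj_comm {A : Type*} [Group A] {x y : A} (h : x * y * x⁻¹ = y) : Commute x y :=
  mul_inv_eq_iff_eq_mul.1 h

/-- The frame at the ninth transposition. -/
theorem exists_carried {η : ↥(Cp 154) →* G} (F : Frame d θ 154 η) :
    ∃ η' : ↥(Cp 92) →* G, Frame d θ 92 η' := by
  have hk := pin_ok
  simp only [Bool.and_eq_true, List.all_eq_true, Nat.blt_eq] at hk
  obtain ⟨⟨⟨⟨hk9, hk0⟩, hk1⟩, -⟩, -⟩ := hk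
  have hok : ok carry = true := by
    simp only [ok, List.all_eq_true, Nat.blt_eq]; exact hk9
  set k := el carry with hkdef
  have hkH : k ∈ H0 := el_mem_H0 hok (Nat.eq_of_beq_eq_true hk0)
  have hkT : k * T 154 * k⁻¹ = T 92 := by
    rw [el_conj hok (by decide), Nat.eq_of_beq_eq_true hk1]
  have hmem : ∀ x : ↥(Cp 92), k⁻¹ * (x : X) * k ∈ Cp 154 := fun x => mem_Cp_iff.2 <| by
    have := (mem_Cp_iff.1 x.2).map (MulAut.conj k⁻¹).toMonoidHom
    simp only [MulEquiv.coe_toMonoidHom, MulAut.conj_apply, inv_inv] at this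
    rwa [show k⁻¹ * T 92 * k = T 154 by rw [← hkT]; group] at this
  let t : G := θ ⟨k, hkH⟩
  let η' : ↥(Cp 92) →* G := MonoidHom.mk' (fun x => t * η ⟨_, hmem x⟩ * t⁻¹) fun x x' => by
    rw [show (⟨_, hmem (x * x')⟩ : ↥(Cp 154)) = ⟨_, hmem x⟩ * ⟨_, hmem x'⟩ from Subtype.ext (by
      show k⁻¹ * ((x : X) * (x' : X)) * k = k⁻¹ * x * k * (k⁻¹ * x' * k)
      group), map_mul]
    group
  refine ⟨η', ⟨fun x x' e => ?_, fun hh => ?_, fun x => ?_, fun x h₁ h₂ => ?_⟩⟩
  · have e1 := congrArg Subtype.val (F.inj (mul_left_cancel (mul_right_cancel e)))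
    exact Subtype.ext (mul_left_cancel (mul_right_cancel (e1 : k⁻¹ * (x : X) * k = k⁻¹ * (x' : X) * k)))
  · have hg : T 154 ∈ Cp 154 := mem_Cp_iff.2 (Commute.refl _)
    have eq : η' ⟨T 92, hh⟩ = t * η ⟨T 154, hg⟩ * t⁻¹ := by
      show t * η ⟨_, hmem ⟨T 92, hh⟩⟩ * t⁻¹ = _
      rw [show (⟨_, hmem ⟨T 92, hh⟩⟩ : ↥(Cp 154)) = ⟨T 154, hg⟩ from Subtype.ext (by
        show k⁻¹ * T 92 * k = T 154
        rw [← hkT]; group)]
    rw [eq]
    ext z
    rw [mem_centralizer_singleton_iff]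
    constructor
    · rintro ⟨x, rfl⟩
      rw [← eq, ← map_mul, ← map_mul]
      exact congrArg η' (Subtype.ext (mem_Cp_iff.1 x.2).eq)
    · intro hz
      have hz' : t⁻¹ * z * t ∈ η.range := by
        rw [F.cent hg, mem_centralizer_singleton_iff]
        calc t⁻¹ * z * t * η ⟨T 154, hg⟩ = t⁻¹ * (z * (t * η ⟨T 154, hg⟩ * t⁻¹)) * t := by group
          _ = t⁻¹ * (t * η ⟨T 154, hg⟩ * t⁻¹ * z) * t := by rw [hz]
          _ = η ⟨T 154, hg⟩ * (t⁻¹ * z * t) := by group
      obtain ⟨x, hx⟩ := hz'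
      have hx' : k * (x : X) * k⁻¹ ∈ Cp 92 := mem_Cp_iff.2 <| by
        have := (mem_Cp_iff.1 x.2).map (MulAut.conj k).toMonoidHom
        simp only [MulEquiv.coe_toMonoidHom, MulAut.conj_apply] at this
        rwa [hkT] at this
      refine ⟨⟨_, hx'⟩, ?_⟩
      show t * η ⟨_, hmem ⟨_, hx'⟩⟩ * t⁻¹ = z
      rw [show (⟨_, hmem ⟨_, hx'⟩⟩ : ↥(Cp 154)) = x from Subtype.ext (by
        show k⁻¹ * (k * (x : X) * k⁻¹) * k = x; group), hx]
      group
  · show t * η ⟨_, hmem x⟩ * t⁻¹ ∈ _ ↔ _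
    rw [conjugatesOf_conj, F.cls]
    show k⁻¹ * (x : X) * k ∈ D0 ↔ _
    rw [show k⁻¹ * (x : X) * k = k⁻¹ * (x : X) * k⁻¹⁻¹ by rw [inv_inv], D0_conj]
  · show t * η ⟨_, hmem ⟨x, h₂⟩⟩ * t⁻¹ = _
    have hx' : k⁻¹ * x * k ∈ H0 := mul_mem (mul_mem (inv_mem hkH) h₁) hkH
    rw [F.agree _ hx' (hmem ⟨x, h₂⟩), ← Subgroup.coe_inv, ← Subgroup.coe_mul, ← Subgroup.coe_mul, ← map_inv,
      ← map_mul, ← map_mul]
    exact congrArg (fun y : ↥H0 => (θ y : G)) (Subtype.ext (by
      show k * (k⁻¹ * x * k) * k⁻¹ = x; group))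

theorem Frame.conj_a {q : ℕ} {η : ↥(Cp q) →* G} (F : Frame d θ q η) (h : T 0 ∈ Cp q) :
    Frame d θ q (η.comp (MulAut.conj (⟨T 0, h⟩ : ↥(Cp q))).toMonoidHom) := by
  refine ⟨F.inj.comp (MulEquiv.injective _), fun hh => ?_, fun x => ?_, fun x h₁ h₂ => ?_⟩
  · have e : MulAut.conj (⟨T 0, h⟩ : ↥(Cp q)) ⟨T q, hh⟩ = ⟨T q, hh⟩ := Subtype.ext (by
      show T 0 * T q * (T 0)⁻¹ = T q
      rw [(mem_Cp_iff.1 h).eq, mul_inv_cancel_right])
    rw [MonoidHom.comp_apply, MulEquiv.coe_toMonoidHom, e, MonoidHom.range_comp,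
      MonoidHom.range_eq_top.2 (MulEquiv.surjective _), ← MonoidHom.range_eq_map, F.cent]
  · show η (MulAut.conj (⟨T 0, h⟩ : ↥(Cp q)) x) ∈ _ ↔ _
    rw [F.cls]
    exact D0_conj (T 0)
  · show η (MulAut.conj (⟨T 0, h⟩ : ↥(Cp q)) ⟨x, h₂⟩) = _
    rw [show MulAut.conj (⟨T 0, h⟩ : ↥(Cp q)) ⟨x, h₂⟩ = ⟨x, h₂⟩ from Subtype.ext (by
      show T 0 * x * (T 0)⁻¹ = x
      rw [(mem_H0_iff.1 h₁).symm.eq, mul_inv_cancel_right])]
    exact F.agree x h₁ h₂

theorem ev_eq_T {x : ℕ} (hx : x < 9) {p : ℕ} (hp : gpts.getD x 0 = p) : el [x] = T p := by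
  rw [el_one, ← T_gpts x hx, hp]

theorem T_comm_of_img {x : ℕ} (hx : x < 9) {p q : ℕ} (hp : gpts.getD x 0 = p) (hq : q < rep.N)
    (h : img [x] q = q) : Commute (T p) (T q) := by
  rw [← ev_eq_T hx hp]
  exact (commute_el_iff (by rw [ok, List.all_cons, List.all_nil, Bool.and_true, Nat.blt_eq]; exact hx) hq).2 h

/-- The second generator has an image commuting with the image of its centraliser. -/
theorem exists_second (L : Link d θ) :
    ∃ (η : ↥(Cp 154) →* G) (hb : T 2 ∈ Cp 154), Frame d θ 154 η ∧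
      ∀ x : ↥H0, Commute (x : X) (T 2) → Commute (η ⟨T 2, hb⟩) (θ x : G) := by
  classical
  obtain ⟨η, F⟩ := exists_frame L
  obtain ⟨η₁, F₁⟩ := exists_carried F
  have hb : T 2 ∈ Cp 154 := mem_Cp_iff.2
    (T_comm_of_img (x := 6) (by decide) rfl (by decide) (by decide +kernel)).symm
  set B := η ⟨T 2, hb⟩ with hB
  have hi92 : T 92 ∈ Cp 154 := mem_Cp_iff.2
    (T_comm_of_img (x := 6) (by decide) rfl (by decide) (by decide +kernel)).symm
  have hi0 : T 92 ∈ H0 := mem_H0_iff.2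
    (T_comm_of_img (x := 0) (by decide) rfl (by decide) (by decide +kernel)).symm
  have hi2 : Commute (T 92) (T 2) := T_comm_of_img (x := 8) (by decide) rfl (by decide) (by decide +kernel)
  have h92 : T 92 ∈ Cp 92 := mem_Cp_iff.2 (Commute.refl _)
  have hBr : B ∈ η₁.range := by
    rw [F₁.cent h92, mem_centralizer_singleton_iff, F₁.agree _ hi0 h92, ← F.agree _ hi0 hi92, hB,
      ← map_mul, ← map_mul]
    exact congrArg η (Subtype.ext hi2.symm.eq)
  obtain ⟨x₀, hx₀⟩ := hBr
  have hx₀D : (x₀ : X) ∈ D0 := (F₁.cls x₀).1 (by rw [hx₀, hB, F.cls]; exact T_mem 2)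
  obtain ⟨p, hp, hpe⟩ := exists_T hx₀D
  have hk := pin_ok
  simp only [Bool.and_eq_true, List.all_eq_true, Nat.blt_eq] at hk
  obtain ⟨⟨-, hpin⟩, hcand⟩ := hk
  -- it does not commute with the first
  have h01 : T 0 ∈ Cp 154 := mem_Cp_iff.2 (mem_H0_iff.1 T154_mem_H0).symm
  have h02 : T 0 ∈ Cp 92 := mem_Cp_iff.2 (mem_H0_iff.1 hi0).symm
  have h00 : T 0 ∈ H0 := mem_H0_iff.2 (Commute.refl _)
  have hnc : ¬ Commute (x₀ : X) (T 0) := fun hc => by
    have h1 : η₁ (x₀ * ⟨T 0, h02⟩) = η₁ (⟨T 0, h02⟩ * x₀) := congrArg η₁ (Subtype.ext hc.eq)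
    rw [map_mul, map_mul, hx₀, F₁.agree _ h00 h02, ← F.agree _ h00 h01, hB, ← map_mul, ← map_mul] at h1
    have h2 : Commute (T 2) (T 0) := congrArg Subtype.val (F.inj h1)
    rw [← ev_eq_T (x := 0) (by decide) (p := 0) rfl] at h2
    have := (commute_el_iff (by decide) (by decide)).1 h2.symm
    exact absurd this (by decide +kernel)
  have hfixp : ∀ w ∈ pinGens, img w p = p := by
    intro w hw
    obtain ⟨⟨⟨⟨hwok, hw0⟩, hw154⟩, hw92⟩, hw2⟩ := hpin w hw
    have m0 : el w ∈ H0 := el_mem_H0 hwok (Nat.eq_of_beq_eq_true hw0)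
    have mg : el w ∈ Cp 154 := mem_Cp_iff.2 ((commute_el_iff hwok (by decide)).2 (Nat.eq_of_beq_eq_true hw154))
    have mi : el w ∈ Cp 92 := mem_Cp_iff.2 ((commute_el_iff hwok (by decide)).2 (Nat.eq_of_beq_eq_true hw92))
    have h1 : η (⟨el w, mg⟩ * ⟨T 2, hb⟩) = η (⟨T 2, hb⟩ * ⟨el w, mg⟩) :=
      congrArg η (Subtype.ext ((commute_el_iff hwok (by decide)).2 (Nat.eq_of_beq_eq_true hw2)).eq)
    rw [map_mul, map_mul, F.agree _ m0 mg, ← F₁.agree _ m0 mi, ← hB, ← hx₀, ← map_mul, ← map_mul] at h1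
    have h2 : Commute (el w) (x₀ : X) := congrArg Subtype.val (F₁.inj h1)
    rw [← hpe] at h2
    exact (commute_el_iff hwok hp).1 h2
  have hp12 : p = 1 ∨ p = 2 := by
    have := allLt_spec hcand p hp
    have i8 : Nat.beq (img [8] p) p = true := by
      have h1 : Commute (x₀ : X) (T 92) := mem_Cp_iff.1 x₀.2
      rw [← hpe, ← ev_eq_T (x := 8) (by decide) (p := 92) rfl] at h1
      rw [(commute_el_iff (by decide) hp).1 h1.symm, Nat.beq_refl]
    have m : bit maskA p = false := by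
      rw [bit_eq, ← Bool.not_eq_true]
      intro hbit
      apply hnc
      rw [← hpe, T_zero]
      exact ((commute_a_iff (pt p)).2 (Or.inr (by rwa [pt_val hp]))).symm
    have z : Nat.beq p 0 = false := by
      rw [← Bool.not_eq_true]
      intro e
      apply hnc
      rw [← hpe, Nat.eq_of_beq_eq_true e]
    have nofix : (pinGens.any fun w => !(Nat.beq (img w p) p)) = false := by
      rw [← Bool.not_eq_true]
      intro e
      obtain ⟨w, hw, e'⟩ := List.any_eq_true.1 e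
      rw [hfixp w hw, Nat.beq_refl] at e'
      exact Bool.noConfusion e'
    rw [i8, m, z, nofix] at this
    simpa using this
  -- a frame at the ninth with the same second generator
  obtain ⟨η₂, F₂, hb2, e2⟩ : ∃ η₂ : ↥(Cp 92) →* G, Frame d θ 92 η₂ ∧
      ∃ hb2 : T 2 ∈ Cp 92, η₂ ⟨T 2, hb2⟩ = B := by
    have hb2 : T 2 ∈ Cp 92 := mem_Cp_iff.2 hi2.symm
    rcases hp12 with rfl | rfl
    · refine ⟨_, F₁.conj_a h02, hb2, ?_⟩
      rw [← hx₀, MonoidHom.comp_apply]
      refine congrArg η₁ (Subtype.ext ?_)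
      show T 0 * T 2 * (T 0)⁻¹ = x₀
      rw [← hpe, ← ev_eq_T (x := 0) (by decide) (p := 0) rfl, el_conj (by decide) (by decide)]
      exact congrArg T (by decide +kernel)
    · exact ⟨η₁, F₁, hb2, by rw [← hx₀]; exact congrArg η₁ (Subtype.ext hpe)⟩
  refine ⟨η, hb, F, fun x hx => ?_⟩
  -- the elements whose images commute with the second
  let K : Subgroup ↥H0 := (centralizer ({B} : Set G)).comap ((Cd d).subtype.comp θ.toMonoidHom)
  suffices hK : x ∈ K from Commute.symm (mem_centralizer_singleton_iff.1 hK)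
  have hsp := sPts_ok
  simp only [Bool.and_eq_true, List.all_eq_true, Nat.blt_eq, List.mem_range, beq_iff_eq,
    Bool.or_eq_true] at hsp
  obtain ⟨⟨⟨hlen, hsp⟩, hmask⟩, hsm⟩ := hsp
  have hlen' : sGens.length = sPts.length := Nat.eq_of_beq_eq_true hlen
  have hsg := sGens_ok
  simp only [Bool.and_eq_true, List.all_eq_true] at hsg
  have hsT : ∀ k, k < sPts.length → el (sGens.getD k []) = T (sPts.getD k 0) := fun k hk => by
    obtain ⟨⟨⟨⟨⟨h1, h2⟩, h3⟩, -⟩, -⟩, -⟩ := hsp k hk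
    rw [h2, ← Nat.eq_of_beq_eq_true h3]
    refine evW_tw ?_
    rw [h2, tw, ok_append, ok_append] at h1
    simp only [Bool.and_eq_true] at h1
    exact h1.1.1
  have hsK : ∀ k, k < sPts.length → ∃ hm : T (sPts.getD k 0) ∈ H0, (⟨_, hm⟩ : ↥H0) ∈ K := by
    intro k hk
    obtain ⟨⟨⟨⟨⟨h1, -⟩, -⟩, hN⟩, h0⟩, h6⟩ := hsp k hk
    have hm : T (sPts.getD k 0) ∈ H0 := mem_H0_iff.2
      (T_comm_of_img (x := 0) (by decide) rfl hN (Nat.eq_of_beq_eq_true h0)).symm
    have hmemk : sGens.getD k [] ∈ sGens := by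
      rw [List.getD_eq_getElem _ _ (hlen' ▸ hk)]; exact List.getElem_mem _
    have hc2 : Commute (T (sPts.getD k 0)) (T 2) := by
      rw [← hsT k hk]
      exact (commute_el_iff h1 (by decide)).2 (Nat.eq_of_beq_eq_true (hsg _ hmemk).2)
    refine ⟨hm, mem_centralizer_singleton_iff.2 ?_⟩
    show (θ ⟨_, hm⟩ : G) * B = B * θ ⟨_, hm⟩
    rcases h6 with h6 | h6
    · have hg : T (sPts.getD k 0) ∈ Cp 154 := mem_Cp_iff.2
        (T_comm_of_img (x := 6) (by decide) rfl hN (Nat.eq_of_beq_eq_true h6)).symm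
      rw [← F.agree _ hm hg, hB, ← map_mul, ← map_mul]
      exact congrArg η (Subtype.ext hc2.eq)
    · have hi : T (sPts.getD k 0) ∈ Cp 92 := mem_Cp_iff.2
        (T_comm_of_img (x := 8) (by decide) rfl hN (by
          rw [Nat.eq_of_beq_eq_true h6]; decide +kernel)).symm
      rw [← F₂.agree _ hm hi, ← e2, ← map_mul, ← map_mul]
      exact congrArg η₂ (Subtype.ext hc2.eq)
  have hst := sTree_ok
  simp only [Bool.and_eq_true, List.all_eq_true, List.any_eq_true, beq_iff_eq, Nat.blt_eq] at hst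
  obtain ⟨⟨⟨⟨hgr, -⟩, -⟩, hpts⟩, habg⟩ := hst
  have hall : ∀ q, (grow sGens sTree sMask).2.testBit q = true →
      ∃ hm : T q ∈ H0, (⟨_, hm⟩ : ↥H0) ∈ K := by
    refine grow_spec (fun q => ∃ hm : T q ∈ H0, (⟨_, hm⟩ : ↥H0) ∈ K) (fun w hw q hq hQ => ?_) hgr
      (fun q hq => ?_)
    · obtain ⟨k, hk, rfl⟩ := List.mem_iff_getElem.1 hw
      obtain ⟨hkm, hkK⟩ := hsK k (hlen' ▸ hk)
      obtain ⟨hqm, hqK⟩ := hQ
      have e : T (img sGens[k] q) = T (sPts.getD k 0) * T q * (T (sPts.getD k 0))⁻¹ := by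
        rw [← hsT k (hlen' ▸ hk), List.getD_eq_getElem _ _ hk,
          el_conj (hsg _ (List.getElem_mem hk)).1.1 hq]
      have hm : T (img sGens[k] q) ∈ H0 := e ▸ mul_mem (mul_mem hkm hqm) (inv_mem hkm)
      refine ⟨hm, ?_⟩
      rw [show (⟨_, hm⟩ : ↥H0) = ⟨_, hkm⟩ * ⟨_, hqm⟩ * ⟨_, hkm⟩⁻¹ from Subtype.ext e]
      exact mul_mem (mul_mem hkK hqK) (inv_mem hkK)
    · have hlt : q < 512 := by
        by_contra hge
        rw [Nat.testBit_eq_false_of_lt (lt_of_lt_of_le hsm
          (Nat.pow_le_pow_right (by norm_num) (le_trans (by norm_num) (not_lt.1 hge))))] at hq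
        exact Bool.noConfusion hq
      have h1 := allLt_spec hmask q hlt
      rw [bit_eq, hq] at h1
      have hq' : q ∈ sPts := by simpa using h1
      obtain ⟨k, hk, rfl⟩ := List.mem_iff_getElem.1 hq'
      rw [← List.getD_eq_getElem sPts 0 hk]
      exact hsK k hk
  have hle : gp abGens ≤ K.map H0.subtype := by
    refine (Subgroup.closure_le _).2 ?_
    rintro _ ⟨w, hw, rfl⟩
    obtain ⟨p, hp', ⟨⟨hwok, hpN⟩, e1⟩, e2'⟩ := habg w hw
    have hok' : ok (w.take (w.length / 2)) = true := by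
      simp only [ok, List.all_eq_true] at hwok ⊢
      exact fun y hy => hwok y (List.take_subset _ _ hy)
    obtain ⟨hm, hmK⟩ := hall p (hpts p hp')
    refine ⟨⟨_, hm⟩, hmK, ?_⟩
    show T p = el w
    rw [e1, ← Nat.eq_of_beq_eq_true e2']
    exact (evW_tw hok').symm
  have hx2 : (x : X) ∈ Cpair 2 := ⟨x.2, mem_Cp_iff.2 hx⟩
  rw [← Cpair_ab] at hx2
  obtain ⟨y, hy, e⟩ := hle hx2
  rwa [← Subtype.ext (show (y : X) = x from e)]

/-- The monomorphism. -/
theorem exists_embedding (L : Link d θ) (hd : d ≠ 1) :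
    ∃ φ : X →* G, Function.Injective φ ∧ φ Inst.FiTwentyTwo.a = d ∧
      (∀ x : ↥H0, φ x = θ x) ∧ ∀ x ∈ D0, φ x ∈ conjugatesOf d := by
  classical
  obtain ⟨η, hb, F, hcomm⟩ := exists_second L
  set B := η ⟨T 2, hb⟩ with hB
  have h01 : T 0 ∈ Cp 154 := mem_Cp_iff.2 (mem_H0_iff.1 T154_mem_H0).symm
  have h00 : T 0 ∈ H0 := mem_H0_iff.2 (Commute.refl _)
  have eθ0 : (θ ⟨T 0, h00⟩ : G) = d := by
    rw [show (⟨T 0, h00⟩ : ↥H0) = aH from Subtype.ext T_zero]; exact L.base
  -- the map on the points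
  let near : Fin rep.N → Prop := fun j => P.tp j ∈ H0
  let far : Fin rep.N → Prop := fun j => ∃ h : ↥H0, P.φ h (pt 2) = j
  let Fv : Fin rep.N → G := fun j =>
    if hj : near j then (θ ⟨P.tp j, hj⟩ : G)
    else if hf : far j then (θ hf.choose : G) * B * (θ hf.choose : G)⁻¹ else 1
  have hnot2 : ¬ Commute (T 2) (T 0) := fun h2 => by
    rw [← ev_eq_T (x := 0) (by decide) (p := 0) rfl] at h2
    exact absurd ((commute_el_iff (by decide) (by decide)).1 h2.symm) (by decide +kernel)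
  have Fnear : ∀ j (hj : near j), Fv j = θ ⟨P.tp j, hj⟩ := fun j hj => dif_pos hj
  have Ffar : ∀ (h : ↥H0) j, P.φ h (pt 2) = j → Fv j = (θ h : G) * B * (θ h : G)⁻¹ := by
    intro h j hj
    have hnn : ¬ near j := fun hn => by
      have h1 : Commute (P.tp j) (T 0) := mem_H0_iff.1 hn
      rw [← hj, ← P.conj_tp] at h1
      apply hnot2
      have h2 := h1.map (MulAut.conj ((h : X))⁻¹).toMonoidHom
      simp only [MulEquiv.coe_toMonoidHom, MulAut.conj_apply, inv_inv] at h2
      rwa [show (h : X)⁻¹ * ((h : X) * P.tp (pt 2) * (h : X)⁻¹) * (h : X) = T 2 by rw [T]; group,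
        show (h : X)⁻¹ * T 0 * (h : X) = T 0 by
          rw [mul_assoc, ← (mem_H0_iff.1 h.2).eq, inv_mul_cancel_left]] at h2
    have hf : far j := ⟨h, hj⟩
    simp only [Fv, dif_neg hnn, dif_pos hf]
    set k := hf.choose with hk
    have hfix : Commute ((h⁻¹ * k : ↥H0) : X) (T 2) := by
      rw [commute_T_iff, Subgroup.coe_mul, Subgroup.coe_inv, map_mul, Equiv.Perm.mul_apply, hf.choose_spec,
        map_inv, Equiv.Perm.inv_def, Equiv.symm_apply_eq, hj]
    have hc := hcomm _ hfix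
    rw [map_mul, map_inv, Subgroup.coe_mul, Subgroup.coe_inv] at hc
    calc (θ k : G) * B * (θ k : G)⁻¹
        = (θ h : G) * ((θ h : G)⁻¹ * θ k * B * ((θ h : G)⁻¹ * θ k)⁻¹) * (θ h : G)⁻¹ := by group
      _ = (θ h : G) * B * (θ h : G)⁻¹ := by rw [← hc.eq, mul_inv_cancel_right]
  have cover : ∀ j, near j ∨ far j := by
    intro j
    by_cases hc : near j
    · exact Or.inl hc
    · right
      have hB' : Inst.FiTwentyTwo.maskB.testBit (j : ℕ) = true := by
        rcases Inst.FiTwentyTwo.cover j with e | e | e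
        · exact absurd (show P.tp j ∈ H0 by rw [e, tp_base]; exact aH.2) hc
        · exact absurd (mem_H0_iff.2 (by rw [T_zero]; exact ((commute_a_iff j).2 (Or.inr e)).symm)) hc
        · exact e
      obtain ⟨k, hk0, hk⟩ := Inst.FiTwentyTwo.reachB (p := pt 2) (by decide +kernel) hB'
      refine ⟨⟨k, mem_H0_iff.2 ?_⟩, hk⟩
      rw [commute_T_iff, pt_zero]
      exact hk0
  -- conjugation by the first centraliser
  have equivH : ∀ (h : ↥H0) j, (θ h : G) * Fv j * (θ h : G)⁻¹ = Fv (P.φ h j) := by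
    intro h j
    rcases cover j with hj | ⟨k, hk⟩
    · have hj' : near (P.φ h j) := by
        show P.tp (P.φ h j) ∈ H0
        rw [← P.conj_tp]; exact mul_mem (mul_mem h.2 hj) (inv_mem h.2)
      rw [Fnear j hj, Fnear _ hj', ← Subgroup.coe_inv, ← Subgroup.coe_mul, ← Subgroup.coe_mul, ← map_inv,
        ← map_mul, ← map_mul]
      exact congrArg (fun y : ↥H0 => (θ y : G)) (Subtype.ext (P.conj_tp (h : X) j))
    · rw [Ffar k j hk, Ffar (h * k) (P.φ h j) (by rw [Subgroup.coe_mul, map_mul, Equiv.Perm.mul_apply, hk]),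
        map_mul, Subgroup.coe_mul]
      group
  -- on the centraliser of the seventh
  have hgt := gTree_ok
  simp only [Bool.and_eq_true] at hgt
  have hst := sTree_ok
  simp only [Bool.and_eq_true, List.all_eq_true] at hst
  obtain ⟨⟨⟨⟨-, hagok⟩, hag⟩, -⟩, -⟩ := hst
  have hgt' : ∀ q, (grow agGens gTree (Nat.shiftLeft 1 2)).2.testBit q = true →
      ∃ hm : T q ∈ Cp 154, Fv (pt q) = η ⟨T q, hm⟩ := by
    refine grow_spec (fun q => ∃ hm : T q ∈ Cp 154, Fv (pt q) = η ⟨T q, hm⟩) (fun w hw q hq hQ => ?_) hgt.1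
      (fun q hq => ?_)
    · obtain ⟨hm, e⟩ := hQ
      have w0 : el w ∈ H0 := el_mem_H0 (hagok w hw) (Nat.eq_of_beq_eq_true (hag w hw).1)
      have wg : el w ∈ Cp 154 := mem_Cp_iff.2
        ((commute_el_iff (hagok w hw) (by decide)).2 (Nat.eq_of_beq_eq_true (hag w hw).2))
      have eT := el_conj (hagok w hw) hq
      refine ⟨eT ▸ mul_mem (mul_mem wg hm) (inv_mem wg), ?_⟩
      have e2 : Fv (pt (img w q)) = (θ ⟨el w, w0⟩ : G) * Fv (pt q) * (θ ⟨el w, w0⟩ : G)⁻¹ := by
        rw [equivH, el_img (hagok w hw) hq]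
      rw [e2, e, ← F.agree _ w0 wg, ← map_inv, ← map_mul, ← map_mul]
      exact congrArg η (Subtype.ext eT)
    · rw [Nat.shiftLeft_eq', Nat.shiftLeft_eq, one_mul, Nat.testBit_two_pow, decide_eq_true_eq] at hq
      subst hq
      refine ⟨hb, ?_⟩
      rw [Ffar 1 (pt 2) (by rw [OneMemClass.coe_one, map_one]; rfl), map_one, OneMemClass.coe_one]
      group
      rw [hB]
  have eqG : ∀ q, q < rep.N → ∀ hm : T q ∈ Cp 154, Fv (pt q) = η ⟨T q, hm⟩ := by
    intro q hq hm
    by_cases hn : T q ∈ H0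
    · rw [Fnear (pt q) hn]
      exact (F.agree _ hn hm).symm
    · have h1 := allLt_spec hgt.2 q hq
      have e6 : img [6] q = q := by
        have h2 : Commute (T q) (T 154) := mem_Cp_iff.1 hm
        rw [← ev_eq_T (x := 6) (by decide) (p := 154) rfl] at h2
        exact (commute_el_iff (by decide) hq).1 h2.symm
      have nA : bit maskA q = false := by
        rw [bit_eq, ← Bool.not_eq_true]
        intro e
        exact hn (mem_H0_iff.2 (by
          rw [T_zero]; exact ((commute_a_iff (pt q)).2 (Or.inr (by rwa [pt_val hq]))).symm))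
      have n0 : Nat.beq q 0 = false := by
        rw [← Bool.not_eq_true]
        intro e
        exact hn (by rw [Nat.eq_of_beq_eq_true e]; exact h00)
      rw [e6, nA, n0, Nat.beq_refl] at h1
      simp only [Bool.not_true, Bool.false_or, bit_eq] at h1
      exact (hgt' q h1).2
  -- conjugation by the second generator
  have e1T : el [1] = T 2 := ev_eq_T (by decide) rfl
  have hfo := forest_ok
  simp only [Bool.and_eq_true] at hfo
  obtain ⟨⟨hfg, hfall⟩, hfm⟩ := hfo
  rw [Nat.blt_eq] at hfm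
  have equivB : ∀ q, q < rep.N → B * Fv (pt q) * B⁻¹ = Fv (pt (img [1] q)) := by
    intro q hq
    have hh := allLt_spec hfall q hq
    rw [Bool.and_eq_true, bit_eq, bit_eq] at hh
    refine (grow_spec (fun r => r < rep.N ∧ B * Fv (pt r) * B⁻¹ = Fv (pt (img [1] r)))
      (fun w hw r hr hQ => ?_) hfg (fun r hr => ?_) q hh.2).2
    · have hsg := sGens_ok
      simp only [Bool.and_eq_true, List.all_eq_true] at hsg
      obtain ⟨⟨hwok, hw0⟩, hw2⟩ := hsg w hw
      refine ⟨img_lt hwok hr, ?_⟩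
      have w0 : el w ∈ H0 := el_mem_H0 hwok (Nat.eq_of_beq_eq_true hw0)
      have wc : Commute (el w) (T 2) := (commute_el_iff hwok (by decide)).2 (Nat.eq_of_beq_eq_true hw2)
      have hc := hcomm ⟨el w, w0⟩ wc
      have e1 : Fv (pt (img w r)) = (θ ⟨el w, w0⟩ : G) * Fv (pt r) * (θ ⟨el w, w0⟩ : G)⁻¹ := by
        rw [equivH, el_img hwok hr]
      have h1ok : ok [1] = true := by decide
      have e2 : pt (img [1] (img w r)) = P.φ ((⟨el w, w0⟩ : ↥H0) : X) (pt (img [1] r)) := by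
        rw [← el_img h1ok (img_lt hwok hr), ← el_img hwok hr, ← el_img h1ok hr, e1T, ← Equiv.Perm.mul_apply,
          ← map_mul, ← Equiv.Perm.mul_apply, ← map_mul]
        exact congrArg (fun g => P.φ g (pt r)) wc.eq.symm
      rw [e1, e2, ← equivH, ← hQ.2]
      calc B * ((θ ⟨el w, w0⟩ : G) * Fv (pt r) * (θ ⟨el w, w0⟩ : G)⁻¹) * B⁻¹
          = B * (θ ⟨el w, w0⟩ : G) * Fv (pt r) * (B * (θ ⟨el w, w0⟩ : G))⁻¹ := by group
        _ = (θ ⟨el w, w0⟩ : G) * B * Fv (pt r) * ((θ ⟨el w, w0⟩ : G) * B)⁻¹ := by rw [hc.eq]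
        _ = _ := by group
    · have hrN : r < rep.N := by
        by_contra hge
        rw [Nat.testBit_eq_false_of_lt (lt_of_lt_of_le hfm
          (Nat.pow_le_pow_right (by norm_num) (not_lt.1 hge)))] at hr
        exact Bool.noConfusion hr
      refine ⟨hrN, ?_⟩
      have h1 := allLt_spec hfall r hrN
      rw [Bool.and_eq_true, bit_eq, hr, Bool.not_true, Bool.false_or] at h1
      have m6 : T r ∈ Cp 154 := mem_Cp_iff.2
        (T_comm_of_img (x := 6) (by decide) rfl hrN (Nat.eq_of_beq_eq_true h1.1)).symm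
      have eT : T 2 * T r * (T 2)⁻¹ = T (img [1] r) := by rw [← e1T, el_conj (by decide) hrN]
      have m6' : T (img [1] r) ∈ Cp 154 := eT ▸ mul_mem (mul_mem hb m6) (inv_mem hb)
      rw [eqG r hrN m6, eqG _ (img_lt (by decide) hrN) m6', hB, ← map_inv, ← map_mul, ← map_mul]
      exact congrArg η (Subtype.ext eT)
  -- the generators
  have hl0 : ∀ x, x < 9 → x ≠ 1 → el [x] ∈ H0 := by
    have key : ∀ x, x < 9 → x ≠ 1 → ok [x] = true ∧ img [x] 0 = 0 := by decide +kernel
    exact fun x hx hx1 => el_mem_H0 (key x hx hx1).1 (key x hx hx1).2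
  let f : ℕ → G := fun x => if hx : x < 9 ∧ x ≠ 1 then (θ ⟨el [x], hl0 x hx.1 hx.2⟩ : G) else B
  let fg : Cfsg.Spor.Fi22.Gen → G := fun g => f (Fi22UCosets.letters.idx g)
  have hLev : ∀ x, x < 9 → Fi22UCosets.letters.ev fg x = f x := by
    intro x hx
    have h : ∀ y, y < 9 → (Fi22UCosets.letters.gen y).2 = true ∧
        Fi22UCosets.letters.idx (Fi22UCosets.letters.gen y).1 = y := by decide +kernel
    obtain ⟨h1, h2⟩ := h x hx
    rw [Letters.ev, if_pos (show x < Fi22UCosets.letters.A.eps from hx), h1, cond_true]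
    show f (Fi22UCosets.letters.idx (Fi22UCosets.letters.gen x).1) = f x
    rw [h2]
  have hstep : ∀ x, x < 9 → ∀ j, f x * Fv j * (f x)⁻¹ = Fv (P.φ (el [x]) j) := by
    intro x hx j
    by_cases hx1 : x = 1
    · subst hx1
      show B * Fv j * B⁻¹ = _
      rw [← pt_self j, equivB _ j.2, el_img (by decide) j.2]
    · simp only [f, dif_pos (And.intro hx hx1)]
      exact equivH _ j
  have hword : ∀ w, ok w = true → ∀ j,
      evW (Fi22UCosets.letters.ev fg) w * Fv j * (evW (Fi22UCosets.letters.ev fg) w)⁻¹ = Fv (P.φ (el w) j) := by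
    intro w
    induction w with
    | nil => intro _ j; simp [el]
    | cons x w ih =>
      intro hw j
      rw [ok, List.all_cons, Bool.and_eq_true, Nat.blt_eq] at hw
      rw [evW_cons, show el (x :: w) = el [x] * el w from el_append [x] w, map_mul, Equiv.Perm.mul_apply,
        ← hstep x hw.1, ← ih hw.2 j, hLev x hw.1]
      group
  have F0 : Fv (pt 0) = d := by
    rw [Fnear (pt 0) h00]; exact eθ0
  have hBd : ¬ Commute B d := fun hc => by
    rw [← eθ0, ← F.agree _ h00 h01, hB] at hc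
    have hc' : η ⟨T 2, hb⟩ * η ⟨T 0, h01⟩ = η ⟨T 0, h01⟩ * η ⟨T 2, hb⟩ := hc.eq
    rw [← map_mul, ← map_mul] at hc'
    exact hnot2 (congrArg Subtype.val (F.inj hc'))
  obtain ⟨Fld, _, _, hFld⟩ : ∃ (K : Type) (_ : Field K) (_ : Fintype K), Fintype.card K = 2 ^ 2 :=
    let _ : Fintype (GaloisField 2 2) := Fintype.ofFinite _
    ⟨GaloisField 2 2, inferInstance, inferInstance, by
      rw [← Nat.card_eq_fintype_card, GaloisField.card 2 2 (by norm_num)]⟩
  have hDC := CfsgLib.Presented.Fi22Unitary.doubleCover hFld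
  have hgen : Subgroup.closure Inst.FiTwentyTwo.nbrs = H0 := by
    rw [H0_eq]; exact Inst.FiTwentyTwo.closure_nbrs_eq (hFld.trans (by norm_num)) hDC
  -- an element commuting with all the images is trivial
  have hkill : ∀ z : G, (∀ j, z * Fv j * z⁻¹ = Fv j) → z = 1 := by
    intro z hz
    have hzd : z ∈ Cd d := mem_centralizer_singleton_iff.2 (by
      rw [← F0]; exact (conj_comm (hz _)).eq)
    set x : ↥H0 := θ.symm ⟨z, hzd⟩ with hx
    have hxz : (θ x : G) = z := by rw [hx, MulEquiv.apply_symm_apply]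
    have hxn : ∀ y ∈ Inst.FiTwentyTwo.nbrs, Commute (x : X) y := by
      rintro y ⟨hy, -, hc⟩
      obtain ⟨j, rfl⟩ := P.tp_surj hy
      have hj : near j := mem_H0_iff.2 (by rw [T_zero]; exact hc.symm)
      have h1 := hz j
      rw [Fnear j hj, ← hxz, ← Subgroup.coe_inv, ← Subgroup.coe_mul, ← Subgroup.coe_mul, ← map_inv, ← map_mul,
        ← map_mul] at h1
      exact conj_comm (congrArg Subtype.val (θ.injective (Subtype.ext h1)))
    have hxc : x ∈ center ↥H0 := mem_center_iff.2 fun y => Subtype.ext <| by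
      have hy : (y : X) ∈ Subgroup.closure Inst.FiTwentyTwo.nbrs := (SetLike.ext_iff.1 hgen _).2 y.2
      have hle : Subgroup.closure Inst.FiTwentyTwo.nbrs ≤ centralizer ({(x : X)} : Set X) :=
        (Subgroup.closure_le _).2 fun w hw => mem_centralizer_singleton_iff.2 (hxn w hw).symm.eq
      exact mem_centralizer_singleton_iff.1 (hle hy)
    obtain ⟨w, -, -, hw⟩ := ThreeTrans.USix.exists_omega hFld
    have hxc' : (MulEquiv.subgroupCongr H0_eq x) ∈ center Fi22UCosets.H :=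
      mem_center_iff.2 fun y => by
        obtain ⟨y', rfl⟩ := (MulEquiv.subgroupCongr H0_eq).surjective y
        rw [← map_mul, ← map_mul, mem_center_iff.1 hxc y']
    rw [CfsgLib.Presented.Fi22Unitary.center_eq hFld, ← CfsgLib.Schur.MultiplierU62.toPSU_ker hFld hw] at hxc'
    rcases CfsgLib.Schur.MultiplierU62.toPSU_ker_cases hFld hw hxc' with h1 | h1
    · rw [← hxz, (MulEquiv.map_eq_one_iff _).1 h1, map_one, OneMemClass.coe_one]
    · exfalso
      have hxa : x = aH := Subtype.ext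
        ((congrArg Subtype.val h1).trans CfsgLib.Presented.Fi22Unitary.d0_eq.symm)
      rw [hxa, L.base] at hxz
      apply hBd
      have h2 := hz (pt 2)
      rw [Ffar 1 (pt 2) (by rw [OneMemClass.coe_one, map_one]; rfl), map_one, OneMemClass.coe_one,
        one_mul, inv_one, mul_one, ← hxz] at h2
      exact (conj_comm h2).symm
  have hsq : ∀ x, x < 9 → f x * f x = 1 := by
    intro x hx
    refine hkill _ fun j => ?_
    calc f x * f x * Fv j * (f x * f x)⁻¹ = f x * (f x * Fv j * (f x)⁻¹) * (f x)⁻¹ := by group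
      _ = Fv (P.φ (el [x] * el [x]) j) := by rw [hstep x hx, hstep x hx, map_mul, Equiv.Perm.mul_apply]
      _ = Fv j := by
        rw [el_one, letters_sq x hx, map_one, Equiv.Perm.one_apply]
  have hkills : ∀ r ∈ Cfsg.Spor.coxRelators Cfsg.Spor.Fi22.edges ∪ {r | r ∈ Cfsg.Spor.Fi22.extra},
      FreeGroup.lift fg r = 1 := by
    have hokR : (Fi22UCert.relWords.all ok) = true := by decide +kernel
    have hw : ∀ w ∈ Fi22UCert.relWords, evW (Fi22UCosets.letters.ev fg) w = 1 := fun w hw =>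
      hkill _ fun j => by
        rw [hword w (List.all_eq_true.1 hokR w hw) j, show el w = 1 from Fi22UCosets.rels_hold w hw, map_one,
          Equiv.Perm.one_apply]
    refine Letters.kills (L := Fi22UCosets.letters) Fi22UCosets.letters_valid Fi22UCosets.nodes_valid
      Fi22UCosets.full (fun g _ => hsq _ (Fi22UCosets.full g).1) (fun w h => hw w ?_) fun w h => hw w ?_
    · rw [Fi22UCosets.relWords_eq]; exact List.mem_append.2 (Or.inl h)
    · rw [Fi22UCosets.relWords_eq]; exact List.mem_append.2 (Or.inr h)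
  let φ : X →* G := PresentedGroup.toGroup hkills
  have hφev : ∀ x, x < 9 → φ (ev x) = Fi22UCosets.letters.ev fg x := fun x hx => by
    have h : ∀ y, y < 9 → (Fi22UCosets.letters.gen y).2 = true := by decide +kernel
    show φ (Fi22UCosets.letters.ev (fun g => PresentedGroup.of g) x) = _
    rw [Letters.ev, Letters.ev, if_pos (show x < Fi22UCosets.letters.A.eps from hx),
      if_pos (show x < Fi22UCosets.letters.A.eps from hx), h x hx, cond_true, cond_true]
    exact PresentedGroup.toGroup.of hkills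
  have hφw : ∀ w, ok w = true → φ (el w) = evW (Fi22UCosets.letters.ev fg) w := by
    intro w
    induction w with
    | nil => intro _; simp [el]
    | cons x w ih =>
      intro hw
      rw [ok, List.all_cons, Bool.and_eq_true, Nat.blt_eq] at hw
      rw [show el (x :: w) = el [x] * el w from el_append [x] w, map_mul, el_one, hφev x hw.1, ih hw.2, evW_cons]
  have hφa : φ Inst.FiTwentyTwo.a = d := by
    show φ (el [0]) = d
    rw [hφw _ (by decide), evW_cons, evW_nil, mul_one, hLev 0 (by decide)]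
    simp only [f, dif_pos (show 0 < 9 ∧ 0 ≠ 1 by decide)]
    exact (congrArg (fun y : ↥H0 => (θ y : G)) (Subtype.ext (ev_eq_T (x := 0) (by decide) rfl))).trans eθ0
  have hφconj : ∀ (x : X) j, φ x * Fv j * (φ x)⁻¹ = Fv (P.φ x j) := by
    intro x
    have hx : x ∈ Subgroup.closure (ev '' Set.Iio Fi22UCert.alphabet.eps) :=
      Fi22UCosets.gen_top ▸ Subgroup.mem_top x
    induction hx using Subgroup.closure_induction with
    | mem y hy =>
      obtain ⟨k, hk, rfl⟩ := hy
      intro j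
      rw [hφev k hk, hLev k hk, ← el_one]
      exact hstep k hk j
    | one => intro j; simp
    | mul y y' _ _ hy hy' =>
      intro j
      rw [map_mul, map_mul, Equiv.Perm.mul_apply, ← hy, ← hy']
      group
    | inv y _ hy =>
      intro j
      have h1 := hy (P.φ y⁻¹ j)
      rw [← Equiv.Perm.mul_apply, ← map_mul, mul_inv_cancel, map_one, Equiv.Perm.one_apply] at h1
      rw [map_inv, ← h1]
      group
  have hφT : ∀ j, φ (P.tp j) = Fv j := by
    intro j
    obtain ⟨x, rfl⟩ := P.trans j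
    rw [P.tp_phi, map_mul, map_mul, map_inv, show P.a = Inst.FiTwentyTwo.a from rfl, hφa, ← F0, hφconj, pt_zero]
    rfl
  refine ⟨φ, ?_, hφa, ?_, ?_⟩
  · have hs : IsSimpleGroup X := CfsgLib.Presented.Fi22Simple.simple
    rw [← MonoidHom.ker_eq_bot_iff]
    rcases φ.normal_ker.eq_bot_or_eq_top with h1 | h1
    · exact h1
    · exfalso
      apply hd
      rw [← hφa]
      exact MonoidHom.mem_ker.1 (h1 ▸ Subgroup.mem_top _)
  · intro x
    let K : Subgroup ↥H0 := MonoidHom.eqLocus (φ.comp H0.subtype) ((Cd d).subtype.comp θ.toMonoidHom)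
    have hle : Subgroup.closure Inst.FiTwentyTwo.nbrs ≤ K.map H0.subtype := by
      refine (Subgroup.closure_le _).2 ?_
      rintro y ⟨hy, -, hc⟩
      obtain ⟨j, rfl⟩ := P.tp_surj hy
      have hj : near j := mem_H0_iff.2 (by rw [T_zero]; exact hc.symm)
      exact ⟨⟨_, hj⟩, (show φ (P.tp j) = (θ ⟨P.tp j, hj⟩ : G) by rw [hφT, Fnear j hj]), rfl⟩
    obtain ⟨y, hy, e⟩ := hle ((SetLike.ext_iff.1 hgen _).2 x.2)
    rw [← Subtype.ext (show (y : X) = x from e)]
    exact hy
  · intro x hx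
    obtain ⟨g, rfl⟩ := P.mem_D.1 hx
    rw [map_mul, map_mul, map_inv, show φ P.a = d from hφa]
    exact isConj_iff.2 ⟨φ g, rfl⟩

end CfsgLib.ThreeTrans.FiCent
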