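import Cfsg.Agent.Lib.ThreeTrans.FiCent.FuseBase

/-!
Fusion: under an identification of the first centraliser with the centraliser of an involution not weakly
closed there, the conjugates of the involution are the transpositions.
-/

set_option autoImplicit false
set_option maxRecDepth 100000
set_option maxHeartbeats 800000
set_option linter.unusedSectionVars false

namespace CfsgLib.ThreeTrans.FiCent

open Subgroup CfsgLib.Presented CfsgLib.Presented.Fi22Pts FuseData
open CfsgLib.ThreeTrans.Inst.FiTwentyTwo (P)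
open Fi22UCert (rep)

theorem xw_lt : ∀ {l : List ℕ}, (∀ x ∈ l, x < 1024) → ∀ m, xw l m < 1024
  | [], _, _ => by simp [xw]
  | x :: l, h, m => by
    rw [xw]
    refine Nat.xor_lt_two_pow (n := 10) ?_ (xw_lt (fun y hy => h y (List.mem_cons_of_mem _ hy)) _)
    split_ifs
    exacts [h x List.mem_cons_self, by norm_num]

/-- The members other than the first, by coordinates. -/
def bp : List ℕ := treePts (kinds.getD 0 (0, []))

/-- Products of the listed pairs fixing the product of the first two members. -/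
def stabWords : List (List ℕ) := stabProds.map fun l => l.flatMap fun i => pairWords.getD i []

/-- The orbits of these. -/
def stabOrbits : List (ℕ × List (ℕ × ℕ × ℕ)) := smallOrbits ++ largeOrbits

theorem bp_ok : (bp.all (fun m => members.any fun e => Nat.beq e.1 m) &&
    members.all (fun e => Nat.beq e.1 1 || bp.contains e.1) && !bp.contains 1 && Nat.beq bp.length 21 &&
    bp.all (fun x => bp.all fun y => bp.all fun z =>
      !(bit (kindMasks.getD 0 0) (x ^^^ y ^^^ z ^^^ 1))) && Nat.beq (maskOf bp) (kindMasks.getD 0 0) &&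
    images.all (fun l => l.all fun x => Nat.blt x 1024) && stabImages.all (fun l => l.all fun x => Nat.blt x 1024) &&
    kinds.all (fun o => Nat.blt o.1 1024)) = true := by
  decide +kernel

theorem bp_nodup : bp.Nodup := by decide +kernel

theorem stab_ok : ((List.range stabImages.length).all (fun i => moves (stabWords.getD i []) (stabImages.getD i []) &&
      Nat.beq (img (stabWords.getD i []) 0) 0 && Nat.beq (xw (stabImages.getD i []) 65) 65) &&
    stabOrbits.all (fun o => treeOK stabImages o.1 o.2) && (treePts (kinds.getD 1 (0, []))).contains 65 &&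
    largeOrbits.all (fun o => decide ((treePts o).take 22).Nodup && Nat.blt 21 (treePts o).length) &&
    smallOrbits.sublists.all (fun S => !(Nat.beq (S.flatMap treePts).length 21) || quads.any fun q =>
      Nat.beq q.length 4 && Nat.beq (q.getD 0 0 ^^^ q.getD 1 0 ^^^ q.getD 2 0 ^^^ q.getD 3 0) 65 &&
        q.all fun x => (S.flatMap treePts).contains x)) = true := by
  decide +kernel

theorem small_nodup : (smallOrbits.flatMap treePts).Nodup := by decide +kernel

theorem stab_cover : (let ks := stabOrbits.map (fun o => maskOf (treePts o))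
    allLt (fun m => Nat.beq m 0 || Nat.beq m 65 || ks.any fun k => bit k m) 1024) = true := by
  decide +kernel

variable {G : Type*} [Group G] [Finite G] {d : G} {θ : ↥H0 ≃* ↥(Cd d)}

/-- An element of the subgroup, in the first centraliser. -/
noncomputable abbrev cB (i : ℕ) : ↥H0 := ⟨cc i, cc_mem_H0 i⟩

/-- The coordinates of the conjugates of the involution. -/
def Dm (θ : ↥H0 ≃* ↥(Cd d)) (i : ℕ) : Prop := i < 1024 ∧ (θ (cB i) : G) ∈ conjugatesOf d

theorem cH_one (hθ : (θ aH : G) = d) : (θ (cB 1) : G) = d := by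
  rw [show cB 1 = aH from Subtype.ext (cc_one.trans T_zero)]
  exact hθ

theorem Dm_one (hθ : (θ aH : G) = d) : Dm θ 1 :=
  ⟨by norm_num, by rw [cH_one hθ]; exact mem_conjugatesOf_self⟩

theorem Dm_conj {g : X} (hg : g ∈ H0) {i j : ℕ} (hi : i < 1024) (hj : j < 1024) (h : g * cc i * g⁻¹ = cc j) :
    Dm θ j ↔ Dm θ i := by
  have e : cB j = (⟨g, hg⟩ : ↥H0) * cB i * (⟨g, hg⟩ : ↥H0)⁻¹ := Subtype.ext h.symm
  simp only [Dm, hi, hj, true_and, e, map_mul, map_inv, Subgroup.coe_mul, InvMemClass.coe_inv, conjugatesOf_conj]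

theorem Dm_kind {o : ℕ × List (ℕ × ℕ × ℕ)} (ho : o ∈ kinds) {i : ℕ} (hi : i ∈ treePts o) :
    i < 1024 ∧ (Dm θ i ↔ Dm θ o.1) := by
  have key := pairs_ok
  have kb := bp_ok
  simp only [Bool.and_eq_true, List.all_eq_true, Nat.blt_eq] at key kb
  refine tree_iff (key.1.1.2 o ho) (Dm θ) (fun im him x hx => ?_) i hi
  obtain ⟨g, hg, hgc⟩ := images_conj him
  exact Dm_conj hg hx (xw_lt (kb.1.1.2 im him) x) (hgc x)

/-- Coordinates of a transposition other than the first. -/
theorem mem_bp {i : ℕ} (hi : i < 1024) : i ∈ bp ↔ cc i ∈ D0 ∧ cc i ≠ T 0 := by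
  have kb := bp_ok
  simp only [Bool.and_eq_true, List.all_eq_true, List.any_eq_true, Bool.or_eq_true, List.contains_iff_mem,
    Bool.not_eq_true'] at kb
  obtain ⟨⟨⟨⟨⟨⟨⟨⟨h1, h2⟩, h3⟩, -⟩, -⟩, -⟩, -⟩, -⟩, -⟩ := kb
  rw [cc_mem_D0 hi]
  constructor
  · intro h
    obtain ⟨e, he, hei⟩ := h1 i h
    refine ⟨⟨e, he, Nat.eq_of_beq_eq_true hei⟩, fun e' => ?_⟩
    rw [cc_inj hi (by norm_num) (e'.trans cc_one.symm)] at h
    rw [List.contains_iff_mem.2 h] at h3
    exact Bool.noConfusion h3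
  · rintro ⟨⟨e, he, rfl⟩, hne⟩
    rcases h2 e he with h | h
    · exact absurd (by rw [Nat.eq_of_beq_eq_true h, cc_one]) hne
    · exact h

/-- What carries one conjugate to the involution, in coordinates. -/
theorem exists_carry (hθ : (θ aH : G) = d) {m : ℕ} (hm : Dm θ m) :
    ∃ μ : ℕ → ℕ, (∀ i, i < 1024 → μ i < 1024) ∧
      (∀ i, i < 1024 → ∀ j, j < 1024 → μ (i ^^^ j) = μ i ^^^ μ j) ∧
      (∀ i, i < 1024 → ∀ j, j < 1024 → μ i = μ j → i = j) ∧ μ m = 1 ∧
      (∀ i, i < 1024 → (Dm θ (μ i) ↔ Dm θ i)) ∧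
      ∀ g ∈ H0, g * cc m * g⁻¹ = cc m → ∀ i, i < 1024 → ∀ j, j < 1024 → g * cc i * g⁻¹ = cc j →
        (μ j ∈ bp ↔ μ i ∈ bp) := by
  obtain ⟨g₀, hg₀⟩ := isConj_iff.1 hm.2
  have hmem : ∀ i, g₀⁻¹ * (θ (cB i) : G) * g₀ ∈ Cd d := fun i => mem_centralizer_singleton_iff.2 <| by
    have hc : Commute (θ (cB i) : G) (θ (cB m) : G) := by
      show (θ (cB i) : G) * θ (cB m) = θ (cB m) * θ (cB i)
      rw [← Subgroup.coe_mul, ← Subgroup.coe_mul, ← map_mul, ← map_mul]
      exact congrArg (fun t : ↥H0 => (θ t : G)) (Subtype.ext (cc_comm i m).eq)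
    have := hc.map (MulAut.conj g₀⁻¹).toMonoidHom
    rw [← hg₀] at this
    simpa [mul_assoc] using this.eq
  let f : ℕ → X := fun i => (θ.symm ⟨_, hmem i⟩ : ↥H0)
  have hfv : ∀ i, (θ (θ.symm ⟨_, hmem i⟩) : G) = g₀⁻¹ * (θ (cB i) : G) * g₀ := fun i => by
    rw [MulEquiv.apply_symm_apply]
  have hf : ∀ i j, f (i ^^^ j) = f i * f j := fun i j => by
    show ((θ.symm ⟨_, hmem (i ^^^ j)⟩ : ↥H0) : X) = _
    rw [← Subgroup.coe_mul, ← map_mul]
    refine congrArg (fun t => ((θ.symm t : ↥H0) : X)) (Subtype.ext ?_)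
    show g₀⁻¹ * (θ (cB (i ^^^ j)) : G) * g₀ = g₀⁻¹ * (θ (cB i) : G) * g₀ * (g₀⁻¹ * (θ (cB j) : G) * g₀)
    rw [show cB (i ^^^ j) = cB i * cB j from Subtype.ext (cc_xor i j), map_mul, Subgroup.coe_mul]
    group
  have hfinj : ∀ i, i < 1024 → ∀ j, j < 1024 → f i = f j → i = j := fun i hi j hj e => by
    have e' : (⟨_, hmem i⟩ : ↥(Cd d)) = ⟨_, hmem j⟩ := θ.symm.injective (Subtype.ext e)
    have e2 : θ (cB i) = θ (cB j) :=
      Subtype.ext (mul_left_cancel (mul_right_cancel (congrArg Subtype.val e')))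
    exact cc_inj hi hj (congrArg Subtype.val (θ.injective e2))
  obtain ⟨k, hk, hkW⟩ := copy_conj f (fun i _ j _ => hf i j) (fun i _ => SetLike.coe_mem _) hfinj
  choose! μ hμ hμc using hkW
  set n : G := g₀ * ((θ ⟨k, hk⟩ : ↥(Cd d)) : G)⁻¹ with hn
  have hv : ∀ i, i < 1024 → (θ (cB (μ i)) : G) = n⁻¹ * (θ (cB i) : G) * n := fun i hi => by
    rw [show cB (μ i) = ⟨k, hk⟩ * θ.symm ⟨_, hmem i⟩ * (⟨k, hk⟩ : ↥H0)⁻¹ from Subtype.ext (hμc i hi), map_mul,
      map_mul, map_inv, Subgroup.coe_mul, Subgroup.coe_mul, InvMemClass.coe_inv, hfv, hn]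
    group
  have hkd : Commute ((θ ⟨k, hk⟩ : ↥(Cd d)) : G) d := mem_centralizer_singleton_iff.1 (θ ⟨k, hk⟩).2
  have hμm : μ m = 1 := by
    refine cc_inj (hμ m hm.1) (by norm_num) ?_
    have e : θ.symm ⟨_, hmem m⟩ = aH := θ.injective (Subtype.ext (by rw [hfv, hθ, ← hg₀]; group))
    rw [hμc m hm.1, cc_one, show f m = T 0 by show ((θ.symm ⟨_, hmem m⟩ : ↥H0) : X) = T 0; rw [e, T_zero],
      (mem_H0_iff.1 hk).eq, mul_inv_cancel_right]
  refine ⟨μ, hμ, fun i hi j hj => ?_, fun i hi j hj e => ?_, hμm, fun i hi => ?_,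
    fun g hg hgm i hi j hj hgi => ?_⟩
  · have hij : i ^^^ j < 1024 := Nat.xor_lt_two_pow (n := 10) hi hj
    refine cc_inj (hμ _ hij) (Nat.xor_lt_two_pow (n := 10) (hμ i hi) (hμ j hj)) ?_
    rw [cc_xor, hμc _ hij, hμc i hi, hμc j hj, hf]
    group
  · refine hfinj i hi j hj ?_
    have e2 := congrArg cc e
    rw [hμc i hi, hμc j hj] at e2
    exact mul_left_cancel (mul_right_cancel e2)
  · simp only [Dm, hμ i hi, hi, true_and, hv i hi]
    rw [show n⁻¹ * (θ (cB i) : G) * n = n⁻¹ * (θ (cB i) : G) * n⁻¹⁻¹ by rw [inv_inv], conjugatesOf_conj]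
  · set h : G := ((θ ⟨g, hg⟩ : ↥(Cd d)) : G) with hh
    have hhm : h * (θ (cB m) : G) * h⁻¹ = θ (cB m) := by
      rw [hh, ← InvMemClass.coe_inv, ← Subgroup.coe_mul, ← Subgroup.coe_mul, ← map_inv, ← map_mul, ← map_mul]
      exact congrArg (fun t : ↥H0 => (θ t : G)) (Subtype.ext hgm)
    have hd : d = n⁻¹ * (θ (cB m) : G) * n := by rw [← hv m hm.1, hμm, cH_one hθ]
    have hec : n⁻¹ * h * n ∈ Cd d := mem_centralizer_singleton_iff.2 (mul_inv_eq_iff_eq_mul.1 (by
      rw [hd, show n⁻¹ * h * n * (n⁻¹ * (θ (cB m) : G) * n) * (n⁻¹ * h * n)⁻¹ =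
        n⁻¹ * (h * (θ (cB m) : G) * h⁻¹) * n by group, hhm]))
    set k' : ↥H0 := θ.symm ⟨_, hec⟩ with hk'
    have hconj : (k' : X) * cc (μ i) * (k' : X)⁻¹ = cc (μ j) := by
      refine congrArg Subtype.val (θ.injective (a₁ := k' * cB (μ i) * k'⁻¹) (a₂ := cB (μ j)) (Subtype.ext ?_))
      rw [map_mul, map_mul, map_inv, Subgroup.coe_mul, Subgroup.coe_mul, InvMemClass.coe_inv, hk',
        MulEquiv.apply_symm_apply, hv i hi, hv j hj,
        show cB j = (⟨g, hg⟩ : ↥H0) * cB i * (⟨g, hg⟩ : ↥H0)⁻¹ from Subtype.ext hgi.symm, map_mul, map_mul, map_inv,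
        Subgroup.coe_mul, Subgroup.coe_mul, InvMemClass.coe_inv, ← hh]
      group
    have hka : (k' : X) * T 0 * (k' : X)⁻¹ = T 0 := by rw [(mem_H0_iff.1 k'.2).eq, mul_inv_cancel_right]
    rw [mem_bp (hμ j hj), mem_bp (hμ i hi), ← hconj, D0_conj]
    refine and_congr_right fun _ => not_congr ?_
    conv_lhs => rw [← hka]
    exact ⟨fun e => mul_left_cancel (mul_right_cancel e), fun e => by rw [e]⟩

theorem stab_conj {im : List ℕ} (h : im ∈ stabImages) :
    ∃ g ∈ H0, g * cc 65 * g⁻¹ = cc 65 ∧ ∀ x, g * cc x * g⁻¹ = cc (xw im x) := by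
  have key := stab_ok
  simp only [Bool.and_eq_true, List.all_eq_true] at key
  obtain ⟨i, hi, rfl⟩ := List.mem_iff_getElem.1 h
  obtain ⟨⟨h1, h2⟩, h3⟩ := key.1.1.1.1 i (List.mem_range.2 hi)
  rw [List.getD_eq_getElem stabImages _ hi] at h1 h3
  refine ⟨_, moves_mem_H0 h1 (Nat.eq_of_beq_eq_true h2), ?_, moves_cc h1⟩
  rw [moves_cc h1, Nat.eq_of_beq_eq_true h3]

/-- The product of the first two members is not a conjugate. -/
theorem not_pair (hθ : (θ aH : G) = d) : ¬ Dm θ 65 := by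
  classical
  intro hm
  obtain ⟨μ, hμ, hμx, hμi, hμm, -, hcarry⟩ := exists_carry hθ hm
  have kb := bp_ok
  have ks := stab_ok
  simp only [Bool.and_eq_true, List.all_eq_true, Bool.not_eq_true', Nat.blt_eq, Bool.or_eq_true, List.any_eq_true,
    decide_eq_true_eq, List.contains_iff_mem] at kb ks
  obtain ⟨⟨⟨⟨⟨⟨⟨⟨kb1, -⟩, kb3⟩, hlen⟩, hfour⟩, hmask⟩, -⟩, hst⟩, -⟩ := kb
  obtain ⟨⟨⟨⟨-, htree⟩, -⟩, hlarge⟩, hsub⟩ := ks
  have hμ0 : μ 0 = 0 := by
    have := hμx 0 (by norm_num) 0 (by norm_num)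
    rwa [Nat.xor_self, Nat.xor_self] at this
  have hbp_lt : ∀ b ∈ bp, b < 1024 := fun b hb => by
    obtain ⟨e, he, hei⟩ := kb1 b hb
    exact Nat.eq_of_beq_eq_true hei ▸ (T_member he).1
  have hbp0 : ¬ (0 : ℕ) ∈ bp := fun h => by
    have h' := ((mem_bp (by norm_num)).1 h).1
    rw [cc_zero] at h'
    exact D0_ne_one h' rfl
  set S : Finset ℕ := (Finset.range 1024).filter fun i => μ i ∈ bp with hS
  have himg : (Finset.range 1024).image μ = Finset.range 1024 := by
    refine Finset.eq_of_subset_of_card_le (fun x hx => ?_) ?_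
    · obtain ⟨i, hi, rfl⟩ := Finset.mem_image.1 hx
      exact Finset.mem_range.2 (hμ i (Finset.mem_range.1 hi))
    · rw [Finset.card_image_of_injOn fun i hi j hj e =>
        hμi i (Finset.mem_range.1 hi) j (Finset.mem_range.1 hj) e]
  have hcard : S.card = 21 := by
    have e : S.image μ = bp.toFinset := by
      ext b
      rw [Finset.mem_image, List.mem_toFinset]
      constructor
      · rintro ⟨i, hi, rfl⟩; exact (Finset.mem_filter.1 hi).2
      · intro hb
        obtain ⟨i, hi, rfl⟩ := Finset.mem_image.1 (himg.ge (Finset.mem_range.2 (hbp_lt b hb)))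
        exact ⟨i, Finset.mem_filter.2 ⟨hi, hb⟩, rfl⟩
    rw [← Nat.eq_of_beq_eq_true hlen, ← List.toFinset_card_of_nodup bp_nodup, ← e,
      Finset.card_image_of_injOn fun i hi j hj e' =>
        hμi i (Finset.mem_range.1 (Finset.mem_filter.1 hi).1) j (Finset.mem_range.1 (Finset.mem_filter.1 hj).1) e']
  have hS : ∀ i, i < 1024 → (i ∈ S ↔ μ i ∈ bp) := fun i hi => by
    rw [hS, Finset.mem_filter, Finset.mem_range]
    exact and_iff_right hi
  have horb : ∀ o ∈ stabOrbits, ∀ i ∈ treePts o, i < 1024 ∧ (i ∈ S ↔ o.1 ∈ S) := fun o ho i hi => by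
    refine tree_iff (htree o ho) (· ∈ S) (fun im him x hx => ?_) i hi
    obtain ⟨g, hg, hgm, hgc⟩ := stab_conj him
    have hlt := xw_lt (hst im him) x
    rw [hS _ hlt, hS x hx]
    exact hcarry g hg hgm x hx _ hlt (hgc x)
  -- the large orbits are outside
  have hout : ∀ o ∈ largeOrbits, o.1 ∉ S := by
    intro o ho hoS
    obtain ⟨hnd, hl⟩ := hlarge o ho
    have hle : ((treePts o).take 22).toFinset ⊆ S := fun i hi => by
      have hi' := List.mem_of_mem_take (List.mem_toFinset.1 hi)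
      exact (horb o (List.mem_append_right _ ho) i hi').2.2 hoS
    have := Finset.card_le_card hle
    rw [List.toFinset_card_of_nodup hnd, List.length_take, hcard] at this
    omega
  set Sel := smallOrbits.filter fun o => decide (o.1 ∈ S) with hSel
  have heq : (Sel.flatMap treePts).toFinset = S := by
    ext i
    rw [List.mem_toFinset, List.mem_flatMap]
    constructor
    · rintro ⟨o, ho, hio⟩
      rw [hSel, List.mem_filter, decide_eq_true_eq] at ho
      exact (horb o (List.mem_append_left _ ho.1) i hio).2.2 ho.2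
    · intro hi
      have hi' : i < 1024 := Finset.mem_range.1 (Finset.mem_filter.1 hi).1
      have hcov := allLt_spec stab_cover i hi'
      simp only [Bool.or_eq_true, List.any_eq_true, List.mem_map, bit_eq] at hcov
      rcases hcov with (h | h) | ⟨_, ⟨o, ho, rfl⟩, h⟩
      · exfalso
        rw [hS i hi', Nat.eq_of_beq_eq_true h, hμ0] at hi
        exact hbp0 hi
      · exfalso
        rw [hS i hi', Nat.eq_of_beq_eq_true h, hμm] at hi
        rw [List.contains_iff_mem.2 hi] at kb3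
        exact Bool.noConfusion kb3
      · have hio := (testBit_maskOf _ _).1 h
        have hoS := (horb o ho i hio).2.1 hi
        rcases List.mem_append.1 ho with ho | ho
        · exact ⟨o, by rw [hSel, List.mem_filter, decide_eq_true_eq]; exact ⟨ho, hoS⟩, hio⟩
        · exact absurd hoS (hout o ho)
  have hSelsub : Sel.Sublist smallOrbits := List.filter_sublist
  have hlen21 : (Sel.flatMap treePts).length = 21 := by
    rw [← List.toFinset_card_of_nodup (small_nodup.sublist (hSelsub.flatMap treePts)), heq, hcard]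
  rcases hsub Sel (List.mem_sublists.2 hSelsub) with h | ⟨q, -, ⟨hq4, hqx⟩, hqm⟩
  · rw [hlen21, Nat.beq_refl] at h
    exact Bool.noConfusion h
  · have hq4' : q.length = 4 := Nat.eq_of_beq_eq_true hq4
    have hqS : ∀ k, k < 4 → q.getD k 0 < 1024 ∧ μ (q.getD k 0) ∈ bp := fun k hk => by
      rw [List.getD_eq_getElem _ _ (hq4' ▸ hk)]
      have hxS : q[k]'(hq4' ▸ hk) ∈ S := heq ▸ List.mem_toFinset.2 (hqm _ (List.getElem_mem _))
      have hlt := Finset.mem_range.1 (Finset.mem_filter.1 hxS).1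
      exact ⟨hlt, (hS _ hlt).1 hxS⟩
    obtain ⟨l0, b0⟩ := hqS 0 (by norm_num)
    obtain ⟨l1, b1⟩ := hqS 1 (by norm_num)
    obtain ⟨l2, b2⟩ := hqS 2 (by norm_num)
    obtain ⟨l3, b3⟩ := hqS 3 (by norm_num)
    have hl : ∀ {x y : ℕ}, x < 1024 → y < 1024 → x ^^^ y < 1024 := fun hx hy =>
      Nat.xor_lt_two_pow (n := 10) hx hy
    have e := congrArg μ (Nat.eq_of_beq_eq_true hqx)
    rw [hμx _ (hl (hl l0 l1) l2) _ l3, hμx _ (hl l0 l1) _ l2, hμx _ l0 _ l1, hμm] at e
    have h4 := hfour _ b0 _ b1 _ b2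
    generalize μ (q.getD 0 0) = x0 at e h4
    generalize μ (q.getD 1 0) = x1 at e h4
    generalize μ (q.getD 2 0) = x2 at e h4
    rw [show x0 ^^^ x1 ^^^ x2 ^^^ 1 = μ (q.getD 3 0) by rw [← e, ← Nat.xor_assoc, Nat.xor_self, Nat.zero_xor],
      bit_eq, ← Nat.eq_of_beq_eq_true hmask, (testBit_maskOf _ _).2 b3] at h4
    exact Bool.noConfusion h4

/-- A choice of kinds. -/
noncomputable def inD (s : List Bool) (j : ℕ) : Bool :=
  Nat.beq j 1 || (List.range 5).any fun k => s.getD k false && bit (kindMasks.getD k 0) j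

/-- The kinds are consistent only in one way. -/
theorem options : ∀ s0 s2 s3 s4 : Bool,
    (s0 || s2 || s3 || s4) = true →
    ((List.range 5).all fun k => !([s0, false, s2, s3, s4].getD k false) ||
      Nat.beq (cnt (fun j => inD [s0, false, s2, s3, s4] j && inD [s0, false, s2, s3, s4] (j ^^^ 1)) 1024)
        (cnt (fun j => inD [s0, false, s2, s3, s4] j &&
          inD [s0, false, s2, s3, s4] (j ^^^ (kinds.getD k (0, [])).1)) 1024)) = true →
    s0 = true ∧ s2 = false ∧ s3 = false ∧ s4 = false := by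
  decide +kernel

/-- The coordinates of the conjugates are those of the transpositions. -/
theorem Dm_iff (hθ : (θ aH : G) = d) (hne : ∃ m, Dm θ m ∧ m ≠ 1) {i : ℕ} (hi : i < 1024) :
    Dm θ i ↔ cc i ∈ D0 := by
  classical
  have kb := bp_ok
  have kp := pairs_ok
  have ks := stab_ok
  simp only [Bool.and_eq_true, beq_iff_eq, List.all_eq_true, Nat.blt_eq] at kb kp ks
  obtain ⟨hkk, hkl⟩ : kinds.length = 5 ∧ kindMasks.length = 5 := ⟨rfl, rfl⟩
  set s : ℕ → Bool := fun k => decide (Dm θ (kinds.getD k (0, [])).1) with hs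
  have hmemk : ∀ k, k < 5 → kinds.getD k (0, []) ∈ kinds := fun k hk => by
    rw [List.getD_eq_getElem _ _ (hkk ▸ hk)]; exact List.getElem_mem _
  have hbit : ∀ k, k < 5 → ∀ j, bit (kindMasks.getD k 0) j = true ↔ j ∈ treePts (kinds.getD k (0, [])) := by
    intro k hk j
    rw [List.getD_eq_getElem _ _ (hkl ▸ hk), List.getD_eq_getElem _ _ (hkk ▸ hk), bit_eq,
      show kindMasks[k]'(hkl ▸ hk) = maskOf (treePts (kinds[k]'(hkk ▸ hk))) by simp [← kp.1.2],
      testBit_maskOf]
  have h1 : s 1 = false := by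
    rw [hs]
    simp only [decide_eq_false_iff_not]
    intro h
    exact not_pair hθ ((Dm_kind (hmemk 1 (by norm_num)) (List.contains_iff_mem.1 ks.1.1.2)).2.2 h)
  have hD : ∀ j, j < 1024 → (inD [s 0, false, s 2, s 3, s 4] j = true ↔ Dm θ j) := by
    intro j hj
    have hsk : ∀ k, k < 5 → ([s 0, false, s 2, s 3, s 4].getD k false = s k) := by
      intro k hk
      interval_cases k <;> simp [h1]
    simp only [inD, Bool.or_eq_true, List.any_eq_true, Bool.and_eq_true, List.mem_range]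
    constructor
    · rintro (h | ⟨k, hk, hsel, hb⟩)
      · rw [Nat.eq_of_beq_eq_true h]; exact Dm_one hθ
      · rw [hsk k hk, hs, decide_eq_true_eq] at hsel
        exact (Dm_kind (hmemk k hk) ((hbit k hk j).1 hb)).2.2 hsel
    · intro h
      rcases kind_cases hj with e | e | ⟨o, ho, hjo⟩
      · exfalso
        obtain ⟨g, hg⟩ := isConj_iff.1 h.2
        rw [e, show cB 0 = 1 from Subtype.ext cc_zero, map_one, OneMemClass.coe_one] at hg
        obtain ⟨m, hm, hm1⟩ := hne
        have hd1 : d = 1 := conj_eq_one_iff.1 hg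
        have h2 : θ (cB 1) = θ 1 := Subtype.ext ((cH_one hθ).trans (hd1.trans (congrArg Subtype.val (map_one θ)).symm))
        exact D0_ne_one (T_mem 0) (by rw [← cc_one]; exact congrArg Subtype.val (θ.injective h2))
      · exact Or.inl (by rw [e]; exact Nat.beq_refl _)
      · obtain ⟨k, hk, rfl⟩ := List.mem_iff_getElem.1 ho
        have hk5 : k < 5 := hkk ▸ hk
        rw [← List.getD_eq_getElem _ (0, []) hk] at hjo
        exact Or.inr ⟨k, hk5, by rw [hsk k hk5, hs, decide_eq_true_eq]; exact (Dm_kind (hmemk k hk5) hjo).2.1 h,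
          (hbit k hk5 j).2 hjo⟩
  obtain ⟨m, hm, hm1⟩ := hne
  have hany : (s 0 || s 2 || s 3 || s 4) = true := by
    have := (hD m hm.1).2 hm
    rw [inD, Bool.or_eq_true] at this
    rcases this with e | e
    · exact absurd (Nat.eq_of_beq_eq_true e) hm1
    · simp only [List.any_eq_true, List.mem_range, Bool.and_eq_true] at e
      obtain ⟨k, hk, hsel, -⟩ := e
      interval_cases k <;> simp_all
  have hopt := options (s 0) (s 2) (s 3) (s 4) hany (List.all_eq_true.2 fun k hk => by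
    rw [List.mem_range] at hk
    by_cases hsel : [s 0, false, s 2, s 3, s 4].getD k false = true
    · have hm' : Dm θ (kinds.getD k (0, [])).1 := by
        refine (hD _ (kb.2 _ (hmemk k hk))).1 ?_
        simp only [inD, Bool.or_eq_true, List.any_eq_true, Bool.and_eq_true, List.mem_range]
        exact Or.inr ⟨k, hk, hsel, (hbit k hk _).2 List.mem_cons_self⟩
      set w := (kinds.getD k (0, [])).1
      obtain ⟨μ, hμ, hμx, hμi, hμm, hμD, -⟩ := exists_carry hθ hm'
      rw [hsel, Bool.not_true, Bool.false_or, ← card_filter_cnt, ← card_filter_cnt]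
      refine (congrArg (fun a => Nat.beq a _) ?_).trans (Nat.beq_refl _)
      have hl : ∀ {x y : ℕ}, x < 1024 → y < 1024 → x ^^^ y < 1024 := fun hx hy =>
        Nat.xor_lt_two_pow (n := 10) hx hy
      symm
      refine Finset.card_bij (fun j _ => μ j) ?_ ?_ ?_
      · intro j hj
        rw [Finset.mem_filter, Finset.mem_range, Bool.and_eq_true] at hj ⊢
        obtain ⟨hj, h1', h2'⟩ := hj
        have hj2 : j ^^^ w < 1024 := hl hj hm'.1
        refine ⟨hμ j hj, (hD _ (hμ j hj)).2 ((hμD j hj).2 ((hD j hj).1 h1')), ?_⟩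
        rw [← hμm, ← hμx j hj w hm'.1]
        exact (hD _ (hμ _ hj2)).2 ((hμD _ hj2).2 ((hD _ hj2).1 h2'))
      · intro j hj j' hj' e
        exact hμi j (Finset.mem_range.1 (Finset.mem_filter.1 hj).1) j'
          (Finset.mem_range.1 (Finset.mem_filter.1 hj').1) e
      · intro b hb
        rw [Finset.mem_filter, Finset.mem_range, Bool.and_eq_true] at hb
        obtain ⟨hb, h1', h2'⟩ := hb
        have himg : (Finset.range 1024).image μ = Finset.range 1024 := by
          refine Finset.eq_of_subset_of_card_le (fun x hx => ?_) ?_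
          · obtain ⟨i, hi, rfl⟩ := Finset.mem_image.1 hx
            exact Finset.mem_range.2 (hμ i (Finset.mem_range.1 hi))
          · rw [Finset.card_image_of_injOn fun i hi j hj e =>
              hμi i (Finset.mem_range.1 hi) j (Finset.mem_range.1 hj) e]
        obtain ⟨j, hj, rfl⟩ := Finset.mem_image.1 (himg.ge (Finset.mem_range.2 hb))
        rw [Finset.mem_range] at hj
        have hj2 : j ^^^ w < 1024 := hl hj hm'.1
        refine ⟨j, ?_, rfl⟩
        rw [Finset.mem_filter, Finset.mem_range, Bool.and_eq_true]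
        rw [← hμm, ← hμx j hj w hm'.1] at h2'
        exact ⟨hj, (hD j hj).2 ((hμD j hj).1 ((hD _ (hμ j hj)).1 h1')),
          (hD _ hj2).2 ((hμD _ hj2).1 ((hD _ (hμ _ hj2)).1 h2'))⟩
    · rw [Bool.eq_false_iff.2 hsel]; rfl)
  obtain ⟨e0, e2, e3, e4⟩ := hopt
  rw [← hD i hi, e0, e2, e3, e4]
  simp only [inD, Bool.or_eq_true, List.any_eq_true, Bool.and_eq_true, List.mem_range]
  constructor
  · rintro (h | ⟨k, hk, hsel, hb⟩)
    · rw [Nat.eq_of_beq_eq_true h, cc_one]; exact T_mem 0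
    · interval_cases k <;> simp at hsel
      exact ((mem_bp hi).1 ((hbit 0 (by norm_num) i).1 hb)).1
  · intro h
    by_cases e : cc i = T 0
    · exact Or.inl (by rw [cc_inj hi (by norm_num) (e.trans cc_one.symm)]; exact Nat.beq_refl _)
    · exact Or.inr ⟨0, by norm_num, rfl, (hbit 0 (by norm_num) i).2 ((mem_bp hi).2 ⟨h, e⟩)⟩

/-- Identifications match the classes. -/
theorem fused_of_nwc (hd : orderOf d = 2) (hnwc : ∃ g : G, g * d * g⁻¹ ∈ Cd d ∧ g * d * g⁻¹ ≠ d) : Fused d := by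
  intro θ hθ
  -- everything is conjugate into the subgroup
  have hinto : ∀ x : ↥H0, (x : X) * x = 1 → ∃ i < 1024,
      (((θ x : G) ∈ conjugatesOf d ↔ Dm θ i) ∧ ((x : X) ∈ D0 ↔ cc i ∈ D0) ∧ (i = 1 → (θ x : G) = d)) := by
    intro x hx
    obtain ⟨k, hk, i, hi, e⟩ := exists_into x.2 hx
    refine ⟨i, hi, ?_, ?_, fun e1 => ?_⟩
    · have e' : cB i = ⟨k, hk⟩ * x * (⟨k, hk⟩ : ↥H0)⁻¹ := Subtype.ext e
      simp only [Dm, hi, true_and, e', map_mul, map_inv, Subgroup.coe_mul, InvMemClass.coe_inv, conjugatesOf_conj]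
    · rw [e, D0_conj]
    · have hk' : k * T 0 * k⁻¹ = T 0 := by rw [(mem_H0_iff.1 hk).eq, mul_inv_cancel_right]
      rw [e1, cc_one] at e
      have hx' : x = aH := Subtype.ext
        ((mul_left_cancel (mul_right_cancel (hk'.trans e))).symm.trans T_zero)
      rw [hx', hθ]
  have hd2 : d * d = 1 := by rw [← pow_two, ← hd]; exact pow_orderOf_eq_one d
  have hne : ∃ m, Dm θ m ∧ m ≠ 1 := by
    obtain ⟨g, hg, hgd⟩ := hnwc
    set x := θ.symm ⟨_, hg⟩ with hx
    have hxv : (θ x : G) = g * d * g⁻¹ := by rw [hx, MulEquiv.apply_symm_apply]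
    have hx2 : (x : X) * x = 1 := congrArg Subtype.val (θ.injective (a₁ := x * x) (a₂ := 1) (Subtype.ext (by
      rw [map_mul, map_one, Subgroup.coe_mul, OneMemClass.coe_one, hxv,
        show g * d * g⁻¹ * (g * d * g⁻¹) = g * (d * d) * g⁻¹ by group, hd2, mul_one, mul_inv_cancel])))
    obtain ⟨i, hi, h1, -, h3⟩ := hinto x hx2
    refine ⟨i, h1.1 (by rw [hxv, conjugatesOf_conj]; exact mem_conjugatesOf_self), fun e => hgd ?_⟩
    rw [← hxv, h3 e]
  intro x
  constructor
  · intro h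
    have hx2 : (x : X) * x = 1 := congrArg Subtype.val (θ.injective (a₁ := x * x) (a₂ := 1) (Subtype.ext (by
      obtain ⟨g, hg⟩ := isConj_iff.1 h
      rw [map_mul, map_one, Subgroup.coe_mul, OneMemClass.coe_one, ← hg,
        show g * d * g⁻¹ * (g * d * g⁻¹) = g * (d * d) * g⁻¹ by group, hd2, mul_one, mul_inv_cancel])))
    obtain ⟨i, hi, h1, h2, -⟩ := hinto x hx2
    exact h2.2 ((Dm_iff hθ hne hi).1 (h1.1 h))
  · intro h
    obtain ⟨i, hi, h1, h2, -⟩ := hinto x (D0_sq h)
    exact h1.2 ((Dm_iff hθ hne hi).2 (h2.1 h))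

/-- The hypothesis gives matching classes. -/
theorem Hyp.fused {d : G} (h : Hyp d) : Fused d := fused_of_nwc h.ord h.nwc

end CfsgLib.ThreeTrans.FiCent
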