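import Cfsg.Agent.Lib.Presented.Fi22Pts.Basic
import Cfsg.Agent.Lib.ThreeTrans.FiCent.BaseData

/-!
Kernel checks on the base tables: the members and their coordinates, the action of the two stabiliser
elements, the orbits on coordinates, the chain and the subgroup of order 64, and the invariants which
separate the unions of orbits.
-/

set_option autoImplicit false
set_option maxRecDepth 20000

namespace CfsgLib.ThreeTrans.FiCent.Base

open CfsgLib.Presented.Fi22Pts (bit img ok tw eqW)

/-- a linear map of coordinates by its ten images -/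
def lin : List ℕ → ℕ → ℕ
  | [], _ => 0
  | x :: l, v => cond (bit v 0) (Nat.xor x (lin l (Nat.div v 2))) (lin l (Nat.div v 2))

/-- a word in the two stabiliser elements, on coordinates -/
def app : List ℕ → ℕ → ℕ
  | [], v => v
  | k :: w, v => lin (gImages.getD k []) (app w v)

/-- a word in the two stabiliser elements, in the generators -/
def gWordOf : List ℕ → List ℕ
  | [] => []
  | k :: w => gWords.getD k [] ++ gWordOf w

/-- the transposition of a place, as a word -/
def memW (i : ℕ) : List ℕ := tw (words.getD i [])

/-- the element with given coordinates, as a word -/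
def coordW (v : ℕ) : List ℕ :=
  (List.range 10).flatMap fun j => cond (bit v j) (memW (basisIx.getD j 0)) []

/-- iteration on a number -/
noncomputable def iterN (f : ℕ → ℕ) (k m : ℕ) : ℕ :=
  Nat.rec (motive := fun _ => ℕ) m (fun _ ih => CfsgLib.Presented.Vec.force ih f) k

/-- the image of a mask under a linear map -/
noncomputable def imgMask (im : List ℕ) (m : ℕ) : ℕ :=
  Nat.rec (motive := fun _ => ℕ) 0
    (fun v ih => cond (bit m v) (Nat.lor ih (Nat.shiftLeft 1 (lin im v))) ih) 1024

/-- one step towards the orbit -/
noncomputable def grow (m : ℕ) : ℕ :=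
  Nat.lor m (Nat.lor (imgMask (gImages.getD 0 []) m) (imgMask (gImages.getD 1 []) m))

/-- a union of the orbit of the base member with selected other ones -/
def unionMask (r : ℕ) : ℕ :=
  (List.range 5).foldl (fun m i => cond (bit r i) (Nat.lor m (orbMasks.getD (i + 1) 0)) m) 2

/-- how many members have their sum with a vector again a member -/
noncomputable def countSum (m v : ℕ) : ℕ :=
  Nat.rec (motive := fun _ => ℕ) 0
    (fun u ih => cond (bit m u && bit m (Nat.xor u v)) (Nat.succ ih) ih) 1024

/-- the members of a mask other than a vector -/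
def others (m v : ℕ) : List ℕ := (List.range 1024).filter fun u => bit m u && !Nat.beq u v

theorem pts_ok : pts.length = 22 ∧ codes.length = 22 ∧ pts.getD 0 0 = 0 ∧ codes.getD 0 0 = 1 ∧
    pts.Nodup ∧ ∀ i, i < 22 → pts.getD i 0 < 3510 ∧ ok (words.getD i []) = true ∧
      img (words.getD i []) 0 = pts.getD i 0 ∧ codes.getD i 0 < 1024 := by decide +kernel

theorem pts_commute : ∀ i, i < 22 → ∀ j, j < 22 → img (memW i) (pts.getD j 0) = pts.getD j 0 := by
  decide +kernel

theorem basis_ok : basisIx.length = 10 ∧ ∀ j, j < 10 → basisIx.getD j 0 < 22 ∧ codes.getD (basisIx.getD j 0) 0 = 2 ^ j := by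
  decide +kernel

theorem codes_ok : ∀ i, i < 22 → eqW (coordW (codes.getD i 0)) (memW i) = true := by decide +kernel

theorem gens_ok : ∀ k, k < 2 → ok (gWords.getD k []) = true ∧ img (gWords.getD k []) 0 = 0 ∧
    (gImages.getD k []).length = 10 ∧
    (∀ i, i < 22 → (gPerms.getD k []).getD i 0 < 22 ∧
      img (gWords.getD k []) (pts.getD i 0) = pts.getD ((gPerms.getD k []).getD i 0) 0) ∧
    ∀ j, j < 10 → (gImages.getD k []).getD j 0 = codes.getD ((gPerms.getD k []).getD (basisIx.getD j 0) 0) 0 := by
  decide +kernel

theorem gens_lt : ∀ k, k < 2 → ∀ j, j < 10 → (gImages.getD k []).getD j 0 < 1024 := by decide +kernel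

theorem reps_ok : orbReps = [1, 2, 3, 6, 7, 14] ∧ orbMasks.getD 0 0 = 2 ∧
    orbMasks.foldl Nat.lor 0 = 2 ^ 1024 - 2 := by decide +kernel

theorem reps_ne : ∀ j, j < 6 → eqW (coordW (orbReps.getD j 0)) [] = false := by decide +kernel

theorem reach_ok : ∀ j, j < 6 → iterN grow 16 (2 ^ (orbReps.getD j 0)) = orbMasks.getD j 0 := by
  decide +kernel

theorem base_mask : orbMasks.getD 1 0 = ((List.range 21).foldl (fun m i => Nat.lor m (2 ^ codes.getD (i + 1) 0)) 0) := by
  decide +kernel

theorem chain_ok : chainPts.length = 4 ∧ (∀ l, l < 4 → chainPts.getD l 0 < 1024 ∧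
    (chainWords.getD l []).all (fun w => w.all (fun k => Nat.blt k 2)) = true ∧
    ((chainWords.getD l []).map (fun w => app w (chainPts.getD l 0))).Nodup ∧
    ∀ w ∈ chainWords.getD l [], ∀ j, j < l → app w (chainPts.getD j 0) = chainPts.getD j 0) ∧
    (chainWords.map List.length) = [21, 20, 16, 3] := by
  decide +kernel

/-- the ten images of a word -/
def key (w : List ℕ) : List ℕ := (List.range 10).map fun j => app w (2 ^ j)

/-- a list of ten coordinates as one number -/
def packKey : List ℕ → ℕ
  | [] => 1
  | x :: l => Nat.add x (Nat.mul 1024 (packKey l))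

theorem syl_ok : sylWords.length = 64 ∧ sylWords.all (fun w => w.all (fun k => Nat.blt k 2)) = true ∧
    sylWords.map key = sylImages ∧ (sylImages.map packKey).Nodup ∧ [] ∈ sylWords := by decide +kernel

theorem syl_mul : (sylImages.all fun u => sylImages.all fun v =>
    (sylImages.map packKey).any (Nat.beq (packKey (v.map (lin u))))) = true := by decide +kernel

theorem syl_fix : (sylImages.all fun u =>
    u == key [] || !(u.map (lin u) == key []) ||
      Nat.blt 32 (((List.range 1024).filter fun x => Nat.beq (lin u x) x).length)) = true := by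
  decide +kernel

theorem unions_differ : (((List.range 31).filter fun r => !Nat.beq r 1 && !Nat.beq r 2 && !Nat.beq r 0).all fun r =>
    orbReps.any fun v => bit (unionMask r) v && !Nat.beq (countSum (unionMask r) v) (countSum (unionMask r) 1)) = true := by
  decide +kernel

theorem twisted_base : ((others (unionMask 2) 1).all fun x => (others (unionMask 2) 1).all fun y =>
    (others (unionMask 2) 1).all fun z =>
      Nat.beq x y || Nat.beq x z || Nat.beq y z ||
        !((others (unionMask 2) 1).any fun w => Nat.beq w (Nat.xor (Nat.xor (Nat.xor x y) z) 1) &&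
          !Nat.beq w x && !Nat.beq w y && !Nat.beq w z)) = true := by decide +kernel

theorem twisted_other : bit (unionMask 2) 3 = true ∧ bit (unionMask 2) 5 = true ∧ bit (unionMask 2) 65 = true ∧
    bit (unionMask 2) 932 = true ∧ bit (unionMask 2) 995 = true ∧
    Nat.xor (Nat.xor (Nat.xor 5 65) 932) 995 = 3 := by decide +kernel

end CfsgLib.ThreeTrans.FiCent.Base
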