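import Cfsg.Agent.Lib.ThreeTrans.FiCent.DoubleCover
import Cfsg.Agent.Lib.ThreeTrans.Inst.FiTwentyTwo
import Cfsg.Agent.Lib.Components.Basic

/-!
A finite group with an involution whose centraliser is a perfect double cover of `PSU₆(2)`: the
centraliser is that of a transposition in the presented Fischer group on 22 letters.
-/

set_option autoImplicit false
set_option linter.unusedSectionVars false

namespace CfsgLib.ThreeTrans.FiCent

open Subgroup CfsgLib.ThreeTrans.Inst.FiTwentyTwo

/-- The presented group. -/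
abbrev X : Type := Cfsg.Spor.Fi22

/-- Its transpositions. -/
abbrev D0 : Set X := Inst.FiTwentyTwo.D

/-- The centraliser of the first transposition. -/
noncomputable abbrev H0 : Subgroup X := centralizer ({Inst.FiTwentyTwo.a} : Set X)

/-- The transposition, inside its centraliser. -/
noncomputable abbrev aH : ↥H0 :=
  ⟨Inst.FiTwentyTwo.a, mem_centralizer_singleton_iff.2 rfl⟩

theorem H0_eq : H0 = CfsgLib.Presented.Fi22UCosets.H := by
  ext g
  constructor
  · intro hg
    exact mem_H_of_fix (P.fix g (mem_centralizer_singleton_iff.1 hg))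
  · intro hg
    exact mem_centralizer_singleton_iff.2 (commute_a hg).eq

variable {G : Type*} [Group G]

/-- The centraliser of an element. -/
abbrev Cd (d : G) : Subgroup G := centralizer ({d} : Set G)

/-- An involution, not weakly closed in its centraliser, this being a perfect double cover of
`PSU₆(2)`. -/
structure Hyp (d : G) : Prop where
  ord : orderOf d = 2
  quasi : Cfsg.IsQuasisimple ↥(Cd d)
  quot : ∃ (K : Type) (_ : Field K) (_ : Fintype K), Fintype.card K = 4 ∧
    ∃ σ : ↥(Cd d) →* Cfsg.PSU 6 K 2, Function.Surjective σ ∧ σ.ker = (zpowers d).subgroupOf (Cd d)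
  nwc : ∃ g : G, g * d * g⁻¹ ∈ Cd d ∧ g * d * g⁻¹ ≠ d

/-- The hypothesis in the printed form. -/
theorem Hyp.mk' {d : G} (hd : orderOf d = 2) (hq : Cfsg.IsQuasisimple ↥(Cd d))
    [((zpowers d).subgroupOf (Cd d)).Normal] (K : Type) [Field K] [Fintype K]
    (hK : Fintype.card K = 4) (e : ↥(Cd d) ⧸ (zpowers d).subgroupOf (Cd d) ≃* Cfsg.PSU 6 K 2)
    (hnwc : ∃ g : G, g * d * g⁻¹ ∈ Cd d ∧ g * d * g⁻¹ ≠ d) : Hyp d := by
  refine ⟨hd, hq, ⟨K, inferInstance, inferInstance, hK,
    e.toMonoidHom.comp (QuotientGroup.mk' _), e.surjective.comp (QuotientGroup.mk'_surjective _), ?_⟩, hnwc⟩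
  exact (MonoidHom.ker_mulEquiv_comp _ e).trans (QuotientGroup.ker_mk' _)

theorem Hyp.le_Cd {d : G} (_ : Hyp d) : zpowers d ≤ Cd d :=
  Subgroup.zpowers_le.2 (mem_centralizer_singleton_iff.2 rfl)

/-- The centraliser is the centraliser in the presented group, the involution corresponding. -/
theorem Hyp.exists_iso [Finite G] {d : G} (h : Hyp d) :
    ∃ θ : ↥H0 ≃* ↥(Cd d), (θ aH : G) = d := by
  classical
  obtain ⟨K, _, _, hK, σ, hσs, hσk⟩ := h.quot
  have hF : Fintype.card K = 2 ^ 2 := hK.trans (by norm_num)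
  obtain ⟨w, -, -, hw⟩ := ThreeTrans.USix.exists_omega hF
  obtain ⟨Γ, _, _, ⟨eΓ⟩⟩ := CfsgLib.SchurCover.exists_small_copy.{0} ↥(Cd d)
  have hcd : d ∈ Cd d := mem_centralizer_singleton_iff.2 rfl
  have hzc : (zpowers d).subgroupOf (Cd d) ≤ center ↥(Cd d) := by
    intro x hx
    obtain ⟨n, hn⟩ := mem_zpowers_iff.1 (mem_subgroupOf.1 hx)
    refine mem_center_iff.2 fun g => Subtype.ext ?_
    show (g : G) * x = x * g
    rw [← hn]
    exact (show Commute (g : G) d from mem_centralizer_singleton_iff.1 g.2).zpow_right n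
  let τ : Γ →* Cfsg.PSU 6 K 2 := σ.comp eΓ.symm.toMonoidHom
  have hτ : Cfsg.IsStemExtension τ := by
    refine ⟨hσs.comp eΓ.symm.surjective, fun x hx => mem_center_iff.2 fun g => eΓ.symm.injective ?_,
      fun x _ => ?_⟩
    · rw [map_mul, map_mul]
      exact mem_center_iff.1 (hzc (hσk ▸ (show eΓ.symm x ∈ σ.ker from hx))) _
    · have ht := CfsgLib.Components.quasisimple_commutator_eq_top h.quasi
      have := congrArg (Subgroup.map eΓ.toMonoidHom) ht
      rw [CfsgLib.SchurCover.map_commutator_eq _ eΓ.surjective, map_top_of_surjective _ eΓ.surjective] at this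
      rw [this]; exact mem_top _
  have hcard : Nat.card τ.ker = 2 := by
    rw [show τ.ker = σ.ker.comap eΓ.symm.toMonoidHom from (MonoidHom.comap_ker σ _).symm,
      Subgroup.comap_equiv_eq_map_symm', hσk,
      Subgroup.card_map_of_injective eΓ.symm.symm.injective,
      Nat.card_congr (subgroupOfEquivOfLe h.le_Cd).toEquiv, Nat.card_zpowers, h.ord]
  obtain ⟨e₀⟩ := exists_iso_small hF hw τ hτ hcard
  let θ : ↥H0 ≃* ↥(Cd d) := (MulEquiv.subgroupCongr H0_eq).trans (e₀.trans eΓ.symm)
  refine ⟨θ, ?_⟩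
  set u : ↥(Cd d) := ⟨d, hcd⟩ with hu
  have hu1 : u ≠ 1 := fun e => by
    have hd1 : d = 1 := congrArg Subtype.val e
    have h2 := h.ord
    rw [hd1, orderOf_one] at h2
    omega
  have huc : u ∈ center ↥(Cd d) := hzc (mem_subgroupOf.2 (mem_zpowers d))
  set v : CfsgLib.Presented.Fi22UCosets.H := (e₀.trans eΓ.symm).symm u with hv
  have hvc : v ∈ center CfsgLib.Presented.Fi22UCosets.H := by
    refine mem_center_iff.2 fun g => (e₀.trans eΓ.symm).injective ?_
    rw [map_mul, map_mul, hv, MulEquiv.apply_symm_apply]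
    exact mem_center_iff.1 huc _
  rw [CfsgLib.Presented.Fi22Unitary.center_eq hF, ← CfsgLib.Schur.MultiplierU62.toPSU_ker hF hw] at hvc
  rcases CfsgLib.Schur.MultiplierU62.toPSU_ker_cases hF hw hvc with h1 | h1
  · exact absurd ((e₀.trans eΓ.symm).symm.map_eq_one_iff.1 h1) hu1
  · have ha : (MulEquiv.subgroupCongr H0_eq) aH = v := by
      rw [h1]
      exact Subtype.ext CfsgLib.Presented.Fi22Unitary.d0_eq
    show (((e₀.trans eΓ.symm) ((MulEquiv.subgroupCongr H0_eq) aH) : ↥(Cd d)) : G) = d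
    rw [ha, hv, MulEquiv.apply_symm_apply]

end CfsgLib.ThreeTrans.FiCent
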