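import Cfsg.Agent.Lib.ThreeTrans.FiCent.CoordGroup
import Cfsg.Agent.Lib.ThreeTrans.FiCent.Frame
import Cfsg.Agent.Lib.ThreeTrans.FiCent23.Base22
import Cfsg.Agent.Lib.ThreeTrans.Inst.FiTwentyTwoModel

/-!
The base of the tables in the presented Fischer group on 22 letters: coordinates of the subgroup it
generates, and the action of two elements of its stabiliser.
-/

set_option autoImplicit false

namespace CfsgLib.ThreeTrans.FiCent.Base

open Subgroup
open CfsgLib.Presented.Fi22Pts (bit bit_eq img ok tw eqW T pt ok_tw evW_tw conj_T phi_pt ok_append eqW_spec eqW_false)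
open CfsgLib.Presented.Fi22UCosets (ev)
open CfsgLib.ThreeTrans.Inst.FiTwentyTwo (P)
open CfsgLib.Presented (evW evW_nil)
open CfsgLib.ThreeTrans.FiCent23 (M22 cj cj_inj)
open CfsgLib.ThreeTrans.Tower (IsBase22)

instance finiteX : Finite X := CfsgLib.ThreeTrans.Inst.FiTwentyTwo.finite_fi22

/-- The class is of type M(22). -/
theorem m22 : M22 (Y := X) D0 :=
  ⟨Inst.FiTwentyTwo.isGroup, Inst.FiTwentyTwo.primitive, Inst.FiTwentyTwo.typeM22⟩

/-- The members of the table. -/
noncomputable def mem (i : ℕ) : X := T (pts.getD i 0)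

/-- The base of the table. -/
def B0 : Set X := {x | ∃ i, i < 22 ∧ mem i = x}

theorem mem_mem_D (i : ℕ) : mem i ∈ D0 := P.tp_mem _

theorem mem_sq (i : ℕ) : mem i * mem i = 1 := mul_self m22.set (mem_mem_D i)

theorem mem_zero : mem 0 = Inst.FiTwentyTwo.a := by
  rw [mem, pts_ok.2.2.1, T, CfsgLib.Presented.Fi22Pts.pt_zero]
  exact CfsgLib.Presented.Fi22Pts.tp_base

theorem getD_lt {i : ℕ} (hi : i < 22) : pts.getD i 0 < CfsgLib.Presented.Fi22UCert.rep.N :=
  (pts_ok.2.2.2.2.2 i hi).1

theorem ok_memW {i : ℕ} (hi : i < 22) : ok (memW i) = true := ok_tw (pts_ok.2.2.2.2.2 i hi).2.1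

theorem evW_memW {i : ℕ} (hi : i < 22) : evW ev (memW i) = mem i := by
  rw [memW, evW_tw (pts_ok.2.2.2.2.2 i hi).2.1, (pts_ok.2.2.2.2.2 i hi).2.2.1, mem]

theorem mem_inj {i j : ℕ} (hi : i < 22) (hj : j < 22) (h : mem i = mem j) : i = j := by
  have h' := congrArg Fin.val (P.tp_injective h)
  rw [CfsgLib.Presented.Fi22Pts.pt_val (getD_lt hi), CfsgLib.Presented.Fi22Pts.pt_val (getD_lt hj)] at h'
  have key : ∀ l : List ℕ, l.Nodup → i < l.length → j < l.length → l.getD i 0 = l.getD j 0 → i = j :=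
    fun l hn hi hj e => by
      rw [List.getD_eq_getElem _ _ hi, List.getD_eq_getElem _ _ hj] at e
      exact hn.getElem_inj_iff.1 e
  exact key pts pts_ok.2.2.2.2.1 (pts_ok.1.symm ▸ hi) (pts_ok.1.symm ▸ hj) h'

theorem mem_comm {i j : ℕ} (hi : i < 22) (hj : j < 22) : Commute (mem i) (mem j) := by
  have h := conj_T (ok_memW hi) (getD_lt hj)
  rw [evW_memW hi, pts_commute i hi j hj] at h
  exact mul_inv_eq_iff_eq_mul.1 h

/-- The subgroup of the base. -/
abbrev A0 : Subgroup X := closure B0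

instance A0_comm : IsMulCommutative A0 :=
  isMulCommutative_closure fun x ⟨i, hi, ex⟩ y ⟨j, hj, ey⟩ => ex ▸ ey ▸ (mem_comm hi hj).eq

theorem A0_mul_self {x : X} (hx : x ∈ A0) : x * x = 1 := by
  induction hx using closure_induction with
  | mem y hy => obtain ⟨i, -, rfl⟩ := hy; exact mem_sq i
  | one => simp
  | mul p q hp hq ihp ihq =>
    rw [show p * q * (p * q) = p * (q * p) * q by group, setLike_mul_comm hq hp,
      show p * (p * q) * q = (p * p) * (q * q) by group, ihp, ihq, one_mul]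
  | inv p hp ihp => rw [← mul_inv_rev, ihp, inv_one]

/-! ### Coordinates -/

/-- The member of one coordinate, or one. -/
noncomputable def fac (v j : ℕ) : X := if v.testBit j then mem (basisIx.getD j 0) else 1

/-- The element with given coordinates. -/
noncomputable def el (u : Fin 1024) : X := ((List.range 10).map (fac u)).prod

theorem fac_mem {v j : ℕ} (hj : j < 10) : fac v j ∈ A0 := by
  unfold fac
  split
  · exact subset_closure ⟨_, (basis_ok.2 j hj).1, rfl⟩
  · exact one_mem _

theorem el_mem (u : Fin 1024) : el u ∈ A0 :=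
  Subgroup.list_prod_mem _ fun x hx => by
    obtain ⟨j, hj, rfl⟩ := List.mem_map.1 hx
    exact fac_mem (List.mem_range.1 hj)

theorem fac_xor (u v j : ℕ) : fac (u ^^^ v) j = fac u j * fac v j := by
  simp only [fac, Nat.testBit_xor]
  cases u.testBit j <;> cases v.testBit j <;> simp [mem_sq]

theorem prod_pointwise {f g : ℕ → X} : ∀ (l : List ℕ), (∀ j ∈ l, f j ∈ A0) → (∀ j ∈ l, g j ∈ A0) →
    (l.map fun j => f j * g j).prod = (l.map f).prod * (l.map g).prod
  | [], _, _ => by simp
  | x :: l, hf, hg => by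
    have ih := prod_pointwise l (fun j hj => hf j (List.mem_cons_of_mem _ hj))
      fun j hj => hg j (List.mem_cons_of_mem _ hj)
    have hl : (l.map f).prod ∈ A0 := Subgroup.list_prod_mem _ fun y hy => by
      obtain ⟨j, hj, rfl⟩ := List.mem_map.1 hy
      exact hf j (List.mem_cons_of_mem _ hj)
    simp only [List.map_cons, List.prod_cons, ih]
    rw [mul_assoc (f x), ← mul_assoc (g x), setLike_mul_comm (hg x List.mem_cons_self) hl]
    group

theorem el_add (u v : Fin 1024) : el (vx u v) = el u * el v := by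
  rw [el, vx_val, el, el, ← prod_pointwise _ (fun j hj => fac_mem (List.mem_range.1 hj))
    fun j hj => fac_mem (List.mem_range.1 hj)]
  exact congrArg List.prod (List.map_congr_left fun j _ => fac_xor u v j)

theorem evW_coordW_aux (v : ℕ) : ∀ l : List ℕ, (∀ j ∈ l, j < 10) →
    evW ev (l.flatMap fun j => cond (bit v j) (memW (basisIx.getD j 0)) []) = (l.map (fac v)).prod
  | [], _ => by simp
  | x :: l, h => by
    rw [List.flatMap_cons, Inst.FiTwentyTwo.evW_cat, evW_coordW_aux v l fun j hj => h j (List.mem_cons_of_mem _ hj),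
      List.map_cons, List.prod_cons, bit_eq, fac]
    cases v.testBit x
    · simp
    · simp only [cond_true, if_true, evW_memW (basis_ok.2 x (h x List.mem_cons_self)).1]

theorem evW_coordW (u : Fin 1024) : evW ev (coordW u) = el u :=
  evW_coordW_aux u _ fun _ hj => List.mem_range.1 hj

theorem el_code {i : ℕ} (hi : i < 22) : el ⟨codes.getD i 0, (pts_ok.2.2.2.2.2 i hi).2.2.2⟩ = mem i := by
  rw [← evW_coordW, ← evW_memW hi]
  exact eqW_spec (codes_ok i hi)

theorem el_one : el 1 = Inst.FiTwentyTwo.a := by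
  have h := el_code (i := 0) (by norm_num)
  rw [mem_zero] at h
  rw [← h]
  exact congrArg el (Fin.ext (by simpa using pts_ok.2.2.2.1.symm))

/-- Coordinates as a homomorphism. -/
noncomputable def elHom : VG →* X where
  toFun := el
  map_one' := left_eq_mul.1 (show el (0 : Fin 1024) = el 0 * el 0 by rw [← el_add, vx_self])
  map_mul' := el_add

theorem bits_ok : ∀ v : Fin 1024,
    ((List.range 10).map fun j => if (v : ℕ).testBit j then 2 ^ j else 0).foldr (· ^^^ ·) 0 = (v : ℕ) := by
  decide +kernel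

/-- Homomorphisms agreeing on the ten unit vectors are equal. -/
theorem hom_ext {f g : VG →* X}
    (h : ∀ j (hj : j < 10), f (⟨2 ^ j, (Nat.pow_lt_pow_iff_right one_lt_two).2 hj⟩ : Fin 1024) =
      g (⟨2 ^ j, (Nat.pow_lt_pow_iff_right one_lt_two).2 hj⟩ : Fin 1024)) : f = g := by
  have key : ∀ l : List ℕ, (∀ x ∈ l, x = 0 ∨ ∃ j, j < 10 ∧ x = 2 ^ j) →
      ∀ u : Fin 1024, (u : ℕ) = l.foldr (· ^^^ ·) 0 → f u = g u := by
    intro l
    induction l with
    | nil =>
      intro _ u hu
      rw [show u = (0 : Fin 1024) from Fin.ext hu]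
      exact (map_one f).trans (map_one g).symm
    | cons x l ih =>
      intro hx u hu
      have hl : l.foldr (· ^^^ ·) 0 < 1024 := by
        clear hu ih u
        induction l with
        | nil => norm_num
        | cons y l ih =>
          refine Nat.xor_lt_two_pow (n := 10) ?_ (ih fun z hz => hx z ?_)
          · rcases hx y (by simp) with e | ⟨j, hj, e⟩ <;> rw [e]
            · norm_num
            · exact Nat.pow_lt_pow_right one_lt_two hj
          · rcases List.mem_cons.1 hz with e | e <;> simp [e]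
      have hx' : x < 1024 := by
        rcases hx x List.mem_cons_self with e | ⟨j, hj, e⟩ <;> rw [e]
        · norm_num
        · exact Nat.pow_lt_pow_right (n := 10) one_lt_two hj
      have e : u = vx ⟨x, hx'⟩ ⟨_, hl⟩ := Fin.ext hu
      rw [e]
      refine (f.map_mul _ _).trans (Eq.trans ?_ (g.map_mul _ _).symm)
      rw [ih (fun z hz => hx z (List.mem_cons_of_mem _ hz)) ⟨_, hl⟩ rfl]
      congr 1
      rcases hx x List.mem_cons_self with e | ⟨j, hj, e⟩
      · rw [show (⟨x, hx'⟩ : Fin 1024) = 0 from Fin.ext e]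
        exact (map_one f).trans (map_one g).symm
      · subst e; exact h j hj
  refine MonoidHom.ext fun (u : Fin 1024) => key _ ?_ u (bits_ok u).symm
  intro x hx
  obtain ⟨j, hj, rfl⟩ := List.mem_map.1 hx
  by_cases hb : Nat.testBit (Fin.val u) j = true
  · exact Or.inr ⟨j, List.mem_range.1 hj, if_pos hb⟩
  · exact Or.inl (if_neg hb)

theorem el_range {x : X} : x ∈ A0 ↔ ∃ u, el u = x := by
  refine ⟨fun hx => ?_, fun ⟨u, hu⟩ => hu ▸ el_mem u⟩
  have : A0 ≤ elHom.range := (closure_le _).2 fun y ⟨i, hi, hy⟩ => ⟨_, (el_code hi).trans hy⟩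
  exact this hx

/-! ### The action of the two elements -/

theorem lin_xor : ∀ (l : List ℕ) (u v : ℕ), lin l (u ^^^ v) = lin l u ^^^ lin l v
  | [], _, _ => by simp [lin]
  | x :: l, u, v => by
    have e : Nat.div (u ^^^ v) 2 = Nat.div u 2 ^^^ Nat.div v 2 := Nat.xor_div_two_pow (n := 1)
    simp only [lin, bit_eq, e, lin_xor l, Nat.testBit_xor]
    cases u.testBit 0 <;> cases v.testBit 0 <;>
      simp only [Bool.xor_false, Bool.xor_true, Bool.not_false, Bool.not_true, cond_true, cond_false,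
        show ∀ a b : ℕ, Nat.xor a b = a ^^^ b from fun _ _ => rfl] <;>
      simp [Nat.xor_assoc, Nat.xor_left_comm]

theorem lin_lt : ∀ (l : List ℕ) (v : ℕ), (∀ x ∈ l, x < 1024) → lin l v < 1024
  | [], _, _ => by simp [lin]
  | x :: l, v, h => by
    have ih := lin_lt l (Nat.div v 2) fun y hy => h y (List.mem_cons_of_mem _ hy)
    unfold lin
    cases bit v 0
    · exact ih
    · exact Nat.xor_lt_two_pow (n := 10) (h x List.mem_cons_self) ih

theorem gImages_lt {k : ℕ} (hk : k < 2) : ∀ x ∈ gImages.getD k [], x < 1024 := fun x hx => by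
  obtain ⟨j, hj, rfl⟩ := List.mem_iff_getElem.1 hx
  have := gens_lt k hk j ((gens_ok k hk).2.2.1 ▸ hj)
  rwa [List.getD_eq_getElem _ _ hj] at this

theorem lin_unit : ∀ k, k < 2 → ∀ j, j < 10 → lin (gImages.getD k []) (2 ^ j) = (gImages.getD k []).getD j 0 := by
  decide +kernel

/-- One of the two elements. -/
noncomputable def gen (k : ℕ) : X := evW ev (gWords.getD k [])

/-- Its action on coordinates. -/
def linF {k : ℕ} (hk : k < 2) (u : Fin 1024) : Fin 1024 :=
  ⟨lin (gImages.getD k []) u, lin_lt _ _ (gImages_lt hk)⟩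

theorem gen_fix {k : ℕ} (hk : k < 2) : gen k ∈ H0 := by
  refine mem_centralizer_singleton_iff.2 ?_
  have h := conj_T (gens_ok k hk).1 (CfsgLib.Presented.VCert.pos CfsgLib.Presented.Fi22UCert.cert_ok)
  rw [(gens_ok k hk).2.1, T, CfsgLib.Presented.Fi22Pts.pt_zero, CfsgLib.Presented.Fi22Pts.tp_base] at h
  exact mul_inv_eq_iff_eq_mul.1 h

theorem gen_mem {k : ℕ} (hk : k < 2) {i : ℕ} (hi : i < 22) :
    gen k * mem i * (gen k)⁻¹ = mem ((gPerms.getD k []).getD i 0) := by
  rw [gen, mem, conj_T (gens_ok k hk).1 (getD_lt hi), ((gens_ok k hk).2.2.2.1 i hi).2, mem]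

theorem gen_conj {k : ℕ} (hk : k < 2) (u : Fin 1024) : gen k * el u * (gen k)⁻¹ = el (linF hk u) := by
  let f' : VG →* X :=
    { toFun := fun u => el (linF hk u)
      map_one' := by
        rw [show linF hk (1 : VG) = (0 : Fin 1024) from Fin.ext (by
          show lin (gImages.getD k []) 0 = 0
          have h := lin_xor (gImages.getD k []) 0 0
          rw [Nat.xor_self] at h
          rw [h, Nat.xor_self])]
        exact elHom.map_one
      map_mul' := fun u v => by
        rw [← el_add]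
        exact congrArg el (Fin.ext (lin_xor _ _ _)) }
  refine DFunLike.congr_fun (hom_ext (f := (MulAut.conj (gen k)).toMonoidHom.comp elHom) (g := f') ?_) u
  intro j hj
  obtain ⟨hb, hc⟩ := basis_ok.2 j hj
  have he : el ⟨2 ^ j, (Nat.pow_lt_pow_iff_right one_lt_two).2 hj⟩ = mem (basisIx.getD j 0) := by
    rw [← el_code hb]; exact congrArg el (Fin.ext hc.symm)
  show gen k * el _ * (gen k)⁻¹ = el _
  rw [he, gen_mem hk hb, ← el_code ((gens_ok k hk).2.2.2.1 _ hb).1]
  refine congrArg el (Fin.ext ?_)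
  show _ = lin (gImages.getD k []) (2 ^ j)
  rw [lin_unit k hk j hj, (gens_ok k hk).2.2.2.2 j hj]

/-! ### Injectivity -/

theorem imgMask_spec (im : List ℕ) (m v : ℕ) (h : (imgMask im m).testBit v = true) :
    ∃ u, u < 1024 ∧ m.testBit u = true ∧ lin im u = v := by
  have key : ∀ n, (Nat.rec (motive := fun _ => ℕ) 0
      (fun v ih => cond (bit m v) (Nat.lor ih (Nat.shiftLeft 1 (lin im v))) ih) n).testBit v = true →
      ∃ u, u < n ∧ m.testBit u = true ∧ lin im u = v := by
    intro n
    induction n with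
    | zero => simp
    | succ n ih =>
      intro h
      replace h : (cond (bit m n) (Nat.lor _ (Nat.shiftLeft 1 (lin im n))) _).testBit v = true := h
      rw [bit_eq] at h
      cases hb : m.testBit n <;> rw [hb] at h
      · obtain ⟨u, hu, h'⟩ := ih h
        exact ⟨u, Nat.lt_succ_of_lt hu, h'⟩
      · replace h : (_ ||| (1 <<< lin im n)).testBit v = true := h
        rw [Nat.testBit_or, Bool.or_eq_true, Nat.one_shiftLeft, Nat.testBit_two_pow, decide_eq_true_eq] at h
        rcases h with h | h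
        · obtain ⟨u, hu, h'⟩ := ih h
          exact ⟨u, Nat.lt_succ_of_lt hu, h'⟩
        · exact ⟨n, Nat.lt_succ_self n, hb, h⟩
  exact key 1024 h

/-- The group of the two elements. -/
noncomputable def GN : Subgroup X := closure {x | ∃ k, k < 2 ∧ gen k = x}

theorem GN_le : GN ≤ H0 := (closure_le _).2 fun _ ⟨_, hk, e⟩ => e ▸ gen_fix hk

theorem reach_spec (r : Fin 1024) : ∀ (n : ℕ) (v : Fin 1024), (iterN grow n (2 ^ (r : ℕ))).testBit v = true →
    ∃ g ∈ GN, g * el r * g⁻¹ = el v := by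
  intro n
  induction n with
  | zero =>
    intro v h
    replace h : ((2 : ℕ) ^ (r : ℕ)).testBit v = true := h
    rw [Nat.testBit_two_pow, decide_eq_true_eq] at h
    exact ⟨1, one_mem _, by rw [Fin.ext h]; simp⟩
  | succ n ih =>
    intro v h
    replace h : (CfsgLib.Presented.Vec.force (iterN grow n (2 ^ (r : ℕ))) grow).testBit v = true := h
    rw [CfsgLib.Presented.Vec.force_eq] at h
    simp only [grow, show ∀ a b : ℕ, Nat.lor a b = a ||| b from fun _ _ => rfl, Nat.testBit_or,
      Bool.or_eq_true] at h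
    rcases h with h | h | h
    · exact ih v h
    all_goals
      obtain ⟨u, hu, hu', e⟩ := imgMask_spec _ _ _ h
      obtain ⟨g, hg, hgu⟩ := ih ⟨u, hu⟩ hu'
    · refine ⟨gen 0 * g, mul_mem (subset_closure ⟨0, by norm_num, rfl⟩) hg, ?_⟩
      rw [show gen 0 * g * el r * (gen 0 * g)⁻¹ = gen 0 * (g * el r * g⁻¹) * (gen 0)⁻¹ by group, hgu,
        gen_conj (by norm_num)]
      exact congrArg el (Fin.ext e)
    · refine ⟨gen 1 * g, mul_mem (subset_closure ⟨1, by norm_num, rfl⟩) hg, ?_⟩
      rw [show gen 1 * g * el r * (gen 1 * g)⁻¹ = gen 1 * (g * el r * g⁻¹) * (gen 1)⁻¹ by group, hgu,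
        gen_conj (by norm_num)]
      exact congrArg el (Fin.ext e)

theorem rep_lt {j : ℕ} (hj : j < 6) : orbReps.getD j 0 < 1024 := by
  rw [reps_ok.1]; interval_cases j <;> decide

theorem mask_reach {j : ℕ} (hj : j < 6) {v : Fin 1024} (h : (orbMasks.getD j 0).testBit v = true) :
    ∃ g ∈ GN, g * el ⟨orbReps.getD j 0, rep_lt hj⟩ * g⁻¹ = el v :=
  reach_spec _ 16 v ((reach_ok j hj).symm ▸ h)

theorem el_ne_one {v : Fin 1024} (hv : v ≠ 0) : el v ≠ 1 := by
  intro e
  obtain ⟨j, hj, hjv⟩ := mem_mask (v := v) (fun k => hv (Fin.ext k)) v.2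
  obtain ⟨g, -, hg⟩ := mask_reach hj hjv
  rw [e, mul_inv_eq_one] at hg
  refine eqW_false ?_ rfl (reps_ne j hj) ?_
  · exact List.all_eq_true.2 fun x hx => by
      obtain ⟨i, hi, hx⟩ := List.mem_flatMap.1 hx
      cases hb : bit (orbReps.getD j 0) i <;> rw [hb] at hx
      · simp at hx
      · exact List.all_eq_true.1 (ok_memW (basis_ok.2 i (List.mem_range.1 hi)).1) x hx
  · rw [evW_nil, show orbReps.getD j 0 = ((⟨_, rep_lt hj⟩ : Fin 1024) : ℕ) from rfl, evW_coordW]
    exact mul_left_cancel (hg.trans (mul_one g).symm)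

theorem coord : Coord el := by
  refine ⟨fun u v h => ?_, el_add⟩
  have h1 : el (vx u v) = 1 := by rw [el_add, h, A0_mul_self (el_mem v)]
  by_contra hne
  refine el_ne_one (fun e => hne ?_) h1
  rw [← vx_zero u, ← vx_self v, ← vx_assoc, e, zero_vx]

theorem card_A0 : Nat.card A0 = 1024 := by
  rw [show A0 = coord.sub from Subgroup.ext fun x => el_range.trans coord.mem_sub.symm, coord.card_sub]

theorem A0_le_H0 : A0 ≤ H0 := fun x hx => mem_centralizer_singleton_iff.2 (by
  obtain ⟨u, rfl⟩ := el_range.1 hx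
  rw [← el_one]
  exact (coord.comm u 1).eq)

/-! ### The base -/

theorem B0_sub : B0 ⊆ D0 := fun _ ⟨i, _, e⟩ => e ▸ mem_mem_D i

theorem B0_comm : ∀ x ∈ B0, ∀ y ∈ B0, Commute x y := fun _ ⟨_, hi, ex⟩ _ ⟨_, hj, ey⟩ => ex ▸ ey ▸ mem_comm hi hj

theorem B0_card : B0.ncard = 22 := by
  rw [show B0 = mem '' Set.Iio 22 from Set.ext fun x => ⟨fun ⟨i, hi, e⟩ => ⟨i, hi, e⟩, fun ⟨i, hi, e⟩ => ⟨i, hi, e⟩⟩,
    Set.InjOn.ncard_image (s := Set.Iio 22) (fun i hi j hj e => mem_inj hi hj e), Set.ncard_Iio_nat]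

theorem base_codes : ∀ v : Fin 1024, (unionMask 1).testBit v = codes.any (Nat.beq v) := by
  decide +kernel

theorem el_mem_B0 {v : Fin 1024} : el v ∈ B0 ↔ (unionMask 1).testBit v = true := by
  rw [base_codes, List.any_eq_true]
  constructor
  · rintro ⟨i, hi, e⟩
    refine ⟨codes.getD i 0, ?_, ?_⟩
    · rw [List.getD_eq_getElem _ _ (pts_ok.2.1.symm ▸ hi)]
      exact List.getElem_mem _
    · rw [← el_code hi] at e
      rw [← coord.inj e]
      exact Nat.beq_refl _
  · rintro ⟨x, hx, hvx⟩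
    obtain ⟨i, hi, rfl⟩ := List.mem_iff_getElem.1 hx
    have hi' : i < 22 := pts_ok.2.1 ▸ hi
    refine ⟨i, hi', ?_⟩
    rw [← el_code hi']
    refine congrArg el (Fin.ext ?_)
    show codes.getD i 0 = v
    rw [List.getD_eq_getElem _ _ hi, Nat.eq_of_beq_eq_true hvx]

end CfsgLib.ThreeTrans.FiCent.Base
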