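import Cfsg.Agent.Lib.ThreeTrans.FiCent.BaseModel

/-!
The bases through the first transposition of the presented Fischer group on 22 letters are conjugate in its
centraliser; an involution there lies over one of them, and so does an elementary abelian subgroup of order
1024.
-/

set_option autoImplicit false

namespace CfsgLib.ThreeTrans.FiCent.Base

open Subgroup
open CfsgLib.ThreeTrans.FiCent23 (cj cj_inj triple_of_base)
open CfsgLib.ThreeTrans.Tower (IsBase22)
open CfsgLib.ThreeTrans (mul_self braid mul_self_mul inv_eq commute_of_commute_two commute_of_commute_three)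
open CfsgLib.ThreeTrans.TypeTop (isProd_one isProd_two isProd_three card_lt_base)

/-- A member preserving a base lies in it. -/
theorem mem_of_perm {B : Set X} (hB : IsBase22 D0 B) {b : X} (hb : b ∈ D0)
    (h : ∀ x ∈ B, b * x * b⁻¹ ∈ B) : b ∈ B := by
  refine hB.maximal hb fun x hx => ?_
  by_contra hn
  have hs := m22.set
  have hc := hB.comm x hx _ (h x hx)
  rw [inv_eq hs hb, braid hs hb (hB.sub hx) hn] at hc
  apply hn
  have h1 : x * (x * b * x) = b * x := by simp [mul_assoc, mul_self_mul hs (hB.sub hx)]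
  have h2 : x * b * x * x = x * b := by simp [mul_assoc, mul_self hs (hB.sub hx)]
  exact h1.symm.trans (hc.eq.trans h2)

theorem isPGroup_of_sq {E : Subgroup X} (h : ∀ x ∈ E, x * x = 1) : IsPGroup 2 E := fun x =>
  ⟨1, Subtype.ext (by rw [pow_one, pow_two]; exact h x x.2)⟩

/-- The members of the table form a base. -/
theorem B0_base : IsBase22 D0 B0 := by
  obtain ⟨B, hB, hfix⟩ := m22.exists_base_fixed (isPGroup_of_sq fun x hx => A0_mul_self hx)
  have hsub : B0 ⊆ B := fun b hb => mem_of_perm hB (B0_sub hb) fun x hx =>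
    hfix b (subset_closure hb) ▸ ⟨x, hx, rfl⟩
  rwa [Set.eq_of_subset_of_ncard_le hsub (by rw [B0_card, hB.card]) (Set.toFinite _)]

/-- The members in the subgroup of the base are the base. -/
theorem D0_A0 {x : X} (hx : x ∈ D0) (hA : x ∈ A0) : x ∈ B0 :=
  B0_base.maximal hx fun _ hy => setLike_mul_comm hA (subset_closure hy)

theorem a_mem_B0 : Inst.FiTwentyTwo.a ∈ B0 := ⟨0, by norm_num, mem_zero⟩

theorem a_central {c : X} (hc : c ∈ H0) : c⁻¹ * Inst.FiTwentyTwo.a * c = Inst.FiTwentyTwo.a := by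
  rw [mul_assoc, ← mem_centralizer_singleton_iff.1 hc, inv_mul_cancel_left]

/-- The bases through the first transposition are conjugate in its centraliser. -/
theorem base_through_a {B : Set X} (hB : IsBase22 D0 B) (ha : Inst.FiTwentyTwo.a ∈ B) :
    ∃ c ∈ H0, cj c '' B0 = B := by
  have third : ∀ {B : Set X}, IsBase22 D0 B → Inst.FiTwentyTwo.a ∈ B → ∃ b c, b ∈ B ∧ c ∈ B ∧
      FiCent23.Triple D0 Inst.FiTwentyTwo.a b c := by
    intro B hB ha
    obtain ⟨b, c, hb, hc, hne⟩ := (Set.one_lt_ncard_iff (Set.toFinite (B \ {Inst.FiTwentyTwo.a}))).1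
      (by rw [Set.ncard_sdiff_singleton_of_mem ha, hB.card]; norm_num)
    exact ⟨b, c, hb.1, hc.1, triple_of_base hB ha hb.1 hc.1 (Ne.symm hb.2) (Ne.symm hc.2) hne⟩
  obtain ⟨b, c, hb, hc, t⟩ := third B0_base a_mem_B0
  obtain ⟨b', c', hb', hc', t'⟩ := third hB ha
  obtain ⟨g, hg, -, -, e⟩ := m22.triples_conj B0_base hB t a_mem_B0 hb hc t' ha hb' hc'
  exact ⟨g, mem_centralizer_singleton_iff.2 (mul_inv_eq_iff_eq_mul.1 hg), e⟩

/-- A 2-subgroup with the first transposition preserves a conjugate of the base under the centraliser. -/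
theorem fixed_conj {Q : Subgroup X} (hQ : IsPGroup 2 Q) (ha : Inst.FiTwentyTwo.a ∈ Q) :
    ∃ c ∈ H0, ∀ q ∈ Q, ∀ b ∈ B0, (c⁻¹ * q * c) * b * (c⁻¹ * q * c)⁻¹ ∈ B0 := by
  obtain ⟨B, hB, hfix⟩ := m22.exists_base_fixed hQ
  have haB : Inst.FiTwentyTwo.a ∈ B := mem_of_perm hB (Inst.FiTwentyTwo.P.a_mem) fun x hx =>
    hfix _ ha ▸ ⟨x, hx, rfl⟩
  obtain ⟨c, hc, rfl⟩ := base_through_a hB haB
  refine ⟨c, hc, fun q hq b hb => ?_⟩
  obtain ⟨y, hy, e⟩ : cj q (cj c b) ∈ cj c '' B0 := hfix q hq ▸ ⟨_, ⟨b, hb, rfl⟩, rfl⟩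
  convert hy using 1
  apply cj_inj c
  rw [e]
  simp [cj, mul_assoc]

/-- An involution of the centraliser is conjugate in it into the subgroup of the base. -/
theorem invol_in_base {x : X} (hx : x ∈ H0) (h2 : x * x = 1) (h1 : x ≠ 1) :
    ∃ c ∈ H0, c⁻¹ * x * c ∈ A0 := by
  have hs := m22.set
  have haD : Inst.FiTwentyTwo.a ∈ D0 := Inst.FiTwentyTwo.P.a_mem
  have hax : Commute Inst.FiTwentyTwo.a x := (show Commute x _ from mem_centralizer_singleton_iff.1 hx).symm
  obtain ⟨l, hlD, hla, hlc, rfl⟩ : ∃ l : List X, (∀ y ∈ l, y ∈ D0) ∧ (∀ y ∈ l, Commute Inst.FiTwentyTwo.a y) ∧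
      (∀ y ∈ l, ∀ z ∈ l, Commute y z) ∧ x = l.prod := by
    obtain ⟨n, hn1, hn3, hn⟩ := m22.classify h2 h1
    interval_cases n
    · refine ⟨[x], ?_, ?_, ?_, by simp⟩
      · simpa using isProd_one.1 hn
      · simpa using hax
      · simp
    · obtain ⟨p, hp, q, hq, rfl⟩ := isProd_two.1 hn
      have k := commute_of_commute_two hs hp hq.1 haD (Ne.symm hq.2.1) hq.2.2 hax
      refine ⟨[p, q], ?_, ?_, ?_, by simp⟩
      · simp [hp, hq.1]
      · simp [k.1, k.2]
      · simp [hq.2.2, hq.2.2.symm]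
    · obtain ⟨p, hp, q, hq, r, ⟨hrp, hrq⟩, rfl⟩ := isProd_three.1 hn
      have k : Commute Inst.FiTwentyTwo.a p ∧ Commute Inst.FiTwentyTwo.a q ∧ Commute Inst.FiTwentyTwo.a r := by
        by_cases e : Inst.FiTwentyTwo.a = r
        · exact ⟨e ▸ hrp.2.2.symm, e ▸ hrq.2.2.symm, e ▸ Commute.refl r⟩
        exact commute_of_commute_three hs hp hq.1 hrp.1 haD (Ne.symm hq.2.1) (Ne.symm hrp.2.1) (Ne.symm hrq.2.1)
          hq.2.2 hrp.2.2 hrq.2.2 e hax
      refine ⟨[p, q, r], ?_, ?_, ?_, by simp [mul_assoc]⟩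
      · simp [hp, hq.1, hrp.1]
      · simp [k.1, k.2.1, k.2.2]
      · simp [hq.2.2, hq.2.2.symm, hrp.2.2, hrp.2.2.symm, hrq.2.2, hrq.2.2.symm]
  set Q := closure (insert Inst.FiTwentyTwo.a {y | y ∈ l}) with hQ
  have hmem : ∀ y ∈ insert Inst.FiTwentyTwo.a {y | y ∈ l}, y ∈ D0 := by
    rintro y (rfl | hy); exacts [haD, hlD y hy]
  have hcomm : ∀ y ∈ insert Inst.FiTwentyTwo.a {y | y ∈ l}, ∀ z ∈ insert Inst.FiTwentyTwo.a {y | y ∈ l},
      y * z = z * y := by
    rintro y (rfl | hy) z (rfl | hz)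
    exacts [rfl, (hla z hz).eq, (hla y hy).symm.eq, (hlc y hy z hz).eq]
  haveI : IsMulCommutative Q := isMulCommutative_closure hcomm
  have hsq : ∀ y ∈ Q, y * y = 1 := fun y hy => by
    induction hy using closure_induction with
    | mem z hz => exact mul_self hs (hmem z hz)
    | one => simp
    | mul p q hp hq ihp ihq =>
      rw [show p * q * (p * q) = p * (q * p) * q by group, setLike_mul_comm hq hp,
        show p * (p * q) * q = (p * p) * (q * q) by group, ihp, ihq, one_mul]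
    | inv p hp ihp => rw [← mul_inv_rev, ihp, inv_one]
  obtain ⟨c, hc, hperm⟩ := fixed_conj (isPGroup_of_sq hsq) (subset_closure (Set.mem_insert _ _))
  refine ⟨c, hc, ?_⟩
  rw [show c⁻¹ * l.prod * c = MulAut.conj c⁻¹ l.prod by simp, map_list_prod]
  refine Subgroup.list_prod_mem _ fun z hz => ?_
  obtain ⟨y, hy, rfl⟩ := List.mem_map.1 hz
  rw [show MulAut.conj c⁻¹ y = c⁻¹ * y * c by simp]
  have hyD : c⁻¹ * y * c ∈ D0 := by simpa using Inst.FiTwentyTwo.P.conj_mem c⁻¹ (hlD y hy)
  exact subset_closure (mem_of_perm B0_base hyD (hperm y (subset_closure (Set.mem_insert_of_mem _ hy))))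

/-- An elementary abelian subgroup of order 1024 in the centraliser is conjugate there to that of the base. -/
theorem elem_unique {E : Subgroup X} (hle : E ≤ H0) (hE : Cfsg.IsElementaryAbelian 2 E)
    (hcard : 1024 ≤ Nat.card E) : ∃ c ∈ H0, E = A0.map (MulAut.conj c).toMonoidHom := by
  have := hE.1
  set Q := closure (insert Inst.FiTwentyTwo.a (E : Set X)) with hQ
  have hcomm : ∀ y ∈ insert Inst.FiTwentyTwo.a (E : Set X), ∀ z ∈ insert Inst.FiTwentyTwo.a (E : Set X),
      y * z = z * y := by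
    rintro y (rfl | hy) z (rfl | hz)
    exacts [rfl, (mem_centralizer_singleton_iff.1 (hle hz)).symm, mem_centralizer_singleton_iff.1 (hle hy),
      setLike_mul_comm hy hz]
  haveI : IsMulCommutative Q := isMulCommutative_closure hcomm
  have hsq : ∀ y ∈ Q, y * y = 1 := fun y hy => by
    induction hy using closure_induction with
    | mem z hz =>
      rcases hz with rfl | hz
      · exact Inst.FiTwentyTwo.a_sq
      · rw [← pow_two]; exact hE.2 z hz
    | one => simp
    | mul p q hp hq ihp ihq =>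
      rw [show p * q * (p * q) = p * (q * p) * q by group, setLike_mul_comm hq hp,
        show p * (p * q) * q = (p * p) * (q * q) by group, ihp, ihq, one_mul]
    | inv p hp ihp => rw [← mul_inv_rev, ihp, inv_one]
  obtain ⟨c, hc, hperm⟩ := fixed_conj (isPGroup_of_sq hsq) (subset_closure (Set.mem_insert _ _))
  refine ⟨c, hc, ?_⟩
  set F := E.map (MulAut.conj c⁻¹).toMonoidHom with hF
  have hFE : Cfsg.IsElementaryAbelian 2 F := by
    refine ⟨⟨⟨fun p q => ?_⟩⟩, ?_⟩
    · obtain ⟨y, hy, hp⟩ := p.2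
      obtain ⟨z, hz, hq⟩ := q.2
      refine Subtype.ext ?_
      show (p : X) * q = q * p
      rw [← hp, ← hq, ← map_mul, ← map_mul, setLike_mul_comm hy hz]
    · rintro _ ⟨y, hy, rfl⟩
      rw [← map_pow, hE.2 y hy, map_one]
  have hFcard : 1024 ≤ Nat.card F := by
    rw [hF, Subgroup.card_map_of_injective (MulAut.conj c⁻¹).injective]; exact hcard
  have hFA : F ≤ A0 := by
    by_contra hn
    have := card_lt_base m22.set B0_base (fun y hy hy1 => m22.classify hy hy1) (m22.rel (by norm_num) (by norm_num))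
      hFE (fun g ⟨y, hy, e⟩ b hb => e ▸ by
        simpa using hperm y (subset_closure (Set.mem_insert_of_mem _ hy)) b hb) hn
    rw [card_A0] at this
    omega
  have hFA' : F = A0 := eq_of_le_of_card_ge hFA (by rw [card_A0]; exact hFcard)
  rw [← hFA', hF, Subgroup.map_map]
  convert (Subgroup.map_id E).symm using 2
  ext y
  simp [mul_assoc]

end CfsgLib.ThreeTrans.FiCent.Base
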