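import Cfsg.Agent.Lib.Presented.Fi22Pts.Basic
import Cfsg.Agent.Lib.ThreeTrans.FiCent.Frame

/-!
Checked orbit trees on the points of the presented Fischer group on 22 letters, and lower bounds
for the orders of subgroups generated by listed elements.
-/

set_option autoImplicit false
set_option maxRecDepth 8000

namespace CfsgLib.ThreeTrans.FiCent

open CfsgLib.Presented CfsgLib.Presented.Fi22Pts
open CfsgLib.ThreeTrans.Inst.FiTwentyTwo (P)
open Fi22UCosets (ev)
open Fi22UCert (rep)

/-- The element of a word. -/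
noncomputable def el (w : List ℕ) : X := evW ev w

theorem el_append (u v : List ℕ) : el (u ++ v) = el u * el v :=
  Inst.FiTwentyTwo.evW_cat u v

theorem el_img {w : List ℕ} (h : ok w = true) {p : ℕ} (hp : p < rep.N) :
    P.φ (el w) (pt p) = pt (img w p) := phi_pt h hp

theorem el_conj {w : List ℕ} (h : ok w = true) {p : ℕ} (hp : p < rep.N) :
    el w * T p * (el w)⁻¹ = T (img w p) := conj_T h hp

theorem pt_inj {p q : ℕ} (hp : p < rep.N) (hq : q < rep.N) (e : pt p = pt q) : p = q := by
  rw [← pt_val hp, ← pt_val hq, e]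

theorem T_inj {p q : ℕ} (hp : p < rep.N) (hq : q < rep.N) (e : T p = T q) : p = q :=
  pt_inj hp hq (P.tp_injective e)

theorem exists_T {x : X} (hx : x ∈ D0) : ∃ p, p < rep.N ∧ T p = x := by
  obtain ⟨j, rfl⟩ := P.tp_surj hx
  exact ⟨j, j.2, by rw [T, pt_self]⟩

theorem T_mem (p : ℕ) : T p ∈ D0 := P.tp_mem _

theorem commute_el_iff {w : List ℕ} (h : ok w = true) {p : ℕ} (hp : p < rep.N) :
    Commute (el w) (T p) ↔ img w p = p := by
  rw [commute_T_iff, el_img h hp]
  exact ⟨fun e => pt_inj (img_lt h hp) hp e, fun e => by rw [e]⟩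

/-- One step of a tree. -/
noncomputable def treeStep (gens : List (List ℕ)) (t : ℕ × ℕ × ℕ) (m : ℕ) : Bool :=
  bit m t.1 && !bit m t.2.2 && Nat.blt t.1 3510 && Nat.blt t.2.1 gens.length &&
    Nat.beq (img (gens.getD t.2.1 []) t.1) t.2.2

/-- A tree (parent, generator, new point) grown on a set of points. -/
noncomputable def grow (gens : List (List ℕ)) (tree : List (ℕ × ℕ × ℕ)) : ℕ → Bool × ℕ :=
  List.rec (motive := fun _ => ℕ → Bool × ℕ) (fun m => (true, m))
    (fun t _ ih m => cond (treeStep gens t m)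
      (Vec.force (Nat.lor m (Nat.shiftLeft 1 t.2.2)) fun m' => ih m') (false, m)) tree

theorem grow_nil (gens : List (List ℕ)) (m : ℕ) : grow gens [] m = (true, m) := rfl

theorem grow_cons {gens : List (List ℕ)} {t : ℕ × ℕ × ℕ} {l : List (ℕ × ℕ × ℕ)} {m : ℕ}
    (h : (grow gens (t :: l) m).1 = true) :
    treeStep gens t m = true ∧ grow gens (t :: l) m = grow gens l (m ||| 1 <<< t.2.2) := by
  have e : grow gens (t :: l) m = cond (treeStep gens t m)
      (Vec.force (Nat.lor m (Nat.shiftLeft 1 t.2.2)) fun m' => grow gens l m') (false, m) := rfl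
  rw [e] at h ⊢
  cases hs : treeStep gens t m
  · rw [hs] at h; exact absurd h (by simp)
  · refine ⟨rfl, ?_⟩
    rw [cond_true, Vec.force_eq]
    rfl

theorem testBit_addBit (m s q : ℕ) : (m ||| 1 <<< s).testBit q = true ↔ m.testBit q = true ∨ q = s := by
  rw [Nat.testBit_or, Bool.or_eq_true, Nat.shiftLeft_eq, one_mul, Nat.testBit_two_pow, decide_eq_true_eq]
  exact or_congr_right eq_comm

theorem treeStep_spec {gens : List (List ℕ)} {t : ℕ × ℕ × ℕ} {m : ℕ} (h : treeStep gens t m = true) :
    m.testBit t.1 = true ∧ m.testBit t.2.2 = false ∧ t.1 < rep.N ∧ gens.getD t.2.1 [] ∈ gens ∧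
      img (gens.getD t.2.1 []) t.1 = t.2.2 := by
  simp only [treeStep, Bool.and_eq_true, Bool.not_eq_true', bit_eq, Nat.blt_eq] at h
  obtain ⟨⟨⟨⟨h1, h2⟩, h3⟩, h4⟩, h5⟩ := h
  refine ⟨h1, h2, h3, ?_, Nat.eq_of_beq_eq_true h5⟩
  rw [List.getD_eq_getElem _ _ h4]
  exact List.getElem_mem _

/-- What holds on the seeds and is carried by the generators holds on the whole tree. -/
theorem grow_spec {gens : List (List ℕ)} (Q : ℕ → Prop)
    (hgen : ∀ w ∈ gens, ∀ p, p < rep.N → Q p → Q (img w p)) :
    ∀ {tree : List (ℕ × ℕ × ℕ)} {m : ℕ}, (grow gens tree m).1 = true →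
      (∀ q, m.testBit q = true → Q q) → ∀ q, (grow gens tree m).2.testBit q = true → Q q
  | [], m, _, hm, q, hq => hm q hq
  | t :: l, m, h, hm, q, hq => by
    obtain ⟨hs, e⟩ := grow_cons h
    rw [e] at h hq
    obtain ⟨h1, -, h3, h4, h5⟩ := treeStep_spec hs
    refine grow_spec Q hgen h (fun r hr => ?_) q hq
    rcases (testBit_addBit _ _ _).1 hr with hr | rfl
    · exact hm r hr
    · rw [← h5]; exact hgen _ h4 _ h3 (hm _ h1)

theorem grow_mono {gens : List (List ℕ)} : ∀ {tree : List (ℕ × ℕ × ℕ)} {m : ℕ},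
    (grow gens tree m).1 = true → ∀ q, m.testBit q = true → (grow gens tree m).2.testBit q = true
  | [], m, _, q, hq => hq
  | t :: l, m, h, q, hq => by
    obtain ⟨-, e⟩ := grow_cons h
    rw [e] at h ⊢
    exact grow_mono h q ((testBit_addBit _ _ _).2 (Or.inl hq))

/-- A tree from one seed lists that many different points. -/
theorem grow_points {gens : List (List ℕ)} (hok : ∀ w ∈ gens, ok w = true) :
    ∀ {tree : List (ℕ × ℕ × ℕ)} {m : ℕ} (S : Finset ℕ),
      (grow gens tree m).1 = true → (∀ q ∈ S, m.testBit q = true ∧ q < rep.N) →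
      ∃ S' : Finset ℕ, S'.card = S.card + tree.length ∧
        ∀ q ∈ S', (grow gens tree m).2.testBit q = true ∧ q < rep.N
  | [], m, S, _, hS => ⟨S, rfl, hS⟩
  | t :: l, m, S, h, hS => by
    obtain ⟨hs, e⟩ := grow_cons h
    rw [e] at h ⊢
    obtain ⟨-, h2, h3, h4, h5⟩ := treeStep_spec hs
    have hnot : t.2.2 ∉ S := fun hm => by
      have := (hS _ hm).1
      rw [h2] at this
      exact Bool.noConfusion this
    obtain ⟨S', hc, hS'⟩ := grow_points hok (insert t.2.2 S) h (fun q hq => by
      rcases Finset.mem_insert.1 hq with rfl | hq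
      · exact ⟨(testBit_addBit _ _ _).2 (Or.inr rfl), h5 ▸ img_lt (hok _ h4) h3⟩
      · exact ⟨(testBit_addBit _ _ _).2 (Or.inl (hS q hq).1), (hS q hq).2⟩)
    refine ⟨S', ?_, hS'⟩
    rw [hc, Finset.card_insert_of_notMem hnot, List.length_cons]
    omega

/-- The subgroup of listed elements. -/
noncomputable abbrev gp (gens : List (List ℕ)) : Subgroup X := Subgroup.closure (el '' {w | w ∈ gens})

/-- Many images of one point bound the order from below. -/
theorem card_step [Finite X] {K L : Subgroup X} (hL : L ≤ K) {q : ℕ} {S : Finset ℕ}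
    (hS : ∀ p ∈ S, p < rep.N ∧ ∃ g ∈ K, P.φ g (pt q) = pt p)
    (hfix : ∀ g ∈ L, P.φ g (pt q) = pt q) : S.card * Nat.card L ≤ Nat.card K := by
  choose! hN c hc hcp using hS
  let f : S × L → K := fun z => ⟨c z.1.1 * z.2.1, mul_mem (hc _ z.1.2) (hL z.2.2)⟩
  have hf : Function.Injective f := by
    rintro ⟨⟨p, hp⟩, ⟨l, hl⟩⟩ ⟨⟨p', hp'⟩, ⟨l', hl'⟩⟩ e
    have e' : c p * l = c p' * l' := congrArg Subtype.val e
    have hp2 : pt p = pt p' := by
      have := congrArg (fun g => P.φ g (pt q)) e'
      simpa [map_mul, hfix l hl, hfix l' hl', hcp p hp, hcp p' hp'] using this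
    obtain rfl := pt_inj (hN p hp) (hN p' hp') hp2
    obtain rfl : l = l' := mul_left_cancel e'
    rfl
  have := Nat.card_le_card_of_injective f hf
  rwa [Nat.card_prod, Nat.card_eq_finsetCard] at this

/-- A level of a chain: point, and tree. -/
abbrev Level : Type := List (List ℕ) × ℕ × List (ℕ × ℕ × ℕ)

/-- Check of a chain: generators fix the earlier points and are among the earlier generators. -/
noncomputable def chainOK : List Level → Bool :=
  List.rec true fun L rest ih =>
    L.1.all ok && Nat.blt L.2.1 3510 && (grow L.1 L.2.2 (Nat.shiftLeft 1 L.2.1)).1 &&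
      List.rec (motive := fun _ => Bool) true
        (fun L' _ _ => L'.1.all fun w => Nat.beq (img w L.2.1) L.2.1 && L.1.contains w) rest && ih

/-- The product of the orbit lengths. -/
def chainCard : List Level → ℕ
  | [] => 1
  | L :: rest => (L.2.2.length + 1) * chainCard rest

theorem chain_card [Finite X] : ∀ {L : Level} {rest : List Level}, chainOK (L :: rest) = true →
    chainCard (L :: rest) ≤ Nat.card (gp L.1)
  | L, rest, h => by
    have h' : (L.1.all ok && Nat.blt L.2.1 3510 && (grow L.1 L.2.2 (Nat.shiftLeft 1 L.2.1)).1 &&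
      List.rec (motive := fun _ => Bool) true
        (fun L' _ _ => L'.1.all fun w => Nat.beq (img w L.2.1) L.2.1 && L.1.contains w) rest &&
      chainOK rest) = true := h
    simp only [Bool.and_eq_true, List.all_eq_true, Nat.blt_eq] at h'
    obtain ⟨⟨⟨⟨hok, hq⟩, hg⟩, hnext⟩, hrest⟩ := h'
    have hq' : L.2.1 < rep.N := hq
    obtain ⟨S, hScard, hS⟩ := grow_points hok {L.2.1} hg (fun q hq1 => by
      rw [Finset.mem_singleton] at hq1
      subst hq1
      exact ⟨by rw [Nat.shiftLeft_eq', Nat.shiftLeft_eq, one_mul, Nat.testBit_two_pow_self], hq'⟩)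
    have hS' : ∀ p ∈ S, p < rep.N ∧ ∃ g ∈ gp L.1, P.φ g (pt L.2.1) = pt p := by
      intro p hp
      refine ⟨(hS p hp).2, (grow_spec (fun r => r < rep.N ∧ ∃ g ∈ gp L.1, P.φ g (pt L.2.1) = pt r)
        (fun w hw r hr hQ => ⟨img_lt (hok w hw) hr, ?_⟩) hg (fun r hr => ?_) p (hS p hp).1).2⟩
      · obtain ⟨-, g, hgm, hgr⟩ := hQ
        refine ⟨el w * g, mul_mem (Subgroup.subset_closure ⟨w, hw, rfl⟩) hgm, ?_⟩
        rw [map_mul, Equiv.Perm.mul_apply, hgr, el_img (hok w hw) hr]
      · rw [Nat.shiftLeft_eq', Nat.shiftLeft_eq, one_mul, Nat.testBit_two_pow, decide_eq_true_eq] at hr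
        subst hr
        exact ⟨hq', 1, one_mem _, by rw [map_one, Equiv.Perm.one_apply]⟩
    rw [Finset.card_singleton] at hScard
    rw [chainCard, show L.2.2.length + 1 = S.card by omega]
    match rest, hnext, hrest with
    | [], _, _ =>
      refine le_trans ?_ (card_step (L := ⊥) bot_le hS' (fun g hg => by
        rw [Subgroup.mem_bot.1 hg, map_one, Equiv.Perm.one_apply]))
      rw [Subgroup.card_bot, chainCard]
    | L' :: rest', hnext, hrest =>
      refine le_trans (Nat.mul_le_mul_left _ (chain_card hrest)) (card_step ?_ hS' ?_)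
      · refine (Subgroup.closure_le _).2 ?_
        rintro _ ⟨w, hw, rfl⟩
        have hw' := List.all_eq_true.1 hnext w hw
        rw [Bool.and_eq_true, List.contains_iff_mem] at hw'
        exact Subgroup.subset_closure ⟨w, hw'.2, rfl⟩
      · intro g hg
        induction hg using Subgroup.closure_induction with
        | mem y hy =>
          obtain ⟨w, hw, rfl⟩ := hy
          have hw' := List.all_eq_true.1 hnext w hw
          rw [Bool.and_eq_true, List.contains_iff_mem] at hw'
          rw [el_img (hok w hw'.2) hq', Nat.eq_of_beq_eq_true hw'.1]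
        | one => rw [map_one, Equiv.Perm.one_apply]
        | mul y z _ _ hy hz => rw [map_mul, Equiv.Perm.mul_apply, hz, hy]
        | inv y _ hy => rw [map_inv, Equiv.Perm.inv_def, Equiv.symm_apply_eq, hy]

end CfsgLib.ThreeTrans.FiCent
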