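import Cfsg.Agent.Lib.ThreeTrans.FiCent.OrbitArith

/-!
Coordinates of an elementary abelian subgroup of order 1024, and the permutations of coordinates induced
by conjugation.
-/

set_option autoImplicit false

namespace CfsgLib.ThreeTrans.FiCent.Base

variable {G : Type*} [Group G]

/-- An injective additive map of the coordinates. -/
structure Coord (f : Fin 1024 → G) : Prop where
  inj : Function.Injective f
  add : ∀ u v, f (vx u v) = f u * f v

namespace Coord

variable {f : Fin 1024 → G} (hf : Coord f)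

include hf

theorem map_zero : f 0 = 1 := by
  have h := hf.add 0 0
  rw [vx_self] at h
  exact left_eq_mul.1 h

theorem mul_self (u : Fin 1024) : f u * f u = 1 := by rw [← hf.add, vx_self, hf.map_zero]

theorem inv_eq (u : Fin 1024) : (f u)⁻¹ = f u := inv_eq_of_mul_eq_one_left (hf.mul_self u)

theorem comm (u v : Fin 1024) : Commute (f u) (f v) := by
  show f u * f v = f v * f u
  rw [← hf.add, vx_comm, hf.add]

/-- The subgroup of values. -/
def sub : Subgroup G where
  carrier := Set.range f
  one_mem' := ⟨0, hf.map_zero⟩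
  mul_mem' := by rintro _ _ ⟨u, rfl⟩ ⟨v, rfl⟩; exact ⟨vx u v, hf.add u v⟩
  inv_mem' := by rintro _ ⟨u, rfl⟩; exact ⟨u, (hf.inv_eq u).symm⟩

theorem mem_sub {x : G} : x ∈ hf.sub ↔ ∃ u, f u = x := Iff.rfl

theorem card_sub : Nat.card hf.sub = 1024 := by
  rw [show Nat.card hf.sub = Nat.card (Set.range f) from rfl, Nat.card_range_of_injective hf.inj,
    Nat.card_fin]

theorem comp {G' : Type*} [Group G'] (θ : G →* G') (hθ : Function.Injective θ) : Coord (θ ∘ f) :=
  ⟨hθ.comp hf.inj, fun u v => by simp [hf.add]⟩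

end Coord

/-- The permutations of coordinates induced by conjugation by members of a subgroup. -/
def induced (f : Fin 1024 → G) (C : Subgroup G) : Subgroup (Equiv.Perm (Fin 1024)) where
  carrier := {g | ∃ n ∈ C, ∀ u, n * f u * n⁻¹ = f (g u)}
  one_mem' := ⟨1, one_mem _, by simp⟩
  mul_mem' := by
    rintro g h ⟨n, hn, hn'⟩ ⟨m, hm, hm'⟩
    refine ⟨n * m, mul_mem hn hm, fun u => ?_⟩
    rw [show (g * h) u = g (h u) from rfl, ← hn', ← hm']
    group
  inv_mem' := by
    rintro g ⟨n, hn, hn'⟩
    refine ⟨n⁻¹, inv_mem hn, fun u => ?_⟩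
    have h := hn' (g⁻¹ u)
    rw [show g (g⁻¹ u) = u from g.apply_symm_apply u] at h
    rw [← h]
    group

theorem mem_induced {f : Fin 1024 → G} {C : Subgroup G} {g : Equiv.Perm (Fin 1024)} :
    g ∈ induced f C ↔ ∃ n ∈ C, ∀ u, n * f u * n⁻¹ = f (g u) := Iff.rfl

theorem Coord.additive {f : Fin 1024 → G} (hf : Coord f) {C : Subgroup G} {g : Equiv.Perm (Fin 1024)}
    (hg : g ∈ induced f C) : Additive g := fun u v => by
  obtain ⟨n, -, hn⟩ := hg
  apply hf.inj
  rw [hf.add, ← hn, ← hn, ← hn, hf.add]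
  group

/-- The stabiliser of a coordinate is induced by the centraliser of its value. -/
theorem Coord.stab {f : Fin 1024 → G} (hf : Coord f) (e : Fin 1024) (g : Equiv.Perm (Fin 1024)) :
    g ∈ induced f (Subgroup.centralizer ({f e} : Set G)) ↔ g ∈ induced f ⊤ ∧ g e = e := by
  constructor
  · rintro ⟨n, hn, hn'⟩
    refine ⟨⟨n, Subgroup.mem_top _, hn'⟩, hf.inj ?_⟩
    rw [← hn', Subgroup.mem_centralizer_singleton_iff.1 hn, mul_inv_cancel_right]
  · rintro ⟨⟨n, -, hn'⟩, he⟩
    refine ⟨n, Subgroup.mem_centralizer_singleton_iff.2 ?_, hn'⟩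
    have h := hn' e
    rw [he] at h
    exact mul_inv_eq_iff_eq_mul.1 h

/-- A conjugation moving the subgroup of values to itself induces a permutation. -/
theorem Coord.exists_induced {f : Fin 1024 → G} (hf : Coord f) {C : Subgroup G} {n : G} (hn : n ∈ C)
    (hW : ∀ u, ∃ v, n * f u * n⁻¹ = f v) : ∃ g ∈ induced f C, ∀ u, n * f u * n⁻¹ = f (g u) := by
  choose t ht using hW
  have ti : Function.Injective t := fun u v e => hf.inj (by
    have h := ht u
    rw [e, ← ht v] at h
    exact mul_left_cancel (mul_right_cancel h))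
  exact ⟨Equiv.ofBijective t (Finite.injective_iff_bijective.1 ti), ⟨n, hn, ht⟩, ht⟩

/-- Along a monomorphism the induced permutations are the same. -/
theorem induced_map {G' : Type*} [Group G'] {f : Fin 1024 → G} (θ : G →* G') (hθ : Function.Injective θ)
    (C : Subgroup G) : induced (θ ∘ f) (C.map θ) = induced f C := by
  ext g
  constructor
  · rintro ⟨_, ⟨n, hn, rfl⟩, h⟩
    refine ⟨n, hn, fun u => hθ ?_⟩
    rw [map_mul, map_mul, map_inv]
    exact h u
  · rintro ⟨n, hn, h⟩
    refine ⟨θ n, Subgroup.mem_map_of_mem θ hn, fun u => ?_⟩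
    simp [← h u]

end CfsgLib.ThreeTrans.FiCent.Base
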