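import Cfsg.Agent.Lib.Schur.MultiplierU62
import Cfsg.Agent.Lib.SchurCover.Perfect

/-!
The perfect double cover of `PSU₆(2)` is unique up to isomorphism of groups.
-/

set_option autoImplicit false
set_option linter.unusedSectionVars false

noncomputable section

namespace CfsgLib.ThreeTrans.FiCent

open Subgroup CfsgLib.SchurCover CfsgLib.Schur.MultiplierU62 CfsgLib.Presented.Fi22Unitary
open CfsgLib.Presented.Fi22UCosets (H)
open scoped commutatorElement

section Factor

variable {A : Type*} [Group A] {B : Type*} [Group B] {C : Type*} [Group C]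

/-- Surjections with the same kernel have isomorphic targets, compatibly. -/
theorem exists_equiv_of_ker {f : A →* B} {g : A →* C} (hf : Function.Surjective f)
    (hg : Function.Surjective g) (h : f.ker = g.ker) : ∃ e : B ≃* C, ∀ x, e (f x) = g x := by
  refine ⟨(QuotientGroup.quotientKerEquivOfSurjective f hf).symm.trans
    ((QuotientGroup.quotientMulEquivOfEq h).trans (QuotientGroup.quotientKerEquivOfSurjective g hg)),
    fun x => ?_⟩
  have h1 : (QuotientGroup.quotientKerEquivOfSurjective f hf).symm (f x) = (x : A ⧸ f.ker) :=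
    (QuotientGroup.quotientKerEquivOfSurjective f hf).symm_apply_eq.2 rfl
  rw [MulEquiv.trans_apply, MulEquiv.trans_apply, h1]
  rfl

/-- A stem extension of a perfect group is perfect. -/
theorem perfect_of_stem {σ : A →* B} (hσ : Cfsg.IsStemExtension σ) (hB : commutator B = ⊤) :
    commutator A = ⊤ := by
  have h := comap_map_eq σ (commutator A)
  rw [map_commutator_eq σ hσ.1, hB, comap_top, sup_eq_left.2 hσ.2.2] at h
  exact h.symm

end Factor

variable {F : Type} [Field F] [Fintype F] (hF : Fintype.card F = 2 ^ 2) {w : F}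
  (hw : 1 + w + w ^ 2 = 0)
include hF hw

/-- The central involution of the double cover. -/
abbrev cH : H := ⟨d0, d0_mem⟩

theorem psu_perfect : commutator (Cfsg.PSU 6 F 2) = ⊤ := by
  rw [← map_commutator_eq (QuotientGroup.mk' (center (Cfsg.SU 6 F 2))) (QuotientGroup.mk'_surjective _),
    ClassicalGroups.SU_perfect hF (by norm_num) (by norm_num),
    map_top_of_surjective _ (QuotientGroup.mk'_surjective _)]

theorem four_perfect : commutator (Four hF hw) = ⊤ :=
  perfect_of_stem (fourMap_isStem hF hw) (psu_perfect hF hw)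

theorem card_fourMap_ker : Nat.card (fourMap hF hw).ker = 4 := by
  rw [Nat.card_congr (fourKer hF hw).toEquiv, Nat.card_prod, twisted_ker, card_toPSU_ker hF hw]

theorem four_ker_sq {q : Four hF hw} (hq : q ∈ (fourMap hF hw).ker) : q * q = 1 := by
  obtain ⟨h1, h2⟩ := mem_fourMap_ker hF hw hq
  have key : ∀ x : H, x = 1 ∨ x = cH → x * x = 1 := by
    rintro x (rfl | rfl)
    · exact one_mul 1
    · exact Subtype.ext d0_sq
  exact Subtype.ext (Prod.ext (key _ h1) (key _ h2))

/-- The fibre product covers every perfect double cover. -/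
theorem exists_onto {Γ : Type} [Group Γ] [Finite Γ] (σ : Γ →* Cfsg.PSU 6 F 2)
    (hσ : Cfsg.IsStemExtension σ) (hcard : Nat.card σ.ker = 2) :
    ∃ β : Four hF hw →* Γ, Function.Surjective β ∧ σ.comp β = fourMap hF hw := by
  classical
  have := finite_H
  have hf := fourMap_isStem hF hw
  set E := fibre (fourMap hF hw) σ with hE
  let p₁ : E →* Four hF hw := fibreFst (fourMap hF hw) σ
  let p₂ : E →* Γ := fibreSnd (fourMap hF hw) σ
  have hp₁ : Function.Surjective p₁ := fibreFst_surjective _ hσ.1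
  have hp₂ : Function.Surjective p₂ := fibreSnd_surjective hf.1 _
  let τ : E →* Cfsg.PSU 6 F 2 := (fourMap hF hw).comp p₁
  have hτ : Function.Surjective τ := hf.1.comp hp₁
  have hτ2 : ∀ x, σ (p₂ x) = τ x := fun x => (fibre_rel (fourMap hF hw) σ x).symm
  have hc : τ.ker ≤ center E := by
    intro x hx
    have h2 : p₂ x ∈ σ.ker := (hτ2 x).trans hx
    exact mem_center_iff.2 fun g => Subtype.ext (Prod.ext
      (mem_center_iff.1 (hf.2.1 (x := p₁ x) hx) (p₁ g)) (mem_center_iff.1 (hσ.2.1 h2) (p₂ g)))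
  obtain ⟨f, hfs⟩ := exists_surjective_ker_inf (CfsgLib.Schur.MultiplierU62.multiplier hF) τ hτ hc
  -- exponent two kills the cyclic factor of order three
  have hsq : ∀ y : (τ.ker ⊓ commutator E : Subgroup E), y * y = 1 := by
    rintro ⟨x, hx, -⟩
    have h2 : p₂ x ∈ σ.ker := (hτ2 x).trans hx
    have e2 := pow_card_eq_one' (x := (⟨p₂ x, h2⟩ : σ.ker))
    rw [hcard, pow_two] at e2
    exact Subtype.ext (Subtype.ext (Prod.ext
      (four_ker_sq hF hw (q := p₁ x) hx) (congrArg Subtype.val e2)))
  let g : Multiplicative (ZMod 2 × ZMod 2) → (τ.ker ⊓ commutator E : Subgroup E) :=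
    fun u => f (Multiplicative.ofAdd (0, u.toAdd))
  have hg : Function.Surjective g := by
    intro y
    obtain ⟨a, rfl⟩ := hfs y
    refine ⟨Multiplicative.ofAdd a.toAdd.2, ?_⟩
    have h3 : f (Multiplicative.ofAdd (a.toAdd.1, 0)) = 1 := by
      set z := f (Multiplicative.ofAdd (a.toAdd.1, (0 : ZMod 2 × ZMod 2))) with hz
      have e3 : z * z * z = 1 := by
        rw [hz, ← map_mul, ← map_mul, ← ofAdd_add, ← ofAdd_add, ← map_one f]
        congr 1
        have : a.toAdd.1 + a.toAdd.1 + a.toAdd.1 = 0 := by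
          generalize a.toAdd.1 = t; revert t; decide
        exact congrArg Multiplicative.ofAdd (Prod.ext this (by simp))
      rwa [hsq z, one_mul] at e3
    show f (Multiplicative.ofAdd (0, a.toAdd.2)) = f a
    conv_rhs => rw [show a = Multiplicative.ofAdd (a.toAdd.1, (0 : ZMod 2 × ZMod 2)) *
      Multiplicative.ofAdd (0, a.toAdd.2) from by
        rw [← ofAdd_add, Prod.mk_add_mk, add_zero, zero_add]; rfl, map_mul, h3, one_mul]
  have hle : Nat.card (τ.ker ⊓ commutator E : Subgroup E) ≤ 4 := by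
    refine (Nat.card_le_card_of_surjective g hg).trans ?_
    rw [Nat.card_congr Multiplicative.toAdd, Nat.card_prod, Nat.card_zmod]
  let r₁ : commutator E →* Four hF hw := p₁.comp (commutator E).subtype
  have hr₁ : Function.Surjective r₁ := by
    intro y
    have hy : y ∈ (commutator E).map p₁ := by
      rw [map_commutator_eq p₁ hp₁, four_perfect]; exact mem_top y
    obtain ⟨x, hx, rfl⟩ := hy
    exact ⟨⟨x, hx⟩, rfl⟩
  have hr₁i : Function.Injective r₁ := by
    let k : (τ.ker ⊓ commutator E : Subgroup E) → (fourMap hF hw).ker := fun x => ⟨p₁ x.1, x.2.1⟩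
    have hk : Function.Surjective k := fun y => by
      obtain ⟨x, hx⟩ := hr₁ y.1
      exact ⟨⟨x.1, ⟨by show fourMap hF hw (p₁ x.1) = 1
                       rw [show p₁ x.1 = y.1 from hx]; exact y.2, x.2⟩⟩, Subtype.ext hx⟩
    have hb : Function.Bijective k := (Nat.bijective_iff_surjective_and_card _).2
      ⟨hk, le_antisymm (by rw [card_fourMap_ker]; exact hle) (Nat.card_le_card_of_surjective k hk)⟩
    refine (injective_iff_map_eq_one _).2 fun x hx => ?_
    have hm : (x : E) ∈ τ.ker ⊓ commutator E :=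
      ⟨by show fourMap hF hw (p₁ x.1) = 1
          rw [show p₁ x.1 = 1 from hx, map_one], x.2⟩
    have := hb.1 (a₁ := ⟨_, hm⟩) (a₂ := 1) (Subtype.ext (by
      show p₁ x.1 = p₁ ((1 : (τ.ker ⊓ commutator E : Subgroup E)) : E)
      rw [OneMemClass.coe_one, map_one]; exact hx))
    exact Subtype.ext (congrArg Subtype.val this :)
  let e := MulEquiv.ofBijective r₁ ⟨hr₁i, hr₁⟩
  refine ⟨(p₂.comp (commutator E).subtype).comp e.symm.toMonoidHom, ?_, MonoidHom.ext fun q => ?_⟩
  · refine Function.Surjective.comp (g := p₂.comp (commutator E).subtype) (fun y => ?_) e.symm.surjective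
    have hy : y ∈ (commutator E).map p₂ := by
      rw [map_commutator_eq p₂ hp₂, perfect_of_stem hσ (psu_perfect hF hw)]; exact mem_top y
    obtain ⟨x, hx, rfl⟩ := hy
    exact ⟨⟨x, hx⟩, rfl⟩
  · show σ (p₂ (e.symm q : E)) = fourMap hF hw q
    rw [hτ2]
    show fourMap hF hw (r₁ (e.symm q)) = fourMap hF hw q
    rw [show r₁ (e.symm q) = q from e.apply_symm_apply q]

/-- The twist does not lift to the double cover. -/
theorem no_lift (ι : H →* H) : (twisted hF hw).comp ι ≠ toPSU hF hw := by
  intro h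
  have hι : ∀ x, twisted hF hw (ι x) = toPSU hF hw x := DFunLike.congr_fun h
  let gr : H →* Four hF hw :=
    MonoidHom.mk' (fun x => ⟨(x, ι x), (hι x).symm⟩) fun a b => Subtype.ext (Prod.ext rfl (map_mul ι a b))
  have hgen : ∀ q : Four hF hw, (gr (fibreFst _ _ q))⁻¹ * q ∈ center (Four hF hw) := fun q =>
    (fourMap_isStem hF hw).2.1 (by
      show toPSU hF hw (q.1.1⁻¹ * q.1.1) = 1
      rw [inv_mul_cancel, map_one])
  have hle : commutator (Four hF hw) ≤ gr.range := by
    rw [commutator_def, commutator_le]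
    intro a _ b _
    rw [commutator_congr_central (hgen a) (hgen b)]
    exact ⟨⁅fibreFst _ _ a, fibreFst _ _ b⁆, map_commutatorElement gr _ _⟩
  have hd : twisted hF hw cH = 1 := by
    rw [← MonoidHom.mem_ker, twisted_ker]; exact d0_mem_toPSU_ker hF hw
  obtain ⟨x, hx⟩ := hle (show (⟨((1 : H), cH), by
    show toPSU hF hw 1 = twisted hF hw cH
    rw [map_one, hd]⟩ : Four hF hw) ∈ commutator (Four hF hw) by rw [four_perfect]; exact mem_top _)
  have h1 : x = 1 := congrArg (fun q : Four hF hw => q.1.1) hx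
  have h2 : ι x = cH := congrArg (fun q : Four hF hw => q.1.2) hx
  rw [h1, map_one] at h2
  exact hd0_ne_one h2.symm

theorem twist_cube (x : Cfsg.PSU 6 F 2) : twist hF hw (twist hF hw (twist hF hw x)) = x := by
  obtain ⟨M, rfl⟩ := QuotientGroup.mk_surjective x
  show (QuotientGroup.mk (twistSU hF hw (twistSU hF hw (twistSU hF hw M))) : Cfsg.PSU 6 F 2) = _
  congr 1
  refine Subtype.ext (Subtype.ext ?_)
  ext i j
  simp only [twistSU_val, Matrix.mul_diagonal, Matrix.diagonal_mul]
  have hi := dVec_cube hF hw i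
  have hj := dVec_cube hF hw j
  calc _ = (dVec w i ^ 3) * M.1.1 i j * (dVec w j ^ 3) ^ 2 := by ring
    _ = M.1.1 i j := by rw [hi, hj]; ring

theorem ker_cases (K : Subgroup (Four hF hw)) (hK : K ≤ (fourMap hF hw).ker) (h2 : Nat.card K = 2) :
    K = (fibreFst (toPSU hF hw) (twisted hF hw)).ker ∨
      K = (fibreSnd (toPSU hF hw) (twisted hF hw)).ker ∨
      ∀ q : Four hF hw, q ∈ K ↔ q ∈ (fourMap hF hw).ker ∧ q.1.1 = q.1.2 := by
  classical
  obtain ⟨k, hk, hk1⟩ : ∃ k ∈ K, k ≠ 1 := by
    by_contra! h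
    rw [(Subgroup.eq_bot_iff_forall K).2 h, Subgroup.card_bot] at h2
    omega
  have hKk : ∀ q : Four hF hw, q ∈ K ↔ q = 1 ∨ q = k := by
    intro q
    refine ⟨fun hq => ?_, ?_⟩
    · obtain ⟨a, b, hab, huniv⟩ := Nat.card_eq_two_iff.1 h2
      have hm : ∀ z : K, z = a ∨ z = b := fun z => by simpa [← huniv] using Set.mem_univ z
      have hne : (⟨k, hk⟩ : K) ≠ 1 := fun e => hk1 (congrArg Subtype.val e)
      by_cases hq1 : q = 1
      · exact Or.inl hq1
      · right
        rcases hm ⟨q, hq⟩ with h1 | h1 <;> rcases hm ⟨k, hk⟩ with h3 | h3 <;>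
          rcases hm 1 with h5 | h5 <;>
          first
            | exact congrArg Subtype.val (h1.trans h3.symm)
            | exact absurd (congrArg Subtype.val (h1.trans h5.symm)) hq1
            | exact absurd (h3.trans h5.symm) hne
    · rintro (rfl | rfl)
      · exact one_mem K
      · exact hk
  have hc1 : (1 : H) ≠ cH := fun e => hd0_ne_one e.symm
  obtain ⟨hka, hkb⟩ := mem_fourMap_ker hF hw (hK hk)
  have comp : ∀ q : Four hF hw, q ∈ K → q = 1 ∨ q = k := fun q => (hKk q).1
  have inker₁ : ∀ q : Four hF hw, q.1.1 = 1 → q ∈ (fourMap hF hw).ker := fun q e => by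
    show toPSU hF hw q.1.1 = 1
    rw [e, map_one]
  have inker₂ : ∀ q : Four hF hw, q.1.2 = 1 → q ∈ (fourMap hF hw).ker := fun q e => by
    show toPSU hF hw q.1.1 = 1
    rw [show toPSU hF hw q.1.1 = twisted hF hw q.1.2 from q.2, e, map_one]
  rcases hka with ha | ha <;> rcases hkb with hb | hb
  · exact absurd (Subtype.ext (Prod.ext ha hb)) hk1
  · left
    ext q
    rw [hKk, MonoidHom.mem_ker]
    constructor
    · rintro (rfl | rfl)
      · exact map_one _
      · exact ha
    · intro (hq : q.1.1 = 1)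
      rcases (mem_fourMap_ker hF hw (inker₁ q hq)).2 with e | e
      · exact Or.inl (Subtype.ext (Prod.ext hq e))
      · exact Or.inr (Subtype.ext (Prod.ext (hq.trans ha.symm) (e.trans hb.symm)))
  · right; left
    ext q
    rw [hKk, MonoidHom.mem_ker]
    constructor
    · rintro (rfl | rfl)
      · exact map_one _
      · exact hb
    · intro (hq : q.1.2 = 1)
      rcases (mem_fourMap_ker hF hw (inker₂ q hq)).1 with e | e
      · exact Or.inl (Subtype.ext (Prod.ext e hq))
      · exact Or.inr (Subtype.ext (Prod.ext (e.trans ha.symm) (hq.trans hb.symm)))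
  · right; right
    intro q
    rw [hKk]
    constructor
    · rintro (rfl | rfl)
      · exact ⟨one_mem _, rfl⟩
      · exact ⟨hK hk, ha.trans hb.symm⟩
    · rintro ⟨hq, he⟩
      rcases (mem_fourMap_ker hF hw hq).1 with e | e
      · exact Or.inl (Subtype.ext (Prod.ext e (he.symm.trans e)))
      · exact Or.inr (Subtype.ext (Prod.ext (e.trans ha.symm) ((he.symm.trans e).trans hb.symm)))

theorem card_ker_onto {Γ : Type} [Group Γ] [Finite Γ] {σ : Γ →* Cfsg.PSU 6 F 2}
    (hcard : Nat.card σ.ker = 2) {β : Four hF hw →* Γ} (hβ : Function.Surjective β)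
    (h : σ.comp β = fourMap hF hw) :
    β.ker ≤ (fourMap hF hw).ker ∧ Nat.card β.ker = 2 := by
  have := finite_H
  have hle : β.ker ≤ (fourMap hF hw).ker := by
    intro x hx
    rw [MonoidHom.mem_ker, ← h, MonoidHom.comp_apply, MonoidHom.mem_ker.1 hx, map_one]
  refine ⟨hle, ?_⟩
  have e1 : (fourMap hF hw).ker = σ.ker.comap β := by rw [← h, MonoidHom.comap_ker]
  have e2 := card_fourMap_ker hF hw
  rw [e1] at e2
  let r : σ.ker.comap β →* σ.ker :=
    MonoidHom.mk' (fun x => ⟨β x.1, x.2⟩) fun a b => Subtype.ext (map_mul β a.1 b.1)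
  have hrs : Function.Surjective r := fun y => by
    obtain ⟨x, hx⟩ := hβ y.1
    exact ⟨⟨x, by show β x ∈ σ.ker
                  rw [hx]; exact y.2⟩, Subtype.ext hx⟩
  have hk : r.ker = β.ker.subgroupOf (σ.ker.comap β) := by
    ext x
    rw [MonoidHom.mem_ker, Subgroup.mem_subgroupOf, MonoidHom.mem_ker, Subtype.ext_iff]
    rfl
  have hc := Subgroup.card_mul_index r.ker
  rw [Subgroup.index_ker, MonoidHom.range_eq_top.2 hrs, Subgroup.card_top, hcard, e2, hk,
    Nat.card_congr (Subgroup.subgroupOfEquivOfLe (e1 ▸ hle)).toEquiv] at hc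
  omega

/-- The third double cover is again the group. -/
theorem diag_iso : ∃ β : Four hF hw →* H, Function.Surjective β ∧
    ∀ q : Four hF hw, q ∈ β.ker ↔ q ∈ (fourMap hF hw).ker ∧ q.1.1 = q.1.2 := by
  have := finite_H
  set σ : H →* Cfsg.PSU 6 F 2 := (twist hF hw).toMonoidHom.comp (twisted hF hw) with hσ
  have hker : σ.ker = (toPSU hF hw).ker := by
    exact (MonoidHom.ker_mulEquiv_comp (twisted hF hw) (twist hF hw)).trans (twisted_ker hF hw)
  have hst : Cfsg.IsStemExtension σ := by
    refine ⟨(twist hF hw).surjective.comp (twisted_surjective hF hw), ?_, ?_⟩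
    · rw [hker]; exact ker_le_center hF hw
    · rw [hker]
      intro x hx
      rcases toPSU_ker_cases hF hw hx with rfl | rfl
      · exact one_mem _
      · exact comm_two ▸ commutator_mem_commutator (mem_top _) (mem_top _)
  have hcard : Nat.card σ.ker = 2 := by rw [hker]; exact card_toPSU_ker hF hw
  obtain ⟨β, hβ, hβc⟩ := exists_onto hF hw σ hst hcard
  obtain ⟨hle, h2⟩ := card_ker_onto hF hw hcard hβ hβc
  have hv : ∀ x, σ (β x) = toPSU hF hw (fibreFst (toPSU hF hw) (twisted hF hw) x) :=
    DFunLike.congr_fun hβc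
  rcases ker_cases hF hw β.ker hle h2 with h | h | h
  · -- the twist would lift
    exfalso
    obtain ⟨e, he⟩ := exists_equiv_of_ker (fibreFst_surjective _ (twisted_surjective hF hw)) hβ h.symm
    have hι : ∀ x, twist hF hw (twisted hF hw (e x)) = toPSU hF hw x := fun x => by
      obtain ⟨q, rfl⟩ := fibreFst_surjective (toPSU hF hw) (twisted_surjective hF hw) x
      rw [he]; exact hv q
    have h' : ∀ x, toPSU hF hw (e x) = twist hF hw (toPSU hF hw x) := fun x => by
      rw [← hι x]; exact (twist_cube hF hw _).symm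
    refine no_lift hF hw (e.toMonoidHom.comp e.toMonoidHom) (MonoidHom.ext fun x => ?_)
    show twist hF hw (toPSU hF hw (e (e x))) = _
    rw [h', h', twist_cube]
  · exfalso
    obtain ⟨e, he⟩ := exists_equiv_of_ker (fibreSnd_surjective (toPSU_surjective hF hw) _) hβ h.symm
    have hι : ∀ x, twist hF hw (twisted hF hw (e x)) = twisted hF hw x := fun x => by
      obtain ⟨q, rfl⟩ := fibreSnd_surjective (toPSU_surjective hF hw) (twisted hF hw) x
      rw [he, ← fibre_rel (toPSU hF hw) (twisted hF hw) q]; exact hv q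
    exact no_lift hF hw e.toMonoidHom (MonoidHom.ext fun x => (twist hF hw).injective (hι x))
  · exact ⟨β, hβ, h⟩

/-- Uniqueness of the perfect double cover. -/
theorem exists_iso_small {Γ : Type} [Group Γ] [Finite Γ] (σ : Γ →* Cfsg.PSU 6 F 2)
    (hσ : Cfsg.IsStemExtension σ) (hcard : Nat.card σ.ker = 2) : Nonempty (H ≃* Γ) := by
  obtain ⟨β, hβ, hβc⟩ := exists_onto hF hw σ hσ hcard
  obtain ⟨hle, h2⟩ := card_ker_onto hF hw hcard hβ hβc
  rcases ker_cases hF hw β.ker hle h2 with h | h | h
  · obtain ⟨e, -⟩ := exists_equiv_of_ker (fibreFst_surjective _ (twisted_surjective hF hw)) hβ h.symm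
    exact ⟨e⟩
  · obtain ⟨e, -⟩ := exists_equiv_of_ker (fibreSnd_surjective (toPSU_surjective hF hw) _) hβ h.symm
    exact ⟨e⟩
  · obtain ⟨β', hβ', h'⟩ := diag_iso hF hw
    obtain ⟨e, -⟩ := exists_equiv_of_ker hβ' hβ (Subgroup.ext fun q => (h' q).trans (h q).symm)
    exact ⟨e⟩

end CfsgLib.ThreeTrans.FiCent

end
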