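import Cfsg.Agent.Lib.ThreeTrans.FiCent.Rigid

/-!
An isomorphism of the first centraliser onto that of an involution extends, on the centraliser of a
commuting transposition, to an isomorphism respecting both classes.
-/

set_option autoImplicit false
set_option maxRecDepth 100000

namespace CfsgLib.ThreeTrans.FiCent

open Subgroup CfsgLib.Presented CfsgLib.Presented.Fi22Pts
open CfsgLib.ThreeTrans.Inst.FiTwentyTwo (P maskA)
open Fi22UCert (rep)

variable {G : Type*} [Group G]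

/-- An identification of the first centraliser with the centraliser of `d`, matching the classes. -/
structure Link (d : G) (θ : ↥H0 ≃* ↥(Cd d)) : Prop where
  base : (θ aH : G) = d
  cls : ∀ x : ↥H0, (θ x : G) ∈ conjugatesOf d ↔ (x : X) ∈ D0

/-- All identifications match the classes. -/
def Fused (d : G) : Prop :=
  ∀ θ : ↥H0 ≃* ↥(Cd d), (θ aH : G) = d → ∀ x : ↥H0, (θ x : G) ∈ conjugatesOf d ↔ (x : X) ∈ D0

/-- The centraliser of the transposition of a point. -/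
noncomputable abbrev Cp (q : ℕ) : Subgroup X := centralizer ({T q} : Set X)

/-- An identification on the centraliser of another transposition, agreeing with the first. -/
structure Frame (d : G) (θ : ↥H0 ≃* ↥(Cd d)) (q : ℕ) (η : ↥(Cp q) →* G) : Prop where
  inj : Function.Injective η
  cent : ∀ h : T q ∈ Cp q, η.range = Cd (η ⟨T q, h⟩)
  cls : ∀ x : ↥(Cp q), η x ∈ conjugatesOf d ↔ (x : X) ∈ D0
  agree : ∀ (x : X) (h₁ : x ∈ H0) (h₂ : x ∈ Cp q), η ⟨x, h₂⟩ = θ ⟨x, h₁⟩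

theorem conjugatesOf_conj {d x : G} (g : G) :
    g * x * g⁻¹ ∈ conjugatesOf d ↔ x ∈ conjugatesOf d := by
  have e : IsConj x (g * x * g⁻¹) := isConj_iff.2 ⟨g, rfl⟩
  exact ⟨fun h => IsConj.trans h e.symm, fun h => IsConj.trans h e⟩

theorem D0_conj {x : X} (g : X) : g * x * g⁻¹ ∈ D0 ↔ x ∈ D0 := conjugatesOf_conj g

theorem mem_D0_aut (γ : MulAut X) {x : X} : γ x ∈ D0 ↔ x ∈ D0 := by
  have := finite_X
  have h := fun (δ : MulAut X) {y : X} (hy : y ∈ D0) => CfsgLib.ThreeTrans.Uniq.mapsTo22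
    Inst.FiTwentyTwo.isGroup Inst.FiTwentyTwo.primitive Inst.FiTwentyTwo.typeM22 δ hy
  refine ⟨fun hx => ?_, h γ⟩
  have := h γ⁻¹ hx
  rwa [MulAut.inv_apply, MulEquiv.symm_apply_apply] at this

theorem mem_H0_iff {x : X} : x ∈ H0 ↔ Commute x (T 0) := by
  rw [mem_centralizer_singleton_iff, T_zero]
  exact Iff.rfl

theorem mem_Cp_iff {x : X} {q : ℕ} : x ∈ Cp q ↔ Commute x (T q) := by
  rw [mem_centralizer_singleton_iff]
  exact Iff.rfl

theorem T154_mem_H0 : T 154 ∈ H0 :=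
  (T_mem_pair (p := 154) (by decide) (by decide +kernel) (by decide +kernel)).1

variable {d : G} {θ : ↥H0 ≃* ↥(Cd d)}

/-- A transposition commuting with the first can be exchanged with it. -/
theorem exists_swap {y : X} (hy : y ∈ D0) (hya : y ≠ T 0) (hc : Commute y (T 0)) :
    ∃ h : X, h * T 0 * h⁻¹ = T 154 ∧ h * y * h⁻¹ = T 0 := by
  obtain ⟨p, hp, rfl⟩ := exists_T hy
  have hbit : maskA.testBit (pt p : ℕ) = true := by
    rcases (commute_a_iff (pt p)).1 (by rw [← tp_base, ← pt_zero]; exact hc.symm) with e | e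
    · exact absurd (by rw [T, T, e, pt_zero]) hya
    · exact e
  have hb154 : maskA.testBit (pt 154 : ℕ) = true := by decide +kernel
  obtain ⟨k, hk0, hkp⟩ := Inst.FiTwentyTwo.reachA hbit hb154
  have hok : ok RigidData.swapWord = true := by decide +kernel
  have himg : img RigidData.swapWord 0 = 154 ∧ img RigidData.swapWord 154 = 0 := by decide +kernel
  refine ⟨el RigidData.swapWord * k, ?_, ?_⟩
  · rw [show el RigidData.swapWord * k * T 0 * (el RigidData.swapWord * k)⁻¹ =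
      el RigidData.swapWord * (k * T 0 * k⁻¹) * (el RigidData.swapWord)⁻¹ by group,
      show k * T 0 * k⁻¹ = T 0 by
        rw [T, P.conj_tp, pt_zero]; exact congrArg P.tp hk0,
      el_conj hok (by decide), himg.1]
  · rw [show el RigidData.swapWord * k * T p * (el RigidData.swapWord * k)⁻¹ =
      el RigidData.swapWord * (k * T p * k⁻¹) * (el RigidData.swapWord)⁻¹ by group,
      show k * T p * k⁻¹ = T 154 by
        rw [T, P.conj_tp]; exact congrArg P.tp hkp,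
      el_conj hok (by decide), himg.2]

/-- The frame at the seventh transposition. -/
theorem exists_frame (L : Link d θ) : ∃ η : ↥(Cp 154) →* G, Frame d θ 154 η := by
  classical
  have := finite_X
  set u : G := (θ ⟨T 154, T154_mem_H0⟩ : G) with hu
  obtain ⟨g₀, hg₀⟩ := isConj_iff.1 ((L.cls ⟨T 154, T154_mem_H0⟩).2 (T_mem 154))
  replace hg₀ : g₀ * d * g₀⁻¹ = u := hg₀
  -- the preimage of the first transposition
  have hyC : g₀⁻¹ * d * g₀ ∈ Cd d := by
    refine mem_centralizer_singleton_iff.2 ?_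
    have hud : Commute d u := (mem_centralizer_singleton_iff.1 (θ ⟨T 154, T154_mem_H0⟩).2).symm
    have := hud.map (MulAut.conj g₀⁻¹).toMonoidHom
    simp only [MulEquiv.coe_toMonoidHom, MulAut.conj_apply, inv_inv] at this
    rw [← hg₀] at this
    simpa [mul_assoc] using this.eq
  set y : ↥H0 := θ.symm ⟨_, hyC⟩ with hy
  have hyv : (θ y : G) = g₀⁻¹ * d * g₀ := by rw [hy, MulEquiv.apply_symm_apply]
  have hyD : (y : X) ∈ D0 := (L.cls y).1 (by
    rw [hyv, show g₀⁻¹ * d * g₀ = g₀⁻¹ * d * g₀⁻¹⁻¹ by rw [inv_inv], conjugatesOf_conj]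
    exact mem_conjugatesOf_self)
  have h154 : T 154 ≠ T 0 := fun e => absurd (T_inj (by decide) (by decide) e) (by decide)
  have hya : (y : X) ≠ T 0 := fun e => h154 <| by
    have e' : y = aH := Subtype.ext (e.trans T_zero)
    rw [e', L.base] at hyv
    have hcd : g₀ * d * g₀⁻¹ = d := by
      conv_lhs => rw [hyv]
      group
    have : θ ⟨T 154, T154_mem_H0⟩ = θ aH := Subtype.ext (by rw [L.base]; exact hg₀.symm.trans hcd)
    rw [T_zero]
    exact congrArg Subtype.val (θ.injective this)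
  obtain ⟨h, h1, h2⟩ := exists_swap hyD hya (mem_H0_iff.1 y.2)
  have hmem : ∀ x : ↥(Cp 154), h⁻¹ * (x : X) * h ∈ H0 := fun x => mem_H0_iff.2 <| by
    have := (mem_Cp_iff.1 x.2).map (MulAut.conj h⁻¹).toMonoidHom
    simp only [MulEquiv.coe_toMonoidHom, MulAut.conj_apply, inv_inv] at this
    rwa [show h⁻¹ * T 154 * h = T 0 by rw [← h1]; group] at this
  let η₀ : ↥(Cp 154) →* G := MonoidHom.mk' (fun x => g₀ * (θ ⟨_, hmem x⟩ : G) * g₀⁻¹) fun x x' => by
    have e : (⟨_, hmem (x * x')⟩ : ↥H0) = ⟨_, hmem x⟩ * ⟨_, hmem x'⟩ := Subtype.ext (by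
      show h⁻¹ * ((x : X) * (x' : X)) * h = h⁻¹ * x * h * (h⁻¹ * x' * h)
      group)
    rw [e, map_mul, Subgroup.coe_mul]
    group
  have hinj₀ : Function.Injective η₀ := fun x x' e => by
    have e1 : θ ⟨_, hmem x⟩ = θ ⟨_, hmem x'⟩ := Subtype.ext (mul_left_cancel (mul_right_cancel e))
    have e2 : h⁻¹ * (x : X) * h = h⁻¹ * (x' : X) * h := congrArg Subtype.val (θ.injective e1)
    exact Subtype.ext (mul_left_cancel (mul_right_cancel e2))
  have hg154 : T 154 ∈ Cp 154 := mem_Cp_iff.2 (Commute.refl _)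
  have h0mem : T 0 ∈ Cp 154 := mem_Cp_iff.2 (mem_H0_iff.1 T154_mem_H0).symm
  have e154 : η₀ ⟨T 154, hg154⟩ = u := by
    show g₀ * (θ ⟨_, hmem ⟨T 154, hg154⟩⟩ : G) * g₀⁻¹ = u
    have e : (⟨_, hmem ⟨T 154, hg154⟩⟩ : ↥H0) = aH := Subtype.ext (by
      show h⁻¹ * T 154 * h = Inst.FiTwentyTwo.a
      rw [← h1, ← T_zero]; group)
    rw [e, L.base]
    exact hg₀
  have e0 : η₀ ⟨T 0, h0mem⟩ = d := by
    show g₀ * (θ ⟨_, hmem ⟨T 0, h0mem⟩⟩ : G) * g₀⁻¹ = d
    have e : (⟨_, hmem ⟨T 0, h0mem⟩⟩ : ↥H0) = y := Subtype.ext (by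
      show h⁻¹ * T 0 * h = y
      rw [← h2]; group)
    rw [e, hyv]
    group
  have hrange₀ : η₀.range = Cd u := by
    ext z
    rw [mem_centralizer_singleton_iff]
    constructor
    · rintro ⟨x, rfl⟩
      rw [← e154, ← map_mul, ← map_mul]
      exact congrArg η₀ (Subtype.ext (mem_Cp_iff.1 x.2).eq)
    · intro hz
      have hz' : g₀⁻¹ * z * g₀ ∈ Cd d := mem_centralizer_singleton_iff.2 <| by
        have hd' : d = g₀⁻¹ * u * g₀ := by rw [← hg₀]; group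
        rw [hd']
        calc g₀⁻¹ * z * g₀ * (g₀⁻¹ * u * g₀) = g₀⁻¹ * (z * u) * g₀ := by group
          _ = g₀⁻¹ * (u * z) * g₀ := by rw [hz]
          _ = g₀⁻¹ * u * g₀ * (g₀⁻¹ * z * g₀) := by group
      set w : ↥H0 := θ.symm ⟨_, hz'⟩ with hw
      have hwC : h * (w : X) * h⁻¹ ∈ Cp 154 := mem_Cp_iff.2 <| by
        have := (mem_H0_iff.1 w.2).map (MulAut.conj h).toMonoidHom
        simp only [MulEquiv.coe_toMonoidHom, MulAut.conj_apply] at this
        rwa [h1] at this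
      refine ⟨⟨_, hwC⟩, ?_⟩
      show g₀ * (θ ⟨_, hmem ⟨_, hwC⟩⟩ : G) * g₀⁻¹ = z
      rw [show (⟨_, hmem ⟨_, hwC⟩⟩ : ↥H0) = w from Subtype.ext (by
        show h⁻¹ * (h * (w : X) * h⁻¹) * h = w; group), hw, MulEquiv.apply_symm_apply]
      group
  have hcls₀ : ∀ x : ↥(Cp 154), η₀ x ∈ conjugatesOf d ↔ (x : X) ∈ D0 := fun x => by
    show g₀ * (θ ⟨_, hmem x⟩ : G) * g₀⁻¹ ∈ _ ↔ _
    rw [conjugatesOf_conj, L.cls]
    show h⁻¹ * (x : X) * h ∈ D0 ↔ _
    rw [show h⁻¹ * (x : X) * h = h⁻¹ * (x : X) * h⁻¹⁻¹ by rw [inv_inv], D0_conj]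
  -- the difference on the intersection
  have hpre : ∀ x : ↥(Cpair 154), ∃ x' : ↥(Cpair 154), η₀ ⟨x', x'.2.2⟩ = θ ⟨x, x.2.1⟩ := by
    intro x
    have hz : (θ ⟨x, x.2.1⟩ : G) ∈ Cd u := mem_centralizer_singleton_iff.2 <| by
      rw [hu, ← Subgroup.coe_mul, ← Subgroup.coe_mul, ← map_mul, ← map_mul]
      exact congrArg (fun t : ↥H0 => (θ t : G)) (Subtype.ext (mem_Cp_iff.1 x.2.2).eq)
    rw [← hrange₀] at hz
    obtain ⟨x', hx'⟩ := hz
    refine ⟨⟨x', mem_H0_iff.2 ?_, x'.2⟩, hx'⟩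
    have hcd : Commute (η₀ x') (η₀ ⟨T 0, h0mem⟩) := by
      rw [hx', e0]
      exact mem_centralizer_singleton_iff.1 (θ ⟨x, x.2.1⟩).2
    exact congrArg Subtype.val (hinj₀ (a₁ := x' * ⟨T 0, h0mem⟩) (a₂ := ⟨T 0, h0mem⟩ * x')
      (by rw [map_mul, map_mul]; exact hcd.eq))
  choose af haf using hpre
  let α₀ : ↥(Cpair 154) →* ↥(Cpair 154) := MonoidHom.mk' af fun x x' => by
    have e : η₀ ⟨af (x * x'), (af (x * x')).2.2⟩ =
        η₀ (⟨af x, (af x).2.2⟩ * ⟨af x', (af x').2.2⟩) := by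
      rw [map_mul, haf, haf, haf, ← Subgroup.coe_mul, ← map_mul]
      rfl
    have := congrArg Subtype.val (hinj₀ e)
    exact Subtype.ext this
  have hαinj : Function.Injective α₀ := fun x x' e => by
    have e' : af x = af x' := e
    have h3 := haf x
    rw [e', haf x'] at h3
    have : θ ⟨x', x'.2.1⟩ = θ ⟨x, x.2.1⟩ := Subtype.ext h3
    exact Subtype.ext (congrArg Subtype.val (θ.injective this)).symm
  let α : ↥(Cpair 154) ≃* ↥(Cpair 154) :=
    MulEquiv.ofBijective α₀ ⟨hαinj, Finite.injective_iff_surjective.1 hαinj⟩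
  have hα : ∀ x : ↥(Cpair 154), η₀ ⟨α x, (α x).2.2⟩ = θ ⟨x, x.2.1⟩ := haf
  obtain ⟨γ, hγ0, hγg, hγ⟩ := rigid α
    (fun hh => congrArg Subtype.val (hinj₀ (a₁ := ⟨(α ⟨T 0, hh⟩ : X), (α ⟨T 0, hh⟩).2.2⟩)
      (a₂ := ⟨T 0, h0mem⟩) (by
        rw [hα, e0]
        show (θ ⟨T 0, hh.1⟩ : G) = d
        rw [show (⟨T 0, hh.1⟩ : ↥H0) = aH from Subtype.ext T_zero]
        exact L.base)))
    (fun hh => congrArg Subtype.val (hinj₀ (a₁ := ⟨(α ⟨T 154, hh⟩ : X), (α ⟨T 154, hh⟩).2.2⟩)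
      (a₂ := ⟨T 154, hg154⟩) (by rw [hα, e154])))
    (fun x => by
      rw [← hcls₀ ⟨(α x : X), (α x).2.2⟩, hα, L.cls])
  have hγC : ∀ x : ↥(Cp 154), γ x ∈ Cp 154 := fun x => mem_Cp_iff.2 <| by
    have := (mem_Cp_iff.1 x.2).map γ
    rwa [hγg] at this
  let η : ↥(Cp 154) →* G := MonoidHom.mk' (fun x => η₀ ⟨γ x, hγC x⟩) fun x x' => by
    rw [← map_mul]
    exact congrArg η₀ (Subtype.ext (map_mul γ (x : X) (x' : X)))
  refine ⟨η, ⟨fun x x' e => Subtype.ext (γ.injective (congrArg Subtype.val (hinj₀ e))), ?_, ?_, ?_⟩⟩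
  · intro hh
    have e : η ⟨T 154, hh⟩ = u := by
      show η₀ ⟨γ (T 154), hγC ⟨_, hh⟩⟩ = u
      rw [← e154]
      exact congrArg η₀ (Subtype.ext hγg)
    rw [e, ← hrange₀]
    ext z
    constructor
    · rintro ⟨x, rfl⟩
      exact ⟨_, rfl⟩
    · rintro ⟨x, rfl⟩
      have hx : γ⁻¹ (x : X) ∈ Cp 154 := mem_Cp_iff.2 <| by
        have := (mem_Cp_iff.1 x.2).map γ⁻¹
        rwa [show γ⁻¹ (T 154) = T 154 by rw [MulAut.inv_apply, MulEquiv.symm_apply_eq, hγg]] at this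
      refine ⟨⟨_, hx⟩, ?_⟩
      show η₀ ⟨γ (γ⁻¹ (x : X)), hγC ⟨_, hx⟩⟩ = η₀ x
      exact congrArg η₀ (Subtype.ext (γ.apply_symm_apply (x : X)))
  · intro x
    show η₀ ⟨γ x, hγC x⟩ ∈ _ ↔ _
    rw [hcls₀]
    exact mem_D0_aut γ
  · intro x h₁ h₂
    rw [← hα ⟨x, h₁, h₂⟩]
    exact congrArg η₀ (Subtype.ext (hγ ⟨x, h₁, h₂⟩).symm)

end CfsgLib.ThreeTrans.FiCent
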