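import Cfsg.Agent.Lib.ThreeTrans.FiCent.Types
import Cfsg.Agent.Lib.ThreeTrans.FiCent.FuseData
import Cfsg.Agent.Lib.ThreeTrans.FiCent23.Base22

/-!
The elementary abelian subgroup of order `2¹⁰` over a base through the first transposition, in coordinates;
every involution of the first centraliser is conjugate into it, as is every such subgroup.
-/

set_option autoImplicit false
set_option maxRecDepth 100000
set_option maxHeartbeats 800000
set_option linter.unusedSectionVars false

namespace CfsgLib.ThreeTrans.FiCent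

open Subgroup CfsgLib.Presented CfsgLib.Presented.Fi22Pts FuseData
open CfsgLib.ThreeTrans.Inst.FiTwentyTwo (P maskA)
open CfsgLib.ThreeTrans.TypeTop (IsProd isProd_one isProd_two isProd_three)
open CfsgLib.ThreeTrans.Tower (IsBase22 hex)
open CfsgLib.ThreeTrans.FiCent23 (cj Triple)
open Fi22UCert (rep)

/-- A product over the bits of a number. -/
noncomputable def cw {A : Type*} [Group A] : List A → ℕ → A
  | [], _ => 1
  | x :: l, m => (if m % 2 = 1 then x else 1) * cw l (m / 2)

/-- A sum over the bits of a number. -/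
def xw : List ℕ → ℕ → ℕ
  | [], _ => 0
  | x :: l, m => (if m % 2 = 1 then x else 0) ^^^ xw l (m / 2)

/-- A word over the bits of a number. -/
def ww : List (List ℕ) → ℕ → List ℕ
  | [], _ => []
  | x :: l, m => (if m % 2 = 1 then x else []) ++ ww l (m / 2)

theorem cw_mem {A : Type*} [Group A] {K : Subgroup A} :
    ∀ {l : List A}, (∀ x ∈ l, x ∈ K) → ∀ m, cw l m ∈ K
  | [], _, _ => one_mem K
  | x :: l, h, m => by
    rw [cw]
    refine mul_mem ?_ (cw_mem (fun y hy => h y (List.mem_cons_of_mem _ hy)) _)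
    split_ifs
    exacts [h x List.mem_cons_self, one_mem K]

theorem cw_zero {A : Type*} [Group A] : ∀ l : List A, cw l 0 = 1
  | [] => rfl
  | x :: l => by rw [cw, if_neg (by norm_num), one_mul, Nat.zero_div, cw_zero]

theorem cw_comm {A : Type*} [Group A] {y : A} :
    ∀ {l : List A}, (∀ x ∈ l, Commute y x) → ∀ m, Commute y (cw l m)
  | [], _, _ => Commute.one_right y
  | x :: l, h, m => by
    rw [cw]
    refine Commute.mul_right ?_ (cw_comm (fun z hz => h z (List.mem_cons_of_mem _ hz)) _)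
    split_ifs
    exacts [h x List.mem_cons_self, Commute.one_right y]

theorem cw_xor {A : Type*} [Group A] :
    ∀ {l : List A}, (∀ x ∈ l, x * x = 1) → (∀ x ∈ l, ∀ y ∈ l, Commute x y) → ∀ m n,
      cw l (m ^^^ n) = cw l m * cw l n
  | [], _, _, _, _ => (one_mul 1).symm
  | x :: l, hs, hc, m, n => by
    have ih := cw_xor (fun z hz => hs z (List.mem_cons_of_mem _ hz))
      (fun y hy z hz => hc y (List.mem_cons_of_mem _ hy) z (List.mem_cons_of_mem _ hz)) (m / 2) (n / 2)
    have hx : ∀ k, Commute x (cw l k) :=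
      cw_comm fun z hz => hc x List.mem_cons_self z (List.mem_cons_of_mem _ hz)
    have hx2 : x * x = 1 := hs x List.mem_cons_self
    rw [cw, cw, cw, Nat.xor_div_two, ih]
    have hp := Nat.xor_mod_two_eq_one (a := m) (b := n)
    by_cases hm : m % 2 = 1 <;> by_cases hn : n % 2 = 1
    · rw [if_neg (fun e => hp.1 e ⟨fun _ => hn, fun _ => hm⟩), if_pos hm, if_pos hn, one_mul,
        mul_assoc x, ← mul_assoc (cw l (m / 2)) x, ← (hx _).eq, mul_assoc x, ← mul_assoc x x, hx2, one_mul]
    · rw [if_pos (hp.2 fun e => hn (e.1 hm)), if_pos hm, if_neg hn, one_mul, mul_assoc]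
    · rw [if_pos (hp.2 fun e => hm (e.2 hn)), if_neg hm, if_pos hn, one_mul, ← mul_assoc x, (hx _).eq,
        mul_assoc]
    · rw [if_neg (fun e => hp.1 e ⟨fun h => absurd h hm, fun h => absurd h hn⟩), if_neg hm, if_neg hn, one_mul,
        one_mul, one_mul]

theorem el_ww : ∀ (l : List (List ℕ)) (m : ℕ), el (ww l m) = cw (l.map el) m
  | [], _ => rfl
  | x :: l, m => by
    rw [ww, el_append, List.map_cons, cw, el_ww l]
    split_ifs
    exacts [rfl, rfl]

theorem conj_cw {A : Type*} [Group A] (h : A) :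
    ∀ (l : List A) (m : ℕ), h * cw l m * h⁻¹ = cw (l.map fun x => h * x * h⁻¹) m
  | [], _ => by simp [cw]
  | x :: l, m => by
    rw [List.map_cons, cw, cw, ← conj_cw h l]
    split_ifs <;> group

/-- The transpositions of the coordinate vectors. -/
noncomputable abbrev basisT : List X := basisPts.map T

/-- An element of the subgroup by coordinates. -/
noncomputable def cc (m : ℕ) : X := cw basisT m

/-- Words reaching the basis points. -/
def basisWords : List (List ℕ) :=
  (List.range 10).map fun i => ((members.find? fun e => Nat.beq e.1 (2 ^ i)).getD (0, 0, [])).2.2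

theorem basis_ok : (basisWords.all ok && basisWords.map (fun w => img w 0) == basisPts) = true := by
  decide +kernel

theorem members_ok : (members.all fun e => ok e.2.2 && Nat.beq (img e.2.2 0) e.2.1 && Nat.blt e.1 1024 &&
    eqW (tw e.2.2) (ww (basisWords.map tw) e.1)) = true := by
  decide +kernel

theorem base_pts_ok : (allLt (fun p =>
      (Nat.beq (img [0] p) p && Nat.beq (img [6] p) p && Nat.beq (img [2] p) p && Nat.beq (img [7] p) p) ==
        (members.map fun e => e.2.1).contains p) 3510 &&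
    Nat.beq outerPt 43 && Nat.blt outerWit 3510 && Nat.beq (img [0] outerWit) outerWit &&
    Nat.beq (img [6] outerWit) outerWit && Nat.beq (img [2] outerWit) outerWit &&
    !(Nat.beq (img [7] outerWit) outerWit) &&
    basisPts.all (fun p => (members.map fun e => e.2.1).contains p)) = true := by
  decide +kernel

theorem el_basisT : (basisWords.map tw).map el = basisT := by
  have key := basis_ok
  simp only [Bool.and_eq_true, beq_iff_eq, List.all_eq_true] at key
  rw [List.map_map, basisT, ← key.2, List.map_map]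
  exact List.map_congr_left fun w hw => evW_tw (key.1 w hw)

theorem T_member {e : ℕ × ℕ × List ℕ} (he : e ∈ members) :
    e.1 < 1024 ∧ e.2.1 < rep.N ∧ T e.2.1 = cc e.1 := by
  have key := List.all_eq_true.1 members_ok e he
  simp only [Bool.and_eq_true, Nat.blt_eq] at key
  obtain ⟨⟨⟨h1, h2⟩, h3⟩, h4⟩ := key
  have h2' : img e.2.2 0 = e.2.1 := Nat.eq_of_beq_eq_true h2
  refine ⟨h3, h2' ▸ img_lt h1 (by decide), ?_⟩
  have := eqW_spec h4
  rw [evW_tw h1, h2'] at this
  rw [this, cc, ← el_basisT]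
  exact el_ww _ _

/-- The points of the base. -/
def bpts : List ℕ := members.map fun e => e.2.1

/-- The base. -/
noncomputable def Bc : Set X := T '' {p | p ∈ bpts}

theorem mem_bpts_iff {p : ℕ} (hp : p < rep.N) : p ∈ bpts ↔
    (img [0] p = p ∧ img [6] p = p ∧ img [2] p = p ∧ img [7] p = p) := by
  have key := base_pts_ok
  simp only [Bool.and_eq_true] at key
  have h := allLt_spec key.1.1.1.1.1.1.1 p hp
  rw [beq_iff_eq] at h
  rw [bpts, ← List.contains_iff_mem, ← h, Bool.and_eq_true, Bool.and_eq_true, Bool.and_eq_true, and_assoc, and_assoc]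
  exact and_congr (Iff.of_eq Nat.beq_eq) (and_congr (Iff.of_eq Nat.beq_eq) (and_congr (Iff.of_eq Nat.beq_eq) (Iff.of_eq Nat.beq_eq)))

theorem bpts_lt {p : ℕ} (hp : p ∈ bpts) : p < rep.N := by
  obtain ⟨e, he, rfl⟩ := List.mem_map.1 hp
  exact (T_member he).2.1

theorem el_letter {x : ℕ} (hx : x < 9) : el [x] = T (gpts.getD x 0) := by rw [el_one, ← T_gpts x hx]

theorem commute_letter {x : ℕ} (hx : x < 9) {p : ℕ} (hp : p < rep.N) :
    Commute (T p) (T (gpts.getD x 0)) ↔ img [x] p = p := by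
  rw [← el_letter hx, Commute.symm_iff]
  exact commute_el_iff (by simp [ok, hx]) hp

theorem m22 : FiCent23.M22 (Y := X) D0 :=
  ⟨Inst.FiTwentyTwo.isGroup, Inst.FiTwentyTwo.primitive, Inst.FiTwentyTwo.typeM22⟩

theorem std_triple : Triple D0 (T 0) (T 154) (T 6) := by
  refine ⟨T_mem 0, T_mem _, T_mem _, ?_, ?_, ?_, seven_commute (by simp) (by simp), seven_commute (by simp) (by simp),
    seven_commute (by simp) (by simp)⟩ <;>
  exact fun e => absurd (T_inj (by decide) (by decide) e) (by decide)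

theorem Bc_base : IsBase22 D0 Bc := by
  have := finite_X
  have key := base_pts_ok
  simp only [Bool.and_eq_true, Bool.not_eq_true', Nat.blt_eq] at key
  obtain ⟨⟨⟨⟨⟨⟨⟨-, h43⟩, hz⟩, z0⟩, z6⟩, z2⟩, z7⟩, -⟩ := key
  replace hz : outerWit < rep.N := hz
  replace z0 : img [0] outerWit = outerWit := Nat.eq_of_beq_eq_true z0
  replace z6 : img [6] outerWit = outerWit := Nat.eq_of_beq_eq_true z6
  replace z2 : img [2] outerWit = outerWit := Nat.eq_of_beq_eq_true z2
  have c0 := (commute_letter (by norm_num) hz).2 z0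
  have c6 := (commute_letter (by norm_num) hz).2 z6
  have c2 := (commute_letter (by norm_num) hz).2 z2
  have e43 : img [0] 43 = 43 ∧ img [6] 43 = 43 ∧ img [2] 43 = 43 := by decide +kernel
  have w0 := (commute_letter (x := 0) (p := 43) (by norm_num) (by decide)).2 e43.1
  have w6 := (commute_letter (x := 6) (p := 43) (by norm_num) (by decide)).2 e43.2.1
  have w2 := (commute_letter (x := 2) (p := 43) (by norm_num) (by decide)).2 e43.2.2
  have hnh : T 43 ∉ hex D0 (T 0) (T 154) (T 6) := fun hh => by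
    have := (commute_letter (x := 7) (by norm_num) hz).1 (hh.2 _ (T_mem outerWit) c0 c6 c2).symm
    rw [this, Nat.beq_refl] at z7
    exact Bool.noConfusion z7
  have hb := m22.base_of_outer std_triple (T_mem 43) w0 w6 w2 hnh
  convert hb using 1
  ext y
  constructor
  · rintro ⟨p, hp, rfl⟩
    obtain ⟨a0, a6, a2, a7⟩ := (mem_bpts_iff (bpts_lt hp)).1 hp
    exact ⟨T_mem p, (commute_letter (by norm_num) (bpts_lt hp)).2 a0, (commute_letter (by norm_num) (bpts_lt hp)).2 a6,
      (commute_letter (by norm_num) (bpts_lt hp)).2 a2, (commute_letter (by norm_num) (bpts_lt hp)).2 a7⟩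
  · rintro ⟨hy, b0, b6, b2, b7⟩
    obtain ⟨p, hp, rfl⟩ := exists_T hy
    exact ⟨p, (mem_bpts_iff hp).2 ⟨(commute_letter (by norm_num) hp).1 b0, (commute_letter (by norm_num) hp).1 b6,
      (commute_letter (by norm_num) hp).1 b2, (commute_letter (by norm_num) hp).1 b7⟩, rfl⟩

theorem T0_mem_Bc : T 0 ∈ Bc := ⟨0, by decide, rfl⟩

theorem basisT_mem {x : X} (hx : x ∈ basisT) : x ∈ Bc := by
  obtain ⟨p, hp, rfl⟩ := List.mem_map.1 hx
  have key := base_pts_ok
  simp only [Bool.and_eq_true, List.all_eq_true] at key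
  exact ⟨p, List.contains_iff_mem.1 (key.2 p hp), rfl⟩

theorem cc_xor (m n : ℕ) : cc (m ^^^ n) = cc m * cc n :=
  cw_xor (fun _ hx => D0_sq (Bc_base.sub (basisT_mem hx)))
    (fun _ hx _ hy => Bc_base.comm _ (basisT_mem hx) _ (basisT_mem hy)) m n

theorem cc_zero : cc 0 = 1 := cw_zero _

theorem cc_sq (m : ℕ) : cc m * cc m = 1 := by rw [← cc_xor, Nat.xor_self, cc_zero]

theorem cc_comm (m n : ℕ) : Commute (cc m) (cc n) := by
  show cc m * cc n = cc n * cc m
  rw [← cc_xor, ← cc_xor, Nat.xor_comm]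

theorem cc_one : cc 1 = T 0 := by
  have h : (1, 0, ([] : List ℕ)) ∈ members := by decide +kernel
  exact (T_member h).2.2.symm

theorem cc_mem_H0 (m : ℕ) : cc m ∈ H0 := by
  refine mem_H0_iff.2 ?_
  rw [← cc_one]
  exact cc_comm _ _

theorem cc_mem_closure (m : ℕ) : cc m ∈ closure Bc :=
  cw_mem (fun _ hx => subset_closure (basisT_mem hx)) m

theorem exists_cc {x : X} (hx : x ∈ closure Bc) : ∃ m < 1024, cc m = x := by
  induction hx using Subgroup.closure_induction with
  | mem y hy =>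
    obtain ⟨p, hp, rfl⟩ := hy
    obtain ⟨e, he, rfl⟩ := List.mem_map.1 hp
    exact ⟨e.1, (T_member he).1, (T_member he).2.2.symm⟩
  | one => exact ⟨0, by norm_num, cc_zero⟩
  | mul u v _ _ hu hv =>
    obtain ⟨i, hi, rfl⟩ := hu
    obtain ⟨j, hj, rfl⟩ := hv
    exact ⟨i ^^^ j, Nat.xor_lt_two_pow (n := 10) hi hj, cc_xor i j⟩
  | inv u _ hu =>
    obtain ⟨i, hi, rfl⟩ := hu
    exact ⟨i, hi, (inv_eq_of_mul_eq_one_right (cc_sq i)).symm⟩

/-! ### Maps of the coordinates -/

theorem xw_cc (l : List ℕ) : ∀ m, cw (l.map cc) m = cc (xw l m) := by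
  induction l with
  | nil => intro m; exact cc_zero.symm
  | cons x l ih =>
    intro m
    rw [List.map_cons, cw, xw, cc_xor, ih]
    split_ifs
    · rfl
    · rw [cc_zero]

/-- A word permutes the base as listed. -/
noncomputable def moves (w : List ℕ) (ims : List ℕ) : Bool :=
  ok w && Nat.beq ims.length 10 &&
    (List.range 10).all fun i => members.any fun e =>
      Nat.beq e.1 (ims.getD i 0) && Nat.beq (img w (basisPts.getD i 0)) e.2.1

theorem moves_cc {w ims : List ℕ} (h : moves w ims = true) (m : ℕ) :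
    el w * cc m * (el w)⁻¹ = cc (xw ims m) := by
  simp only [moves, Bool.and_eq_true, List.all_eq_true, List.any_eq_true] at h
  obtain ⟨⟨hok, hlen⟩, hall⟩ := h
  have hlen' : ims.length = 10 := Nat.eq_of_beq_eq_true hlen
  have hb : basisPts.length = 10 := rfl
  rw [cc, conj_cw, ← xw_cc]
  congr 1
  refine List.ext_getElem (by simp [basisT, hlen', hb]) fun i h1 h2 => ?_
  have hi : i < 10 := by simp [basisT] at h1; omega
  obtain ⟨e, he, he1, he2⟩ := hall i (List.mem_range.2 hi)
  rw [List.getD_eq_getElem _ _ (by omega)] at he1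
  rw [List.getD_eq_getElem _ _ (by omega)] at he2
  simp only [basisT, List.getElem_map]
  have hlt : basisPts[i] < rep.N := by
    refine bpts_lt ?_
    have key := base_pts_ok
    simp only [Bool.and_eq_true, List.all_eq_true] at key
    exact List.contains_iff_mem.1 (key.2 _ (List.getElem_mem _))
  refine (el_conj hok hlt).trans ((congrArg T (Nat.eq_of_beq_eq_true he2)).trans ?_)
  rw [(T_member he).2.2, Nat.eq_of_beq_eq_true he1]

theorem moves_mem_H0 {w ims : List ℕ} (h : moves w ims = true) (h0 : img w 0 = 0) : el w ∈ H0 := by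
  simp only [moves, Bool.and_eq_true] at h
  exact el_mem_H0 h.1.1 h0

/-- Check of an orbit tree of listed maps of coordinates, from the points seen. -/
noncomputable def treeGo (ims : List (List ℕ)) (tree : List (ℕ × ℕ × ℕ)) : ℕ → Bool :=
  List.rec (motive := fun _ => ℕ → Bool) (fun _ => true)
    (fun t _ ih m => bit m t.1 && Nat.blt t.2.1 ims.length &&
      Nat.beq (xw (ims.getD t.2.1 []) t.1) t.2.2 && Nat.blt t.2.2 1024 &&
      Vec.force (Nat.lor m (Nat.shiftLeft 1 t.2.2)) fun m' => ih m') tree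

/-- Check of an orbit tree of listed maps of coordinates. -/
noncomputable def treeOK (ims : List (List ℕ)) (seed : ℕ) (tree : List (ℕ × ℕ × ℕ)) : Bool :=
  Nat.blt seed 1024 && treeGo ims tree (Nat.shiftLeft 1 seed)

/-- A set of numbers as a mask. -/
noncomputable def maskOf (l : List ℕ) : ℕ :=
  List.rec (motive := fun _ => ℕ) 0 (fun t _ ih => Vec.force ih fun m => Nat.lor m (Nat.shiftLeft 1 t)) l

theorem testBit_maskOf : ∀ (l : List ℕ) (j : ℕ), (maskOf l).testBit j = true ↔ j ∈ l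
  | [], j => by simp [maskOf]
  | t :: l, j => by
    show (Vec.force (maskOf l) fun m => Nat.lor m (Nat.shiftLeft 1 t)).testBit j = true ↔ _
    rw [Vec.force_eq, show Nat.lor (maskOf l) (Nat.shiftLeft 1 t) = maskOf l ||| 1 <<< t from rfl, testBit_addBit,
      testBit_maskOf l, List.mem_cons]
    exact or_comm

/-- The points of a tree. -/
def treePts (o : ℕ × List (ℕ × ℕ × ℕ)) : List ℕ := o.1 :: o.2.map fun t => t.2.2

theorem treeGo_iff {ims : List (List ℕ)} (Q : ℕ → Prop) (hQ : ∀ im ∈ ims, ∀ x, x < 1024 → (Q (xw im x) ↔ Q x))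
    {R : Prop} : ∀ (tree : List (ℕ × ℕ × ℕ)) (m : ℕ), treeGo ims tree m = true →
      (∀ q, m.testBit q = true → q < 1024 ∧ (Q q ↔ R)) → ∀ t ∈ tree, t.2.2 < 1024 ∧ (Q t.2.2 ↔ R)
  | [], _, _, _, t, ht => by simp at ht
  | u :: l, m, h, hm, t, ht => by
    have h' : (bit m u.1 && Nat.blt u.2.1 ims.length && Nat.beq (xw (ims.getD u.2.1 []) u.1) u.2.2 &&
        Nat.blt u.2.2 1024 && Vec.force (Nat.lor m (Nat.shiftLeft 1 u.2.2)) fun m' => treeGo ims l m') = true := h
    simp only [Bool.and_eq_true, bit_eq, Nat.blt_eq, Vec.force_eq] at h'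
    obtain ⟨⟨⟨⟨h1, h2⟩, h3⟩, h4⟩, h5⟩ := h'
    obtain ⟨p1, p2⟩ := hm _ h1
    have hu : u.2.2 < 1024 ∧ (Q u.2.2 ↔ R) := by
      refine ⟨h4, ?_⟩
      rw [← Nat.eq_of_beq_eq_true h3, List.getD_eq_getElem _ _ h2, hQ _ (List.getElem_mem _) _ p1]
      exact p2
    rcases List.mem_cons.1 ht with rfl | ht
    · exact hu
    · refine treeGo_iff Q hQ l _ h5 (fun q hq => ?_) t ht
      rcases (testBit_addBit _ _ _).1 hq with hq | rfl
      exacts [hm q hq, hu]

theorem tree_iff {ims : List (List ℕ)} {seed : ℕ} {tree : List (ℕ × ℕ × ℕ)} (h : treeOK ims seed tree = true)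
    (Q : ℕ → Prop) (hQ : ∀ im ∈ ims, ∀ x, x < 1024 → (Q (xw im x) ↔ Q x)) :
    ∀ m ∈ treePts (seed, tree), m < 1024 ∧ (Q m ↔ Q seed) := by
  simp only [treeOK, Bool.and_eq_true, Nat.blt_eq] at h
  intro m hm
  rcases List.mem_cons.1 hm with rfl | hm
  · exact ⟨h.1, Iff.rfl⟩
  · obtain ⟨t, ht, rfl⟩ := List.mem_map.1 hm
    refine treeGo_iff Q hQ tree _ h.2 (fun q hq => ?_) t ht
    rw [Nat.shiftLeft_eq', Nat.shiftLeft_eq, one_mul, Nat.testBit_two_pow, decide_eq_true_eq] at hq
    exact hq ▸ ⟨h.1, Iff.rfl⟩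

/-- The words of the listed normalising elements. -/
def pairWords : List (List ℕ) := pairs.map fun p => tw p.1 ++ tw p.2

theorem pairs_ok : ((List.range 6).all (fun i => moves (pairWords.getD i []) (images.getD i []) &&
      Nat.beq (img (pairWords.getD i []) 0) 0) && Nat.beq images.length 6 &&
    kinds.all (fun o => treeOK images o.1 o.2) &&
    kinds.map (fun o => maskOf (treePts o)) == kindMasks &&
    allLt (fun m => Nat.beq m 0 || Nat.beq m 1 || kindMasks.any fun k => bit k m) 1024) = true := by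
  decide +kernel

/-- The maps are conjugations inside the first centraliser. -/
theorem images_conj {im : List ℕ} (h : im ∈ images) :
    ∃ g ∈ H0, ∀ m, g * cc m * g⁻¹ = cc (xw im m) := by
  have key := pairs_ok
  simp only [Bool.and_eq_true, List.all_eq_true] at key
  obtain ⟨i, hi, rfl⟩ := List.mem_iff_getElem.1 h
  have hi6 : i < 6 := Nat.eq_of_beq_eq_true key.1.1.1.2 ▸ hi
  obtain ⟨h1, h2⟩ := key.1.1.1.1 i (List.mem_range.2 hi6)
  rw [List.getD_eq_getElem images _ hi] at h1
  exact ⟨_, moves_mem_H0 h1 (Nat.eq_of_beq_eq_true h2), moves_cc h1⟩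

theorem kind_cases {m : ℕ} (hm : m < 1024) : m = 0 ∨ m = 1 ∨ ∃ o ∈ kinds, m ∈ treePts o := by
  have key := pairs_ok
  simp only [Bool.and_eq_true, beq_iff_eq] at key
  have := allLt_spec key.2 m hm
  simp only [Bool.or_eq_true, List.any_eq_true, ← key.1.2, List.mem_map, bit_eq] at this
  rcases this with (h | h) | ⟨_, ⟨o, ho, rfl⟩, h⟩
  exacts [Or.inl (Nat.eq_of_beq_eq_true h), Or.inr (Or.inl (Nat.eq_of_beq_eq_true h)),
    Or.inr (Or.inr ⟨o, ho, (testBit_maskOf _ _).1 h⟩)]

theorem seeds_ne : (kinds.all fun o => !eqW (ww (basisWords.map tw) o.1) []) = true := by decide +kernel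

theorem cc_eq_one {m : ℕ} (hm : m < 1024) (h : cc m = 1) : m = 0 := by
  rcases kind_cases hm with e | e | ⟨o, ho, hmo⟩
  · exact e
  · exfalso
    rw [e, cc_one] at h
    exact D0_ne_one (T_mem 0) h
  · exfalso
    have key := pairs_ok
    simp only [Bool.and_eq_true, List.all_eq_true] at key
    have hinv : ∀ im ∈ images, ∀ x, x < 1024 → (cc (xw im x) = 1 ↔ cc x = 1) := by
      intro im him x _
      obtain ⟨g, -, hg⟩ := images_conj him
      rw [← hg]
      exact conj_eq_one_iff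
    have hs := ((tree_iff (key.1.1.2 o ho) (fun x => cc x = 1) hinv m hmo).2).1 h
    have hs' := List.all_eq_true.1 seeds_ne o ho
    rw [Bool.not_eq_true'] at hs'
    have hbw : ok (ww (basisWords.map tw) o.1) = true := by
      have hb := basis_ok
      simp only [Bool.and_eq_true, List.all_eq_true] at hb
      have : ∀ (l : List (List ℕ)), (∀ w ∈ l, ok w = true) → ∀ k, ok (ww l k) = true := by
        intro l
        induction l with
        | nil => intros; rfl
        | cons x l ih =>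
          intro hl k
          rw [ww, ok_append, ih (fun w hw => hl w (List.mem_cons_of_mem _ hw)) _, Bool.and_true]
          split_ifs
          exacts [hl x List.mem_cons_self, rfl]
      refine this _ (fun w hw => ?_) _
      obtain ⟨u, hu, rfl⟩ := List.mem_map.1 hw
      exact ok_tw (hb.1 u hu)
    refine eqW_false hbw rfl hs' ?_
    show el (ww (basisWords.map tw) o.1) = el []
    rw [el_ww, el_basisT]
    exact hs

theorem cc_inj {m n : ℕ} (hm : m < 1024) (hn : n < 1024) (h : cc m = cc n) : m = n := by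
  have h0 := cc_eq_one (Nat.xor_lt_two_pow (n := 10) hm hn) (by rw [cc_xor, h, cc_sq])
  exact Nat.xor_eq_zero_iff.1 h0

theorem card_closure_Bc : Nat.card (closure Bc) = 1024 := by
  refine (Nat.card_eq_of_bijective (fun i : Fin 1024 => (⟨cc i, cc_mem_closure i⟩ : closure Bc)) ⟨?_, ?_⟩).symm.trans
    (Nat.card_fin 1024)
  · exact fun i j e => Fin.ext (cc_inj i.2 j.2 (congrArg Subtype.val e))
  · rintro ⟨x, hx⟩
    obtain ⟨m, hm, rfl⟩ := exists_cc hx
    exact ⟨⟨m, hm⟩, rfl⟩

theorem cc_mem_D0 {m : ℕ} (hm : m < 1024) : cc m ∈ D0 ↔ ∃ e ∈ members, e.1 = m := by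
  constructor
  · intro h
    obtain ⟨p, hp, hpe⟩ := Bc_base.maximal h fun x hx => by
      obtain ⟨n, -, rfl⟩ := exists_cc (subset_closure hx)
      exact cc_comm _ _
    obtain ⟨e, he, rfl⟩ := List.mem_map.1 hp
    exact ⟨e, he, cc_inj (T_member he).1 hm ((T_member he).2.2.symm.trans hpe)⟩
  · rintro ⟨e, he, rfl⟩
    rw [← (T_member he).2.2]
    exact T_mem _

/-! ### Conjugation into the subgroup -/

theorem to_Bc {B : Set X} (hB : IsBase22 D0 B) (ha : T 0 ∈ B) :
    ∃ k ∈ H0, ∀ x ∈ closure B, ∃ m < 1024, cc m = k * x * k⁻¹ := by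
  have := finite_X
  have two : ∀ B' : Set X, IsBase22 D0 B' → T 0 ∈ B' → ∃ b c, b ∈ B' ∧ c ∈ B' ∧ Triple D0 (T 0) b c := by
    intro B' hB' ha'
    have h21 : (B' \ {T 0}).ncard = 21 := by rw [Set.ncard_sdiff_singleton_of_mem ha', hB'.card]
    obtain ⟨b, hb, c, hc, hne⟩ := (Set.one_lt_ncard (Set.toFinite _)).1 (by omega : 1 < (B' \ {T 0}).ncard)
    exact ⟨b, c, hb.1, hc.1, FiCent23.triple_of_base hB' ha' hb.1 hc.1 (fun e => hb.2 e.symm)
      (fun e => hc.2 e.symm) hne⟩
  obtain ⟨b, c, hb, hc, t⟩ := two B hB ha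
  obtain ⟨b', c', hb', hc', t'⟩ := two Bc Bc_base T0_mem_Bc
  obtain ⟨g, g1, -, -, g4⟩ := m22.triples_conj hB Bc_base t ha hb hc t' T0_mem_Bc hb' hc'
  refine ⟨g, mem_H0_iff.2 (mul_inv_eq_iff_eq_mul.1 g1), fun x hx => exists_cc ?_⟩
  rw [← g4]
  exact (MonoidHom.map_closure (MulAut.conj g).toMonoidHom B).le ⟨x, hx, rfl⟩

/-- Every involution of the first centraliser is conjugate there into the subgroup. -/
theorem exists_into {x : X} (hx : x ∈ H0) (hx2 : x * x = 1) :
    ∃ k ∈ H0, ∃ m < 1024, cc m = k * x * k⁻¹ := by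
  have := finite_X
  suffices h : ∃ B, IsBase22 D0 B ∧ T 0 ∈ B ∧ x ∈ closure B by
    obtain ⟨B, hB, ha, hxB⟩ := h
    obtain ⟨k, hk, hkB⟩ := to_Bc hB ha
    exact ⟨k, hk, hkB x hxB⟩
  by_cases hx1 : x = 1
  · exact ⟨Bc, Bc_base, T0_mem_Bc, hx1 ▸ one_mem _⟩
  have hax : Commute (T 0) x := (mem_H0_iff.1 hx).symm
  have one : ∀ b ∈ D0, Commute (T 0) b → ∃ B, IsBase22 D0 B ∧ T 0 ∈ B ∧ b ∈ B := by
    intro b hb hab
    by_cases e : b = T 0
    · exact ⟨Bc, Bc_base, T0_mem_Bc, e ▸ T0_mem_Bc⟩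
    obtain ⟨c, t⟩ := m22.exists_third (T_mem 0) hb (Ne.symm e) hab
    obtain ⟨B, hB, h1, h2, -⟩ := m22.exists_base_through t
    exact ⟨B, hB, h1, h2⟩
  have two : ∀ b ∈ D0, ∀ c ∈ D0, c ≠ b → Commute b c → Commute (T 0) b → Commute (T 0) c →
      ∃ B, IsBase22 D0 B ∧ T 0 ∈ B ∧ b ∈ B ∧ c ∈ B := by
    intro b hb c hc hne hbc hab hac
    by_cases e : T 0 = b
    · obtain ⟨B, hB, h1, h2⟩ := one c hc hac
      exact ⟨B, hB, h1, e ▸ h1, h2⟩
    by_cases e' : T 0 = c
    · obtain ⟨B, hB, h1, h2⟩ := one b hb hab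
      exact ⟨B, hB, h1, h2, e' ▸ h1⟩
    obtain ⟨B, hB, h1, h2, h3⟩ := m22.exists_base_through (⟨T_mem 0, hb, hc, e, e', hne.symm, hab, hac, hbc⟩ :
      Triple D0 (T 0) b c)
    exact ⟨B, hB, h1, h2, h3⟩
  obtain ⟨n, hn1, hn3, hn⟩ := classify hx2 hx1
  interval_cases n
  · obtain ⟨B, hB, h1, h2⟩ := one x (isProd_one.1 hn) hax
    exact ⟨B, hB, h1, subset_closure h2⟩
  · obtain ⟨b, hb, c, ⟨hc, hne, hbc⟩, rfl⟩ := isProd_two.1 hn
    obtain ⟨hab, hac⟩ := pair_commute (T_mem 0) hb hc hne hbc hax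
    obtain ⟨B, hB, h1, h2, h3⟩ := two b hb c hc hne hbc hab hac
    exact ⟨B, hB, h1, mul_mem (subset_closure h2) (subset_closure h3)⟩
  · obtain ⟨b, hb, c, hc, e, ⟨heb, hec⟩, rfl⟩ := isProd_three.1 hn
    have t : Triple D0 b c e :=
      ⟨hb, hc.1, heb.1, Ne.symm hc.2.1, Ne.symm heb.2.1, Ne.symm hec.2.1, hc.2.2, heb.2.2, hec.2.2⟩
    have mk : ∀ B, IsBase22 D0 B → T 0 ∈ B → b ∈ B → c ∈ B → e ∈ B →
        ∃ B, IsBase22 D0 B ∧ T 0 ∈ B ∧ b * c * e ∈ closure B := fun B hB h0 h1 h2 h3 =>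
      ⟨B, hB, h0, mul_mem (mul_mem (subset_closure h1) (subset_closure h2)) (subset_closure h3)⟩
    by_cases hae : T 0 = e
    · obtain ⟨B, hB, h1, h2, h3⟩ := m22.exists_base_through t
      exact mk B hB (hae.symm ▸ h3) h1 h2 h3
    obtain ⟨hab, hac, hae'⟩ := commute_of_commute_three m22.set hb hc.1 heb.1 (T_mem 0) (Ne.symm hc.2.1)
      (Ne.symm heb.2.1) (Ne.symm hec.2.1) hc.2.2 heb.2.2 hec.2.2 hae hax
    by_cases hh : T 0 ∈ hex D0 b c e
    · obtain ⟨B, hB, h1, h2, h3⟩ := m22.exists_base_through t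
      exact mk B hB (m22.hex_subset hB h1 h2 h3 hh) h1 h2 h3
    · exact mk _ (m22.base_of_outer t (T_mem 0) hab hac hae' hh) ⟨T_mem 0, hab, hac, hae', Commute.refl _⟩
        ⟨hb, Commute.refl b, hc.2.2, heb.2.2, hab.symm⟩ ⟨hc.1, hc.2.2.symm, Commute.refl c, hec.2.2, hac.symm⟩
        ⟨heb.1, heb.2.2.symm, hec.2.2.symm, Commute.refl e, hae'.symm⟩

/-- A copy of the subgroup in the first centraliser is conjugate to it there. -/
theorem copy_conj (f : ℕ → X) (hf : ∀ i, i < 1024 → ∀ j, j < 1024 → f (i ^^^ j) = f i * f j)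
    (hH : ∀ i, i < 1024 → f i ∈ H0) (hinj : ∀ i, i < 1024 → ∀ j, j < 1024 → f i = f j → i = j) :
    ∃ k ∈ H0, ∀ i, i < 1024 → ∃ m < 1024, cc m = k * f i * k⁻¹ := by
  classical
  have := finite_X
  have hlt : ∀ {i j : ℕ}, i < 1024 → j < 1024 → i ^^^ j < 1024 := fun hi hj =>
    Nat.xor_lt_two_pow (n := 10) hi hj
  have h0 : f 0 = 1 := by
    have := hf 0 (by norm_num) 0 (by norm_num)
    rwa [Nat.xor_self, eq_comm, mul_eq_left] at this
  have hsq : ∀ i, i < 1024 → f i * f i = 1 := fun i hi => by rw [← hf i hi i hi, Nat.xor_self, h0]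
  have hcomm : ∀ i, i < 1024 → ∀ j, j < 1024 → Commute (f i) (f j) := fun i hi j hj => by
    show f i * f j = f j * f i
    rw [← hf i hi j hj, ← hf j hj i hi, Nat.xor_comm]
  set S : Set X := {x | ∃ i < 1024, f i = x} with hS
  set E : Subgroup X := closure (insert (T 0) S) with hE
  have hgen : ∀ x ∈ insert (T 0) S, ∀ y ∈ insert (T 0) S, Commute x y := by
    rintro x (rfl | ⟨i, hi, rfl⟩) y (rfl | ⟨j, hj, rfl⟩)
    exacts [Commute.refl _, (mem_H0_iff.1 (hH j hj)).symm, mem_H0_iff.1 (hH i hi), hcomm i hi j hj]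
  have hEc : IsMulCommutative E := Subgroup.isMulCommutative_closure fun x hx y hy => (hgen x hx y hy).eq
  have hEel : Cfsg.IsElementaryAbelian 2 E := by
    refine ⟨hEc, fun x hx => ?_⟩
    induction hx using Subgroup.closure_induction with
    | mem y hy =>
      rw [pow_two]
      rcases hy with rfl | ⟨i, hi, rfl⟩
      exacts [D0_sq (T_mem 0), hsq i hi]
    | one => exact one_pow 2
    | mul u v hu hv e e' =>
      rw [(show Commute u v from setLike_mul_comm hu hv).mul_pow, e, e', one_mul]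
    | inv u _ e => rw [inv_pow, e, inv_one]
  have hp : IsPGroup 2 E := fun g => ⟨1, Subtype.ext (by rw [pow_one]; exact hEel.2 _ g.2)⟩
  obtain ⟨B, hB, hfix⟩ := m22.exists_base_fixed hp
  obtain ⟨g, hg⟩ := m22.bases_conj Bc_base hB
  have hcard : Nat.card (closure B) = 1024 := by
    rw [← hg, ← card_closure_Bc, show cj g '' Bc = (MulAut.conj g).toMonoidHom '' Bc from rfl,
      ← MonoidHom.map_closure, Subgroup.card_map_of_injective (MulAut.conj g).injective]
  have hge : 1024 ≤ Nat.card E := by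
    rw [← Nat.card_fin 1024]
    exact Nat.card_le_card_of_injective
      (fun i : Fin 1024 => (⟨f i, subset_closure (Set.mem_insert_of_mem _ ⟨i, i.2, rfl⟩)⟩ : E))
      fun i j e => Fin.ext (hinj i i.2 j j.2 (congrArg Subtype.val e))
  have hle : E ≤ closure B := by
    by_contra hn
    have := TypeTop.card_lt_base m22.set hB (fun x hx h1 => classify hx h1) (m22.rel (by norm_num) (by norm_num))
      hEel (fun x hx b hb => (hfix x hx) ▸ Set.mem_image_of_mem (cj x) hb) hn
    omega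
  have heq : closure B = E := (Subgroup.eq_of_le_of_card_ge hle (by omega)).symm
  have haB : T 0 ∈ B := hB.maximal (T_mem 0) fun x hx => by
    have hxE : x ∈ E := heq ▸ subset_closure hx
    exact setLike_mul_comm (subset_closure (Set.mem_insert _ _)) hxE
  obtain ⟨k, hk, hkB⟩ := to_Bc hB haB
  exact ⟨k, hk, fun i hi => hkB _ (hle (subset_closure (Set.mem_insert_of_mem _ ⟨i, hi, rfl⟩)))⟩

end CfsgLib.ThreeTrans.FiCent
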