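import Cfsg.Agent.Lib.ThreeTrans.FiCent.Stabiliser

/-!
Fusion in the centraliser: an element corresponds to a conjugate of the given involution exactly when it is a
transposition of the presented group.
-/

set_option autoImplicit false

namespace CfsgLib.ThreeTrans.FiCent

open Subgroup
open Base (el coord A0 B0 Coord induced M0 el_range el_mem A0_le_H0 el_one vx el_add)

variable {G : Type*} [Group G] {d : G}

/-- The coordinates, inside the centraliser. -/
noncomputable def elH (u : Fin 1024) : ↥H0 := ⟨el u, A0_le_H0 (el_mem u)⟩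

theorem elH_coord : Coord elH :=
  ⟨fun _ _ h => coord.inj (congrArg Subtype.val h), fun u v => Subtype.ext (el_add u v)⟩

theorem elH_one : elH 1 = aH := Subtype.ext el_one

/-- The centraliser, into the group. -/
noncomputable def intoG (θ : ↥H0 ≃* ↥(Cd d)) : ↥H0 →* G := (Cd d).subtype.comp θ.toMonoidHom

theorem intoG_inj (θ : ↥H0 ≃* ↥(Cd d)) : Function.Injective (intoG θ) :=
  (Cd d).subtype_injective.comp θ.injective

theorem range_intoG (θ : ↥H0 ≃* ↥(Cd d)) : (⊤ : Subgroup ↥H0).map (intoG θ) = Cd d := by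
  ext g
  constructor
  · rintro ⟨x, -, rfl⟩; exact (θ x).2
  · intro hg; exact ⟨θ.symm ⟨g, hg⟩, mem_top _, congrArg Subtype.val (θ.apply_symm_apply ⟨g, hg⟩)⟩

theorem induced_elH : induced elH (⊤ : Subgroup ↥H0) = M0 := by
  rw [← Base.induced_map H0.subtype H0.subtype_injective, ← MonoidHom.range_eq_map, range_subtype]
  rfl

/-- Coordinates of the image of the subgroup of the base. -/
noncomputable def baseG (θ : ↥H0 ≃* ↥(Cd d)) : Fin 1024 → G := intoG θ ∘ elH

theorem baseG_coord (θ : ↥H0 ≃* ↥(Cd d)) : Coord (baseG θ) := elH_coord.comp _ (intoG_inj θ)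

variable (h : Hyp d) (θ : ↥H0 ≃* ↥(Cd d)) (hθ : (θ aH : G) = d)

include hθ in
theorem baseG_one : baseG θ 1 = d := by
  show intoG θ (elH 1) = d
  rw [elH_one]; exact hθ

include h

theorem Hyp.ne_one : d ≠ 1 := fun e => by
  have h2 := h.ord
  rw [e, orderOf_one] at h2
  omega

theorem Hyp.sq : d * d = 1 := by
  rw [← pow_two, ← h.ord, pow_orderOf_eq_one]

theorem Hyp.conj_sq {x : G} (hx : x ∈ conjugatesOf d) : x * x = 1 ∧ x ≠ 1 := by
  obtain ⟨g, rfl⟩ := isConj_iff.1 hx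
  exact ⟨by rw [show g * d * g⁻¹ * (g * d * g⁻¹) = g * (d * d) * g⁻¹ by group, h.sq]; group,
    fun e => h.ne_one (conj_eq_one_iff.1 e)⟩

include hθ

/-- A conjugate in the image is moved to the involution by an element preserving the image. -/
theorem Hyp.base_trans {v : Fin 1024} (hv : baseG θ v ∈ conjugatesOf d) :
    ∃ p ∈ induced (baseG θ) ⊤, p 1 = v := by
  have hf := baseG_coord θ
  obtain ⟨g, hg⟩ := isConj_iff.1 hv
  have hc : ∀ u, g⁻¹ * baseG θ u * g ∈ Cd d := fun u => by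
    refine mem_centralizer_singleton_iff.2 ?_
    have e := (hf.comm u v).eq
    rw [← hg] at e
    calc g⁻¹ * baseG θ u * g * d = g⁻¹ * (baseG θ u * (g * d * g⁻¹)) * g := by group
      _ = g⁻¹ * (g * d * g⁻¹ * baseG θ u) * g := by rw [e]
      _ = d * (g⁻¹ * baseG θ u * g) := by group
  set k : Fin 1024 → X := fun u => (θ.symm ⟨_, hc u⟩ : X) with hk
  have hkc : Coord k := by
    refine ⟨fun u w e => hf.inj ?_, fun u w => ?_⟩
    · have e' := congrArg Subtype.val (θ.symm.injective (Subtype.ext e))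
      exact mul_left_cancel (mul_right_cancel (e' :))
    · simp only [hk, ← Subgroup.coe_mul, ← map_mul]
      refine congrArg (fun z : ↥(Cd d) => (θ.symm z : X)) (Subtype.ext ?_)
      show g⁻¹ * baseG θ (vx u w) * g = g⁻¹ * baseG θ u * g * (g⁻¹ * baseG θ w * g)
      rw [hf.add]; group
  have hel : Cfsg.IsElementaryAbelian 2 hkc.sub := by
    refine ⟨⟨⟨fun p q => Subtype.ext ?_⟩⟩, ?_⟩
    · obtain ⟨u, hu⟩ := p.2
      obtain ⟨w, hw⟩ := q.2
      show (p : X) * q = q * p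
      rw [← hu, ← hw]; exact (hkc.comm u w).eq
    · rintro _ ⟨u, rfl⟩
      rw [pow_two]; exact hkc.mul_self u
  obtain ⟨c, hcH, hcE⟩ := Base.elem_unique (E := hkc.sub) (fun y ⟨u, hu⟩ => hu ▸ (θ.symm ⟨_, hc u⟩).2) hel
    hkc.card_sub.ge
  set n := g * intoG θ ⟨c, hcH⟩ with hn
  have hmove : ∀ u, ∃ w, n * baseG θ u * n⁻¹ = baseG θ w := by
    intro u
    obtain ⟨w, hw⟩ : c * el u * c⁻¹ ∈ hkc.sub := by
      rw [hcE]; exact ⟨el u, el_mem u, rfl⟩
    refine ⟨w, ?_⟩
    have e : (⟨c, hcH⟩ : ↥H0) * elH u * (⟨c, hcH⟩ : ↥H0)⁻¹ = θ.symm ⟨_, hc w⟩ := Subtype.ext hw.symm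
    calc n * baseG θ u * n⁻¹
        = g * (intoG θ ((⟨c, hcH⟩ : ↥H0) * elH u * (⟨c, hcH⟩ : ↥H0)⁻¹)) * g⁻¹ := by
          rw [hn, map_mul, map_mul, map_inv]
          show _ * intoG θ (elH u) * _ = _
          group
      _ = g * (g⁻¹ * baseG θ w * g) * g⁻¹ := by
          rw [e]; exact congrArg (fun z => g * z * g⁻¹) (congrArg Subtype.val (θ.apply_symm_apply ⟨_, hc w⟩))
      _ = baseG θ w := by group
  obtain ⟨p, hp, hpn⟩ := hf.exists_induced (C := ⊤) (mem_top n) hmove
  refine ⟨p, hp, hf.inj ?_⟩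
  rw [← hpn, baseG_one θ hθ, ← hg, hn]
  have hcd : intoG θ ⟨c, hcH⟩ * d = d * intoG θ ⟨c, hcH⟩ :=
    mem_centralizer_singleton_iff.1 (θ ⟨c, hcH⟩).2
  rw [show g * intoG θ ⟨c, hcH⟩ * d * (g * intoG θ ⟨c, hcH⟩)⁻¹ =
    g * (intoG θ ⟨c, hcH⟩ * d) * (intoG θ ⟨c, hcH⟩)⁻¹ * g⁻¹ by group, hcd]
  group

/-- The conjugates in the image of the subgroup of the base are the images of the base. -/
theorem Hyp.base_fusion (v : Fin 1024) : baseG θ v ∈ conjugatesOf d ↔ el v ∈ B0 := by
  have hf := baseG_coord θ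
  rw [Base.el_mem_B0]
  refine Base.orbit_eq_base (Γ := induced (baseG θ) ⊤) (M := M0) (fun g hg => hf.additive hg) ?_ Base.card_M0
    (fun g hg => Base.M0_involution hg) (fun j hj u w => Base.M0_orbit j hj u w)
    (S := {v | baseG θ v ∈ conjugatesOf d}) ?_ ?_ ?_ (fun v hv => h.base_trans θ hθ hv) ?_ v
  · intro g
    rw [← induced_elH, ← Base.induced_map (intoG θ) (intoG_inj θ), range_intoG]
    have := hf.stab 1 g
    rwa [baseG_one θ hθ] at this
  · show baseG θ 1 ∈ conjugatesOf d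
    rw [baseG_one θ hθ]
    exact mem_conjugatesOf_self
  · intro h0
    exact (h.conj_sq h0).2 hf.map_zero
  · rintro g ⟨n, -, hn⟩ w hw
    show baseG θ (g w) ∈ conjugatesOf d
    rw [← hn]
    exact (show IsConj d (baseG θ w) from hw).trans (isConj_iff.2 ⟨n, rfl⟩)
  · obtain ⟨g, hgC, hgne⟩ := h.nwc
    have hconj : g * d * g⁻¹ ∈ conjugatesOf d := isConj_iff.2 ⟨g, rfl⟩
    set y := θ.symm ⟨_, hgC⟩ with hy
    have hyy : (θ y : G) = g * d * g⁻¹ := congrArg Subtype.val (θ.apply_symm_apply ⟨_, hgC⟩)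
    have hy2 : (y : X) * y = 1 := by
      have : y * y = 1 := θ.injective (Subtype.ext (by
        rw [map_mul, map_one]
        show (θ y : G) * θ y = 1
        rw [hyy]; exact (h.conj_sq hconj).1))
      exact congrArg Subtype.val this
    have hy1 : (y : X) ≠ 1 := fun e => (h.conj_sq hconj).2 (by
      rw [← hyy, show y = 1 from Subtype.ext e, map_one]; rfl)
    obtain ⟨c, hc, hcy⟩ := Base.invol_in_base y.2 hy2 hy1
    obtain ⟨w, hw⟩ := el_range.1 hcy
    have e : elH w = (⟨c, hc⟩ : ↥H0)⁻¹ * y * ⟨c, hc⟩ := Subtype.ext hw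
    refine ⟨w, ?_, fun e1 => hgne ?_⟩
    · show intoG θ (elH w) ∈ conjugatesOf d
      rw [e, map_mul, map_mul, map_inv]
      exact (show IsConj d _ from hyy ▸ hconj).trans (isConj_iff.2 ⟨(intoG θ ⟨c, hc⟩)⁻¹, by rw [inv_inv]; rfl⟩)
    · subst e1
      have hya : (y : X) = Inst.FiTwentyTwo.a := by
        rw [el_one] at hw
        have hca := mem_centralizer_singleton_iff.1 hc
        calc (y : X) = c * (c⁻¹ * y * c) * c⁻¹ := by group
          _ = _ := by rw [← hw, hca]; group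
      rw [← hyy, show y = aH from Subtype.ext hya, hθ]

/-- Fusion into the centraliser. -/
theorem Hyp.fusion (x : ↥H0) : (θ x : G) ∈ conjugatesOf d ↔ (x : X) ∈ D0 := by
  by_cases hx : (x : X) * x = 1 ∧ (x : X) ≠ 1
  · obtain ⟨c, hc, hcx⟩ := Base.invol_in_base x.2 hx.1 hx.2
    obtain ⟨v, hv⟩ := el_range.1 hcx
    have e : elH v = (⟨c, hc⟩ : ↥H0)⁻¹ * x * ⟨c, hc⟩ := Subtype.ext hv
    have h1 : (θ x : G) ∈ conjugatesOf d ↔ baseG θ v ∈ conjugatesOf d := by
      have : IsConj (θ x : G) (baseG θ v) := isConj_iff.2 ⟨(intoG θ ⟨c, hc⟩)⁻¹, by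
        show _ = intoG θ (elH v)
        rw [e, map_mul, map_mul, map_inv, inv_inv]; rfl⟩
      exact ⟨fun k => (show IsConj d _ from k).trans this, fun k => (show IsConj d _ from k).trans this.symm⟩
    have h2 : el v ∈ B0 ↔ (x : X) ∈ D0 := by
      refine ⟨fun k => ?_, fun k => Base.D0_A0 ?_ (el_mem v)⟩
      · have := Inst.FiTwentyTwo.P.conj_mem c (Base.B0_sub k)
        rw [hv] at this
        simpa [mul_assoc] using this
      · rw [hv]
        simpa using Inst.FiTwentyTwo.P.conj_mem c⁻¹ k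
    rw [h1, h.base_fusion θ hθ, h2]
  · refine ⟨fun k => absurd ⟨?_, ?_⟩ hx, fun k => absurd ⟨?_, ?_⟩ hx⟩
    · have h1 : x * x = 1 := θ.injective (Subtype.ext (by
        rw [map_mul, map_one]; exact (h.conj_sq k).1))
      exact congrArg Subtype.val h1
    · exact fun e => (h.conj_sq k).2 (by rw [show x = 1 from Subtype.ext e, map_one]; rfl)
    · exact ThreeTrans.mul_self Base.m22.set k
    · exact fun e => by
        have := Inst.FiTwentyTwo.P.orderOf_eq_two k
        rw [e, orderOf_one] at this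
        omega

end CfsgLib.ThreeTrans.FiCent
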