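import Cfsg.Agent.Lib.Presented.Fi22Pts.Basic
import Cfsg.Agent.Lib.ThreeTrans.FiCent.BaseData
import Cfsg.Agent.Lib.ThreeTrans.FiCent.NodeData

/-!
Kernel checks on the orbit of the base: every listed set is the image of an earlier one under one
generator of the point centraliser, and the 891 sets are different.
-/

set_option autoImplicit false
set_option maxRecDepth 20000
set_option Elab.async false

namespace CfsgLib.ThreeTrans.FiCent.Base

open CfsgLib.Presented.Fi22Pts (img ok lookup)
open CfsgLib.Presented.Fi22UCosets (hWords)

/-- the points of a packed set -/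
noncomputable def unpack (n : ℕ) : List ℕ := (List.range 22).map (lookup n)

/-- strictly increasing below the bound -/
def increasing : List ℕ → Bool
  | [] => true
  | [x] => Nat.blt x 3510
  | x :: y :: l => Nat.blt x y && increasing (y :: l)

/-- one listed set against the one it comes from -/
noncomputable def edgeOk (i : ℕ) (n : ℕ × ℕ × ℕ) : Bool :=
  Nat.blt n.2.1 i && Nat.blt n.2.2 9 &&
    CfsgLib.Presented.Vec.force (nodes.getD n.2.1 (0, 0, 0)).1 fun q =>
      (unpack q).all fun p => (unpack n.1).any (Nat.beq (img (hWords.getD n.2.2 []) p))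

theorem nodes_root : (nodes.getD 0 (0, 0, 0)).1 = (pts.reverse.foldl (fun r p => 4096 * r + p) 0) ∧
    unpack (nodes.getD 0 (0, 0, 0)).1 = pts ∧ nodes.length = 891 ∧
      (hWords.all fun w => ok w) = true ∧ hWords.length = 9 := by decide +kernel

theorem nodes_sets : (nodes.all fun n => increasing (unpack n.1)) = true := by decide +kernel

theorem nodes_edges0 : (((List.range 890).drop 0).take 178).all (fun i =>
    CfsgLib.Presented.Vec.force (i + 1) fun k => edgeOk k (nodes.getD k (0, 0, 0))) = true := by
  decide +kernel

theorem nodes_edges1 : (((List.range 890).drop 178).take 178).all (fun i =>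
    CfsgLib.Presented.Vec.force (i + 1) fun k => edgeOk k (nodes.getD k (0, 0, 0))) = true := by
  decide +kernel

theorem nodes_edges2 : (((List.range 890).drop 356).take 178).all (fun i =>
    CfsgLib.Presented.Vec.force (i + 1) fun k => edgeOk k (nodes.getD k (0, 0, 0))) = true := by
  decide +kernel

theorem nodes_edges3 : (((List.range 890).drop 534).take 178).all (fun i =>
    CfsgLib.Presented.Vec.force (i + 1) fun k => edgeOk k (nodes.getD k (0, 0, 0))) = true := by
  decide +kernel

theorem nodes_edges4 : (((List.range 890).drop 712).take 178).all (fun i =>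
    CfsgLib.Presented.Vec.force (i + 1) fun k => edgeOk k (nodes.getD k (0, 0, 0))) = true := by
  decide +kernel

theorem split_five {α : Type} (l : List α) (f : α → Bool) (n : ℕ) (hl : l.length = 5 * n)
    (h0 : ((l.drop 0).take n).all f = true) (h1 : ((l.drop n).take n).all f = true)
    (h2 : ((l.drop (2 * n)).take n).all f = true) (h3 : ((l.drop (3 * n)).take n).all f = true)
    (h4 : ((l.drop (4 * n)).take n).all f = true) : l.all f = true := by
  rw [List.all_eq_true] at *
  intro x hx
  obtain ⟨i, hi, rfl⟩ := List.mem_iff_getElem.1 hx
  have key : ∀ m, m ≤ i → i < m + n → l[i] ∈ (l.drop m).take n := fun m h1 h2 => by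
    refine List.mem_iff_getElem.2 ⟨i - m, by simp; omega, ?_⟩
    simp [show m + (i - m) = i by omega]
  rcases Nat.lt_or_ge i n with k | k
  · exact h0 _ (key 0 (by omega) (by omega))
  rcases Nat.lt_or_ge i (2 * n) with k2 | k2
  · exact h1 _ (key n (by omega) (by omega))
  rcases Nat.lt_or_ge i (3 * n) with k3 | k3
  · exact h2 _ (key (2 * n) (by omega) (by omega))
  rcases Nat.lt_or_ge i (4 * n) with k4 | k4
  · exact h3 _ (key (3 * n) (by omega) (by omega))
  · exact h4 _ (key (4 * n) (by omega) (by omega))

theorem nodes_edges : ((List.range 890).all fun i =>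
    CfsgLib.Presented.Vec.force (i + 1) fun k => edgeOk k (nodes.getD k (0, 0, 0))) = true :=
  split_five (List.range 890) _ 178 (List.length_range.trans (by decide)) nodes_edges0 nodes_edges1 nodes_edges2
    nodes_edges3 nodes_edges4

/-- no code occurs twice -/
def distinctB : List ℕ → Bool
  | [] => true
  | x :: l => l.all (fun y => !Nat.beq x y) && distinctB l

theorem nodes_distinct : distinctB (nodes.map fun n => n.1) = true := by decide +kernel

end CfsgLib.ThreeTrans.FiCent.Base
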