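import Mathlib

/-!
A subgroup of odd order invariant under two commuting involutions is generated by what each of them
and their product centralise; a chain of such steps.
-/

set_option autoImplicit false
set_option linter.unusedSectionVars false

namespace CfsgLib.ThreeTrans.FiCent

open Subgroup

variable {G : Type*} [Group G] [Finite G]

/-- Square roots in a subgroup of odd order. -/
noncomputable def oddRoot (W : Subgroup G) (u : G) : G := u ^ ((Nat.card W + 1) / 2)

theorem oddRoot_sq {W : Subgroup G} (hW : Odd (Nat.card W)) {u : G} (hu : u ∈ W) :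
    oddRoot W u * oddRoot W u = u := by
  obtain ⟨m, hm⟩ := hW
  have h : u ^ Nat.card W = 1 := congrArg Subtype.val (pow_card_eq_one' (x := (⟨u, hu⟩ : W)))
  rw [oddRoot, ← pow_add, show (Nat.card W + 1) / 2 + (Nat.card W + 1) / 2 = Nat.card W + 1 by omega,
    pow_succ, h, one_mul]

theorem oddRoot_mem {W : Subgroup G} {u : G} (hu : u ∈ W) : oddRoot W u ∈ W := pow_mem hu _

theorem sq_inj {W : Subgroup G} (hW : Odd (Nat.card W)) {u v : G} (hu : u ∈ W) (hv : v ∈ W)
    (h : u * u = v * v) : u = v := by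
  obtain ⟨m, hm⟩ := hW
  have hu' : u ^ Nat.card W = 1 := congrArg Subtype.val (pow_card_eq_one' (x := (⟨u, hu⟩ : W)))
  have hv' : v ^ Nat.card W = 1 := congrArg Subtype.val (pow_card_eq_one' (x := (⟨v, hv⟩ : W)))
  have key : ∀ z : G, z ^ Nat.card W = 1 → z = (z * z) ^ (m + 1) := fun z hz => by
    rw [← pow_two, ← pow_mul, show 2 * (m + 1) = Nat.card W + 1 by omega, pow_succ, hz, one_mul]
  rw [key u hu', key v hv', h]

/-- Generation by three centralisers. -/
theorem gen_step {W U : Subgroup G} (hW : Odd (Nat.card W)) {s t : G} (hs : s * s = 1) (ht : t * t = 1)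
    (hst : Commute s t) (hsW : ∀ u ∈ W, s * u * s ∈ W) (htW : ∀ u ∈ W, t * u * t ∈ W)
    (h1 : ∀ u ∈ W, Commute u s → u ∈ U) (h2 : ∀ u ∈ W, Commute u t → u ∈ U)
    (h3 : ∀ u ∈ W, Commute u (s * t) → u ∈ U) : W ≤ U := by
  set cs : G → G := fun u => s * u * s with hcs
  set ct : G → G := fun u => t * u * t with hct
  have hsinv : s⁻¹ = s := inv_eq_of_mul_eq_one_left hs
  have htinv : t⁻¹ = t := inv_eq_of_mul_eq_one_left ht
  have s2 : ∀ u, s * (s * u) = u := fun u => by rw [← mul_assoc, hs, one_mul]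
  have t2 : ∀ u, t * (t * u) = u := fun u => by rw [← mul_assoc, ht, one_mul]
  have cs_mul : ∀ u v, cs (u * v) = cs u * cs v := fun u v => by
    simp only [hcs, mul_assoc, s2]
  have ct_mul : ∀ u v, ct (u * v) = ct u * ct v := fun u v => by
    simp only [hct, mul_assoc, t2]
  have cs_cs : ∀ u, cs (cs u) = u := fun u => by
    simp only [hcs, mul_assoc, s2, hs, mul_one]
  have ct_ct : ∀ u, ct (ct u) = u := fun u => by
    simp only [hct, mul_assoc, t2, ht, mul_one]
  have cs_inv : ∀ u, cs u⁻¹ = (cs u)⁻¹ := fun u => by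
    simp only [hcs, mul_inv_rev, hsinv, mul_assoc]
  have ct_inv : ∀ u, ct u⁻¹ = (ct u)⁻¹ := fun u => by
    simp only [hct, mul_inv_rev, htinv, mul_assoc]
  have comm_cs : ∀ u, cs (ct u) = ct (cs u) := fun u => by
    show s * (t * u * t) * s = t * (s * u * s) * t
    calc s * (t * u * t) * s = (s * t) * u * (t * s) := by group
      _ = (t * s) * u * (s * t) := by rw [hst.eq]
      _ = _ := by group
  have fix_s : ∀ u, cs u = u → Commute u s := fun u h => by
    show u * s = s * u
    conv_lhs => rw [← h]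
    simp only [hcs, mul_assoc, hs, mul_one]
  have fix_t : ∀ u, ct u = u → Commute u t := fun u h => by
    show u * t = t * u
    conv_lhs => rw [← h]
    simp only [hct, mul_assoc, ht, mul_one]
  have cs_pow : ∀ u (n : ℕ), cs (u ^ n) = cs u ^ n := fun u n => by
    induction n with
    | zero => simp [hcs, hs]
    | succ n ih => rw [pow_succ, cs_mul, ih, pow_succ]
  have ct_pow : ∀ u (n : ℕ), ct (u ^ n) = ct u ^ n := fun u n => by
    induction n with
    | zero => simp [hct, ht]
    | succ n ih => rw [pow_succ, ct_mul, ih, pow_succ]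
  -- the part inverted by `s`
  have inv_part : ∀ i ∈ W, cs i = i⁻¹ → i ∈ U := by
    intro i hi hinv
    set j := ct i with hj
    have hjW : j ∈ W := htW i hi
    have hsj : cs j = j⁻¹ := by rw [hj, comm_cs, hinv, ct_inv]
    set r := oddRoot W i with hr
    have hrW : r ∈ W := oddRoot_mem hi
    have hrr : r * r = i := oddRoot_sq hW hi
    have hsr : cs r = r⁻¹ := by rw [hr, oddRoot, cs_pow, hinv, inv_pow]
    set q := r⁻¹ * j * r⁻¹ with hq
    have hqW : q ∈ W := mul_mem (mul_mem (inv_mem hrW) hjW) (inv_mem hrW)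
    set b := r * oddRoot W q * r with hb
    have hbW : b ∈ W := mul_mem (mul_mem hrW (oddRoot_mem hqW)) hrW
    have hbi : b * i⁻¹ * b = j := by
      rw [hb, ← hrr]
      calc r * oddRoot W q * r * (r * r)⁻¹ * (r * oddRoot W q * r)
          = r * (oddRoot W q * oddRoot W q) * r := by group
        _ = j := by rw [oddRoot_sq hW hqW, hq]; group
    have uniq : ∀ b' ∈ W, b' * i⁻¹ * b' = j → b' = b := by
      intro b' hb' e
      have e1 : (r⁻¹ * b' * r⁻¹) * (r⁻¹ * b' * r⁻¹) = (r⁻¹ * b * r⁻¹) * (r⁻¹ * b * r⁻¹) := by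
        have key : ∀ c : G, (r⁻¹ * c * r⁻¹) * (r⁻¹ * c * r⁻¹) = r⁻¹ * (c * (r * r)⁻¹ * c) * r⁻¹ :=
          fun c => by group
        rw [key, key, hrr, e, hbi]
      have e2 := sq_inj hW (mul_mem (mul_mem (inv_mem hrW) hb') (inv_mem hrW))
        (mul_mem (mul_mem (inv_mem hrW) hbW) (inv_mem hrW)) e1
      exact mul_left_cancel (mul_right_cancel e2)
    have htb : ct b = b := by
      refine uniq _ (htW b hbW) ?_
      have h4 : ct b * j⁻¹ * ct b = i := by
        have := congrArg ct hbi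
        rwa [ct_mul, ct_mul, ct_inv, ← hj, hj, ct_ct] at this
      calc ct b * i⁻¹ * ct b = ct b * (ct b * j⁻¹ * ct b)⁻¹ * ct b := by rw [h4]
        _ = j := by group
    have hsb : cs b = b⁻¹ := by
      have h5 : cs q = r * j⁻¹ * r := by rw [hq, cs_mul, cs_mul, cs_inv, hsr, inv_inv, hsj]
      have h6 : cs q = q⁻¹ := by rw [h5, hq]; group
      rw [hb, cs_mul, cs_mul, hsr, oddRoot, cs_pow, h6, inv_pow]
      group
    set β := oddRoot W b with hβ
    have hβW : β ∈ W := oddRoot_mem hbW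
    have hββ : β * β = b := oddRoot_sq hW hbW
    have hsβ : cs β = β⁻¹ := by rw [hβ, oddRoot, cs_pow, hsb, inv_pow]
    have htβ : ct β = β := by rw [hβ, oddRoot, ct_pow, htb]
    set c := β⁻¹ * i * β⁻¹ with hc
    have hcW : c ∈ W := mul_mem (mul_mem (inv_mem hβW) hi) (inv_mem hβW)
    have hsc : cs c = β * i⁻¹ * β := by rw [hc, cs_mul, cs_mul, cs_inv, hsβ, inv_inv, hinv]
    have htc : ct c = β⁻¹ * j * β⁻¹ := by rw [hc, ct_mul, ct_mul, ct_inv, htβ, ← hj]
    have hjb : j = β * β * i⁻¹ * (β * β) := by rw [hββ, hbi]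
    have htc' : ct c = cs c := by rw [htc, hsc, hjb]; group
    have hcU : c ∈ U := by
      refine h3 c hcW ?_
      have h7 : s * t * c = c * (s * t) := by
        have e : t * c * t = s * c * s := htc'
        have e' : c = t * (s * c * s) * t := by rw [← e]; simp only [mul_assoc, t2, ht, mul_one]
        calc s * t * c = s * t * (t * (s * c * s) * t) := by rw [← e']
          _ = s * (t * t) * s * c * (s * t) := by group
          _ = c * (s * t) := by rw [ht, mul_one, hs, one_mul]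
      exact h7.symm
    have hbU : β ∈ U := h2 β hβW (fix_t β htβ)
    have : i = β * c * β := by rw [hc]; group
    rw [this]
    exact mul_mem (mul_mem hbU hcU) hbU
  intro u hu
  set v := u⁻¹ * cs u with hv
  have hvW : v ∈ W := mul_mem (inv_mem hu) (hsW u hu)
  have hsv : cs v = v⁻¹ := by
    show s * (u⁻¹ * (s * u * s)) * s = (u⁻¹ * (s * u * s))⁻¹
    simp only [mul_inv_rev, hsinv, inv_inv, mul_assoc, hs, mul_one]
  set i := (oddRoot W v)⁻¹ with hi
  have hiW : i ∈ W := inv_mem (oddRoot_mem hvW)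
  have hsi : cs i = i⁻¹ := by rw [hi, cs_inv, oddRoot, cs_pow, hsv, inv_pow]
  have hii : i⁻¹ * i⁻¹ = v := by rw [hi, inv_inv]; exact oddRoot_sq hW hvW
  have ha : cs (u * i⁻¹) = u * i⁻¹ := by
    rw [cs_mul, cs_inv, hsi, inv_inv, show cs u = u * v by rw [hv, mul_inv_cancel_left], ← hii]
    group
  have h8 := mul_mem (h1 (u * i⁻¹) (mul_mem hu (inv_mem hiW)) (fix_s _ ha)) (inv_part i hiW hsi)
  rwa [inv_mul_cancel_right] at h8

/-- A chain of involutions with relatively odd product pushes the subgroup into `U`. -/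
theorem odd_chain {W U : Subgroup G} (hW : Odd (Nat.card W)) {x : G} (hx : x * x = 1)
    (hxW : ∀ u ∈ W, x * u * x ∈ W) (hxU : ∀ u ∈ W, Commute u x → u ∈ U) (L : List G)
    (hL : ∀ r ∈ L, r * r = 1 ∧ Commute x r ∧ (∀ u ∈ W, r * u * r ∈ W) ∧ (∀ u ∈ W, Commute u r → u ∈ U) ∧
      ∀ r' ∈ L, Commute r r')
    (hlast : ∀ u ∈ W, (∀ r ∈ L, Commute u (x * r)) → u ∈ U) : W ≤ U := by
  suffices key : ∀ L₁ L₂ : List G, (∀ r, r ∈ L ↔ r ∈ L₁ ∨ r ∈ L₂) →
      W ⊓ centralizer ((fun r => x * r) '' {r | r ∈ L₂}) ≤ U by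
    intro u hu
    refine key L [] (by simp) ⟨hu, mem_centralizer_iff.2 ?_⟩
    rintro _ ⟨r, hr, rfl⟩
    simp at hr
  intro L₁
  induction L₁ with
  | nil =>
    rintro L₂ e u ⟨hu, hc⟩
    refine hlast u hu fun r hr => ?_
    replace hc := mem_centralizer_iff.1 hc
    exact (hc (x * r) ⟨r, by simpa using (e r).1 hr, rfl⟩).symm
  | cons r₀ L₁ ih =>
    intro L₂ e
    set V := W ⊓ centralizer ((fun r => x * r) '' {r | r ∈ L₂}) with hV
    have hVW : V ≤ W := inf_le_left
    have hVodd : Odd (Nat.card V) := hW.of_dvd_nat (card_dvd_of_le hVW)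
    have hinvar : ∀ s, s * s = 1 → (∀ u ∈ W, s * u * s ∈ W) → (∀ r ∈ L₂, Commute s (x * r)) →
        ∀ u ∈ V, s * u * s ∈ V := by
      rintro s hs2 hsW hsc u ⟨hu, hc⟩
      refine ⟨hsW u hu, mem_centralizer_iff.2 ?_⟩
      replace hc := mem_centralizer_iff.1 hc
      rintro _ ⟨r, hr, rfl⟩
      have h1 : Commute (x * r) u := hc _ ⟨r, hr, rfl⟩
      exact (((hsc r hr).symm.mul_right h1).mul_right (hsc r hr).symm).eq
    have hr₀ : r₀ ∈ L := (e r₀).2 (Or.inl List.mem_cons_self)
    have hin : ∀ r ∈ L₂, r ∈ L := fun r hr => (e r).2 (Or.inr hr)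
    obtain ⟨hr2, hxr, hrW, hrU, hrc⟩ := hL r₀ hr₀
    refine gen_step hVodd hx hr2 hxr ?_ ?_ (fun u hu => hxU u (hVW hu)) (fun u hu => hrU u (hVW hu)) ?_
    · refine hinvar x hx hxW fun r hr => ?_
      exact (Commute.refl x).mul_right (hL r (hin r hr)).2.1
    · refine hinvar r₀ hr2 hrW fun r hr => ?_
      exact hxr.symm.mul_right (hrc r (hin r hr))
    · rintro u ⟨hu, hc⟩ hur
      refine ih (r₀ :: L₂) (fun r => ?_) ⟨hu, ?_⟩
      · rw [e r, List.mem_cons, List.mem_cons]; tauto
      · refine mem_centralizer_iff.2 ?_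
        replace hc := mem_centralizer_iff.1 hc
        rintro _ ⟨r, hr, rfl⟩
        rcases List.mem_cons.1 hr with rfl | hr
        · exact hur.eq.symm
        · exact hc _ ⟨r, hr, rfl⟩

end CfsgLib.ThreeTrans.FiCent
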