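import Mathlib
import Cfsg.Agent.Lib.ThreeTrans.FiCent.BaseCalc

/-!
The orbit of a vector under a group of linear maps of the space of dimension ten over two elements,
when its stabiliser has order 20160, one orbit of length one, two of 21, two of 210 and one of 560: it is
the point with one of the orbits of length 21.
-/

set_option autoImplicit false
set_option linter.constructorNameAsVariable false

namespace CfsgLib.ThreeTrans.FiCent.Base

open CfsgLib.Presented.Fi22Pts (bit bit_eq)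

/-- the sum of two vectors -/
def vx (u v : Fin 1024) : Fin 1024 := ⟨(u : ℕ) ^^^ (v : ℕ), Nat.xor_lt_two_pow (n := 10) u.2 v.2⟩

theorem vx_val (u v : Fin 1024) : (vx u v : ℕ) = (u : ℕ) ^^^ (v : ℕ) := rfl

theorem vx_comm (u v : Fin 1024) : vx u v = vx v u := Fin.ext (Nat.xor_comm _ _)

theorem vx_assoc (u v w : Fin 1024) : vx (vx u v) w = vx u (vx v w) := Fin.ext (Nat.xor_assoc _ _ _)

theorem vx_self (u : Fin 1024) : vx u u = 0 := Fin.ext (Nat.xor_self _)

theorem vx_zero (u : Fin 1024) : vx u 0 = u := Fin.ext (Nat.xor_zero _)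

theorem zero_vx (u : Fin 1024) : vx 0 u = u := by rw [vx_comm, vx_zero]

/-- additive permutations -/
def Additive (g : Equiv.Perm (Fin 1024)) : Prop := ∀ u v, g (vx u v) = vx (g u) (g v)

theorem Additive.map_zero {g : Equiv.Perm (Fin 1024)} (h : Additive g) : g 0 = 0 := by
  have := h 0 0
  rwa [vx_self, vx_self] at this

/-- the fixed vectors -/
def fixedSet (g : Equiv.Perm (Fin 1024)) : Finset (Fin 1024) := Finset.univ.filter fun u => g u = u

/-! ### The invariants -/

theorem countSum_eq (m v : ℕ) (n : ℕ) :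
    Nat.rec (motive := fun _ => ℕ) 0
      (fun u ih => cond (bit m u && bit m (Nat.xor u v)) (Nat.succ ih) ih) n =
    ((Finset.range n).filter fun u => m.testBit u = true ∧ m.testBit (u ^^^ v) = true).card := by
  induction n with
  | zero => simp
  | succ k ih =>
    have e : Nat.xor k v = k ^^^ v := rfl
    rw [Finset.range_add_one, Finset.filter_insert]
    show cond (bit m k && bit m (Nat.xor k v)) _ _ = _
    rw [ih, bit_eq, bit_eq, e]
    cases h1 : m.testBit k <;> cases h2 : m.testBit (k ^^^ v) <;> simp [h1, h2]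

theorem count_fin (n : ℕ) (p : ℕ → Prop) [DecidablePred p] :
    ((Finset.range n).filter p).card = (Finset.univ.filter fun u : Fin n => p u).card := by
  rw [← Finset.card_image_of_injective (Finset.univ.filter fun u : Fin n => p u) Fin.val_injective]
  congr 1
  ext u
  simp only [Finset.mem_filter, Finset.mem_range, Finset.mem_image, Finset.mem_univ, true_and]
  exact ⟨fun ⟨h, h'⟩ => ⟨⟨u, h⟩, h', rfl⟩, fun ⟨x, hx, e⟩ => e ▸ ⟨x.2, hx⟩⟩

theorem countSum_spec (m : ℕ) (v : Fin 1024) : countSum m v =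
    (Finset.univ.filter fun u : Fin 1024 =>
      m.testBit (u : ℕ) = true ∧ m.testBit (vx u v : ℕ) = true).card := by
  unfold countSum
  exact (countSum_eq m v 1024).trans (count_fin 1024 fun u => m.testBit u = true ∧ m.testBit (u ^^^ v) = true)

theorem mem_others {m v x : ℕ} : x ∈ others m v ↔ x < 1024 ∧ m.testBit x = true ∧ x ≠ v := by
  have hb : Nat.beq x v = false ↔ x ≠ v :=
    ⟨Nat.ne_of_beq_eq_false, fun h => Bool.eq_false_iff.2 fun k => h (Nat.eq_of_beq_eq_true k)⟩
  simp [others, bit_eq, List.mem_filter, List.mem_range, hb]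

/-- no four further members of the twisted union have the distinguished vector as sum -/
theorem twisted_no_four {x y z w : ℕ} (hx : x ∈ others (unionMask 2) 1) (hy : y ∈ others (unionMask 2) 1)
    (hz : z ∈ others (unionMask 2) 1) (hw : w ∈ others (unionMask 2) 1) (hxy : x ≠ y) (hxz : x ≠ z)
    (hyz : y ≠ z) (hwx : w ≠ x) (hwy : w ≠ y) (hwz : w ≠ z) : w ≠ x ^^^ y ^^^ z ^^^ 1 := by
  intro e
  have h := List.all_eq_true.1 (List.all_eq_true.1 (List.all_eq_true.1 twisted_base x hx) y hy) z hz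
  have hb : ∀ {a b : ℕ}, a ≠ b → Nat.beq a b = false := fun {a b} hab =>
    Bool.eq_false_iff.2 fun k => hab (Nat.eq_of_beq_eq_true k)
  rw [hb hxy, hb hxz, hb hyz] at h
  simp only [Bool.false_or, Bool.not_eq_true'] at h
  have := List.any_eq_false.1 h w hw
  rw [show Nat.xor (Nat.xor (Nat.xor x y) z) 1 = x ^^^ y ^^^ z ^^^ 1 from rfl, ← e, Nat.beq_refl,
    hb hwx, hb hwy, hb hwz] at this
  exact this rfl

/-! ### The space as a group -/

/-- The vectors, written as a group. -/
def VG : Type := Fin 1024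

instance : Group VG where
  mul := vx
  one := (0 : Fin 1024)
  inv := id
  mul_assoc := vx_assoc
  one_mul := zero_vx
  mul_one := vx_zero
  inv_mul_cancel := vx_self

theorem fixed_card_two_pow {g : Equiv.Perm (Fin 1024)} (h : Additive g) :
    ∃ j, (fixedSet g).card = 2 ^ j := by
  let S : Subgroup VG :=
    { carrier := {u : Fin 1024 | g u = u}
      one_mem' := h.map_zero
      mul_mem' := fun {u v} (hu : g u = u) (hv : g v = v) => (h u v).trans (congrArg₂ vx hu hv)
      inv_mem' := fun {u} hu => hu }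
  have e : Nat.card S = (fixedSet g).card := by
    rw [← Nat.card_eq_finsetCard (fixedSet g)]
    exact Nat.card_congr
      { toFun := fun u => ⟨(u.1 : Fin 1024), Finset.mem_filter.2 ⟨Finset.mem_univ _, u.2⟩⟩
        invFun := fun u => ⟨(u.1 : Fin 1024), (Finset.mem_filter.1 u.2).2⟩
        left_inv := fun _ => rfl
        right_inv := fun _ => rfl }
  have hd := Subgroup.card_subgroup_dvd_card S
  rw [e, show Nat.card VG = 2 ^ 10 from Nat.card_fin 1024] at hd
  obtain ⟨j, -, hj⟩ := (Nat.dvd_prime_pow Nat.prime_two).1 hd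
  exact ⟨j, hj⟩

/-! ### No transitive group on the non-zero vectors -/

section Sylow

variable {Γ M : Subgroup (Equiv.Perm (Fin 1024))} (hadd : ∀ g ∈ Γ, Additive g)
  (hM : ∀ g, g ∈ M ↔ g ∈ Γ ∧ g 1 = 1) (hcard : Nat.card M = 20160)
  (hinv : ∀ g ∈ M, g * g = 1 → g ≠ 1 → 32 < (fixedSet g).card)
  (htr : ∀ v : Fin 1024, v ≠ 0 → ∃ g ∈ Γ, g 1 = v)

include hadd hM hcard hinv htr

theorem card_of_transitive : Nat.card Γ = 1023 * 20160 := by
  classical
  have horb : MulAction.orbit Γ (1 : Fin 1024) = {v | v ≠ 0} := by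
    ext v
    constructor
    · rintro ⟨g, rfl⟩ h
      have h' : (g : Equiv.Perm (Fin 1024)) 1 = (g : Equiv.Perm (Fin 1024)) 0 := by
        rw [(hadd g g.2).map_zero]; exact h
      exact absurd ((g : Equiv.Perm (Fin 1024)).injective h') (by decide)
    · intro hv
      obtain ⟨g, hg, hgv⟩ := htr v hv
      exact ⟨⟨g, hg⟩, hgv⟩
  rw [← hcard, ← Nat.card_congr (MulAction.orbitProdStabilizerEquivGroup Γ (1 : Fin 1024)), Nat.card_prod,
    horb, show Nat.card {v : Fin 1024 | v ≠ 0} = 1023 by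
      rw [Nat.card_coe_set_eq, show {v : Fin 1024 | v ≠ 0} = ({0} : Set (Fin 1024))ᶜ from rfl,
        Set.ncard_compl, Set.ncard_singleton, Nat.card_fin]]
  congr 1
  exact Nat.card_congr
    { toFun := fun g => ⟨(g.1 : Equiv.Perm (Fin 1024)), (hM _).2 ⟨g.1.2, g.2⟩⟩
      invFun := fun g => ⟨⟨(g : Equiv.Perm (Fin 1024)), ((hM _).1 g.2).1⟩, ((hM _).1 g.2).2⟩
      left_inv := fun _ => rfl
      right_inv := fun _ => rfl }

theorem eleven_moves {t : Γ} (ht : orderOf t = 11) {u : Fin 1024} (hu : u ≠ 0) :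
    (t : Equiv.Perm (Fin 1024)) u ≠ u := fun e => by
  obtain ⟨g, hg, hgu⟩ := htr u hu
  set k : Γ := MulAut.conj (⟨g, hg⟩ : Γ)⁻¹ t with hk
  have hk1 : (k : Equiv.Perm (Fin 1024)) 1 = 1 := by
    rw [hk, MulAut.conj_apply, inv_inv]
    show g⁻¹ ((t : Equiv.Perm (Fin 1024)) (g 1)) = 1
    rw [hgu, e, ← hgu]
    exact g.symm_apply_apply 1
  have := orderOf_dvd_natCard (⟨(k : Equiv.Perm (Fin 1024)), (hM _).2 ⟨k.2, hk1⟩⟩ : M)
  rw [← Subgroup.orderOf_coe, Subgroup.coe_mk, Subgroup.orderOf_coe, hk, MulEquiv.orderOf_eq, ht,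
    hcard] at this
  norm_num at this

theorem free_centralizer {t h : Γ} (ht : orderOf t = 11) (hh : h * t = t * h) {v : Fin 1024} (hv : v ≠ 0)
    (hv' : (h : Equiv.Perm (Fin 1024)) v = v) : h = 1 := by
  classical
  set tp := (t : Equiv.Perm (Fin 1024)) with htp
  set hp := (h : Equiv.Perm (Fin 1024)) with hhp
  have hcom : ∀ u, hp (tp u) = tp (hp u) := fun u =>
    congrArg (fun g : Γ => (g : Equiv.Perm (Fin 1024)) u) hh
  have t0 : tp 0 = 0 := (hadd _ t.2).map_zero
  let S : Finset (Fin 1024) := fixedSet hp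
  have hS : ∀ u, u ∈ S ↔ hp u = u := fun u => by simp [S, fixedSet]
  have hst : ∀ u, u ∈ S.erase 0 ↔ tp u ∈ S.erase 0 := fun u => by
    simp only [Finset.mem_erase, hS, hcom, tp.injective.eq_iff, ne_eq]
    rw [show (tp u = 0 ↔ u = 0) from ⟨fun e => tp.injective (e.trans t0.symm), fun e => e ▸ t0⟩]
  let σ : Equiv.Perm {u // u ∈ S.erase 0} := tp.subtypePerm (fun u => (hst u).symm)
  have hσ : σ ^ 11 = 1 := by
    ext ⟨u, hu⟩
    rw [Equiv.Perm.subtypePerm_pow]
    show ((tp ^ 11) u : ℕ) = (u : ℕ)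
    rw [htp, ← SubgroupClass.coe_pow, show t ^ 11 = 1 by rw [← ht]; exact pow_orderOf_eq_one t]
    rfl
  have hdiv : 11 ∣ (S.erase 0).card := by
    have : Fact (Nat.Prime 11) := ⟨by norm_num⟩
    have h := Equiv.Perm.card_compl_support_modEq (p := 11) (n := 1) (σ := σ) (by rw [pow_one]; exact hσ)
    have hsupp : σ.supportᶜ = ∅ := by
      rw [Finset.eq_empty_iff_forall_notMem]
      rintro ⟨u, hu⟩ hu'
      rw [Finset.mem_compl, Equiv.Perm.mem_support, not_not] at hu'
      exact eleven_moves hadd hM hcard hinv htr ht (Finset.mem_erase.1 hu).1 (congrArg Subtype.val hu')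
    rw [hsupp, Finset.card_empty, Fintype.card_coe] at h
    exact Nat.modEq_zero_iff_dvd.1 h.symm
  have h0S : (0 : Fin 1024) ∈ S := (hS 0).2 (hadd _ h.2).map_zero
  obtain ⟨j, hj⟩ := fixed_card_two_pow (hadd _ h.2)
  have h2 : 2 ≤ S.card := Finset.one_lt_card.2 ⟨0, h0S, v, (hS v).2 hv', Ne.symm hv⟩
  have hmod := Finset.card_erase_add_one h0S
  by_contra hne
  obtain ⟨x, hx⟩ : ∃ x, hp x ≠ x := by
    by_contra hall
    push Not at hall
    exact hne (Subtype.ext (Equiv.ext hall))
  have hlt : S.card < 1024 := lt_of_lt_of_eq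
    (Finset.card_lt_univ_of_notMem (x := x) (fun k => hx ((hS x).1 k))) (Fintype.card_fin 1024)
  rw [show S.card = 2 ^ j from hj] at hlt h2 hmod
  have hj10 : j < 10 := (Nat.pow_lt_pow_iff_right (by norm_num : 1 < 2)).1
    (lt_of_lt_of_eq hlt (by norm_num))
  obtain ⟨q, hq⟩ := hdiv
  interval_cases j <;> omega

theorem no_inverter {t g : Γ} (ht : orderOf t = 11) (hgg : g * g = 1) (hg1 : g ≠ 1)
    (hgt : g * t = t⁻¹ * g) : False := by
  classical
  set tp := (t : Equiv.Perm (Fin 1024)) with htp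
  set gp := (g : Equiv.Perm (Fin 1024)) with hgp
  have t0 : tp 0 = 0 := (hadd _ t.2).map_zero
  have g0 : gp 0 = 0 := (hadd _ g.2).map_zero
  have hg2 : gp * gp = 1 := congrArg Subtype.val hgg
  let F := fixedSet gp
  have hF : ∀ u, u ∈ F ↔ gp u = u := fun u => by simp [F, fixedSet]
  -- some non-zero fixed vector
  obtain ⟨v, hv, hgv⟩ : ∃ v, v ≠ 0 ∧ gp v = v := by
    have h := Equiv.Perm.card_compl_support_modEq (p := 2) (n := 1) (σ := gp) (by
      rw [pow_one, pow_two]; exact hg2)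
    rw [Fintype.card_fin] at h
    have he : gp.supportᶜ = F := by ext u; simp [hF]
    rw [he] at h
    have h0 : (0 : Fin 1024) ∈ F := (hF 0).2 g0
    have h2 : 1 < F.card := by
      have hp := Finset.card_pos.2 ⟨0, h0⟩
      have hm : F.card % 2 = 0 := h
      omega
    obtain ⟨v, hv, hne⟩ := Finset.exists_mem_ne h2 0
    exact ⟨v, hne, (hF v).1 hv⟩
  -- at least 64 fixed vectors
  have hbig : 32 < F.card := by
    obtain ⟨k, hk, hkv⟩ := htr v hv
    have hc1 : (k⁻¹ * gp * k) 1 = 1 := by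
      show k⁻¹ (gp (k 1)) = 1
      rw [hkv, hgv, ← hkv]
      exact k.symm_apply_apply 1
    have hlt := hinv (k⁻¹ * gp * k) ((hM _).2 ⟨mul_mem (mul_mem (inv_mem hk) g.2) hk, hc1⟩)
      (by rw [show k⁻¹ * gp * k * (k⁻¹ * gp * k) = k⁻¹ * (gp * gp) * k by group, hg2]; group)
      (fun e => hg1 (Subtype.ext (by
        show gp = 1
        rw [show gp = k * (k⁻¹ * gp * k) * k⁻¹ by group, e]; group)))
    have hcard' : (fixedSet (k⁻¹ * gp * k)).card ≤ F.card := by
      refine Finset.card_le_card_of_injOn k (fun u hu => ?_) k.injective.injOn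
      rw [Finset.mem_coe, fixedSet, Finset.mem_filter] at hu
      rw [Finset.mem_coe, hF]
      have := congrArg k hu.2
      simpa using this
    omega
  -- but at most 32
  have hgtp : ∀ w, gp (tp w) = tp.symm (gp w) := fun w =>
    congrArg (fun x : Γ => (x : Equiv.Perm (Fin 1024)) w) hgt
  have hinj : Set.InjOn (fun p : Fin 1024 × Fin 1024 => vx p.1 (tp p.2))
      (↑(F ×ˢ F) : Set (Fin 1024 × Fin 1024)) := by
    rintro ⟨u, w⟩ h1 ⟨u', w'⟩ h1' e
    simp only [Finset.coe_product, Set.mem_prod, Finset.mem_coe, hF] at h1 h1'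
    have e1 : vx u u' = tp (vx w w') := by
      have e' : vx u (tp w) = vx u' (tp w') := e
      calc vx u u' = vx (vx u (vx (tp w) (tp w))) u' := by rw [vx_self, vx_zero]
        _ = vx (vx u (tp w)) (vx (tp w) u') := by rw [← vx_assoc, vx_assoc (vx u (tp w))]
        _ = vx (vx u' (tp w')) (vx (tp w) u') := by rw [e']
        _ = vx (vx u' (tp w')) (vx u' (tp w)) := by rw [vx_comm (tp w) u']
        _ = vx (vx u' u') (vx (tp w') (tp w)) := by
          rw [vx_assoc u' (tp w'), ← vx_assoc (tp w') u', vx_comm (tp w') u', vx_assoc u' (tp w'), ← vx_assoc u']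
        _ = tp (vx w w') := by rw [vx_self, zero_vx, hadd _ t.2, vx_comm (tp w')]
    have hz : gp (vx w w') = vx w w' := by rw [hadd _ g.2, h1.2, h1'.2]
    have hy : gp (vx u u') = vx u u' := by rw [hadd _ g.2, h1.1, h1'.1]
    rw [e1, hgtp, hz, Equiv.symm_apply_eq] at hy
    have h11 : (tp ^ 11) (vx w w') = vx w w' := by
      rw [htp, ← SubgroupClass.coe_pow, show t ^ 11 = 1 by rw [← ht]; exact pow_orderOf_eq_one t]; rfl
    have h22 : ∀ n : ℕ, (tp ^ (2 * n)) (vx w w') = vx w w' := fun n => by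
      induction n with
      | zero => rfl
      | succ n ih =>
        rw [show 2 * (n + 1) = 2 + 2 * n by omega, pow_add, Equiv.Perm.mul_apply, ih, pow_two,
          Equiv.Perm.mul_apply, ← hy]
    have hfix : tp (vx w w') = vx w w' := by
      rw [show 11 = 1 + 2 * 5 from rfl, pow_add, Equiv.Perm.mul_apply, h22, pow_one] at h11
      exact h11
    have hw0 : vx w w' = 0 := by
      by_contra h0
      exact eleven_moves hadd hM hcard hinv htr ht h0 hfix
    have hu0 : vx u u' = 0 := by rw [e1, hw0, t0]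
    have heq : ∀ x y : Fin 1024, vx x y = 0 → x = y := fun x y hxy => by
      rw [← vx_zero x, ← vx_self y, ← vx_assoc, hxy, zero_vx]
    exact Prod.ext (heq u u' hu0) (heq w w' hw0)
  have := Finset.card_le_card_of_injOn (t := Finset.univ) _ (fun x _ => Finset.mem_univ _) hinj
  rw [Finset.card_product, Finset.card_univ, Fintype.card_fin] at this
  have := Nat.mul_le_mul (Nat.succ_le_of_lt hbig) (Nat.succ_le_of_lt hbig)
  omega

theorem not_transitive_all : False := by
  classical
  have : Fact (Nat.Prime 11) := ⟨by norm_num⟩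
  have hΓ := card_of_transitive hadd hM hcard hinv htr
  obtain ⟨t, ht⟩ := exists_prime_orderOf_dvd_card' (G := Γ) 11 (by rw [hΓ]; norm_num)
  let P : Sylow 11 Γ := Sylow.ofCard (Subgroup.zpowers t) (by
    rw [Nat.card_zpowers, ht, hΓ, show (1023 * 20160 : ℕ).factorization 11 = 1 by
      rw [show 1023 * 20160 = 11 ^ 1 * 1874880 by norm_num, Nat.factorization_mul (by norm_num) (by norm_num),
        Finsupp.add_apply, Nat.Prime.factorization_pow (by norm_num : Nat.Prime 11), Finsupp.single_eq_same,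
        Nat.factorization_eq_zero_of_not_dvd (by norm_num : ¬ 11 ∣ 1874880)], pow_one])
  set C := Subgroup.centralizer ({t} : Set Γ) with hC
  have htC : t ∈ C := Subgroup.mem_centralizer_singleton_iff.2 rfl
  have hfree : ∀ h ∈ C, ∀ v : Fin 1024, v ≠ 0 → (h : Equiv.Perm (Fin 1024)) v = v → h = 1 :=
    fun h hh v hv hv' => free_centralizer hadd hM hcard hinv htr ht
      (Subgroup.mem_centralizer_singleton_iff.1 hh) hv hv'
  have hcC : Nat.card C ∣ 1023 := by
    let X := {v : Fin 1024 // v ≠ 0}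
    letI : MulAction C X :=
      { smul := fun h v => ⟨((h : Γ) : Equiv.Perm (Fin 1024)) v, fun e =>
          v.2 (((h : Γ) : Equiv.Perm (Fin 1024)).injective (e.trans (hadd _ (h : Γ).2).map_zero.symm))⟩
        one_smul := fun v => rfl
        mul_smul := fun g h v => rfl }
    have hstab : ∀ x : X, MulAction.stabilizer C x = ⊥ := fun x => (Subgroup.eq_bot_iff_forall _).2 fun h hh =>
      Subtype.ext (hfree h h.2 x x.2 (congrArg Subtype.val hh))
    have e := Nat.card_congr (MulAction.selfEquivSigmaOrbitsQuotientStabilizer C X)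
    rw [Nat.card_sigma] at e
    simp only [hstab, ← Subgroup.index_eq_card, Subgroup.index_bot] at e
    rw [Finset.sum_const, smul_eq_mul, show Nat.card X = 1023 by
      rw [Nat.card_eq_fintype_card, Fintype.card_subtype_compl, Fintype.card_subtype_eq, Fintype.card_fin]] at e
    exact e ▸ dvd_mul_left _ _
  have h11C : 11 ∣ Nat.card C := ht ▸ Subgroup.orderOf_dvd_natCard C htC
  set N := Subgroup.normalizer ((Subgroup.zpowers t : Subgroup Γ) : Set Γ) with hN
  have hmemN : ∀ x, x ∈ N ↔ ∀ y, y ∈ Subgroup.zpowers t ↔ x * y * x⁻¹ ∈ Subgroup.zpowers t := fun x => by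
    rw [hN, Subgroup.mem_normalizer_iff]
  have hCN : C ≤ N := fun x hx => (hmemN x).2 fun y => by
    have hc : ∀ y ∈ Subgroup.zpowers t, x * y * x⁻¹ = y := by
      rintro _ ⟨k, rfl⟩
      exact mul_inv_eq_iff_eq_mul.2
        ((show Commute x t from Subgroup.mem_centralizer_singleton_iff.1 hx).zpow_right k).eq
    refine ⟨fun hy => (hc y hy).symm ▸ hy, fun hy => ?_⟩
    have h' := hc _ hy
    rwa [mul_left_cancel (mul_right_cancel h')] at hy
  let α : N →* MulAut (Subgroup.zpowers t) := Subgroup.normalizerMonoidHom (Subgroup.zpowers t)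
  have hker : α.ker = C.subgroupOf N := by
    rw [Subgroup.normalizerMonoidHom_ker]
    congr 1
    ext x
    rw [hC, Subgroup.mem_centralizer_iff, Subgroup.mem_centralizer_singleton_iff]
    refine ⟨fun h => (h t (Subgroup.mem_zpowers t)).symm, ?_⟩
    rintro h _ ⟨k, rfl⟩
    exact ((show Commute x t from h).zpow_right k).eq.symm
  have hrange : Nat.card α.range ∣ 10 := by
    have h := Subgroup.card_subgroup_dvd_card α.range
    rwa [IsCyclic.card_mulAut, Nat.card_zpowers, ht, Nat.totient_prime (by norm_num : Nat.Prime 11)] at h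
  have hNcard : Nat.card N = Nat.card C * Nat.card α.range := by
    rw [← Subgroup.card_mul_index α.ker, Subgroup.index_ker, hker,
      Nat.card_congr (Subgroup.subgroupOfEquivOfLe hCN).toEquiv]
  have hCodd : Odd (Nat.card C) := Odd.of_dvd_nat (by decide) hcC
  have hodd : ¬ 2 ∣ Nat.card α.range := by
    intro h2
    obtain ⟨β, hβ⟩ := exists_prime_orderOf_dvd_card' (G := α.range) 2 h2
    obtain ⟨n, hn⟩ := β.2
    have hn1 : (n : Γ) ∉ C := fun h => by
      have : α n = 1 := by rw [← MonoidHom.mem_ker, hker]; exact h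
      rw [hn] at this
      rw [show β = 1 from Subtype.ext this, orderOf_one] at hβ
      norm_num at hβ
    have hn2 : (n : Γ) * n ∈ C := by
      have : α (n * n) = 1 := by
        rw [map_mul, hn, ← Subgroup.coe_mul, ← pow_two, ← hβ, pow_orderOf_eq_one, Subgroup.coe_one]
      rw [← MonoidHom.mem_ker, hker] at this
      exact this
    obtain ⟨k, hk⟩ := ((hmemN (n : Γ)).1 n.2 t).1 (Subgroup.mem_zpowers t)
    replace hk : t ^ k = (n : Γ) * t * (n : Γ)⁻¹ := hk
    have hk2 : t ^ (k * k) = t := by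
      rw [zpow_mul, hk, conj_zpow, hk, show (n : Γ) * ((n : Γ) * t * (n : Γ)⁻¹) * (n : Γ)⁻¹ =
        ((n : Γ) * n) * t * ((n : Γ) * n)⁻¹ by group]
      exact mul_inv_eq_iff_eq_mul.2 (Subgroup.mem_centralizer_singleton_iff.1 hn2)
    have hinvn : (n : Γ) * t = t⁻¹ * n := by
      rw [← mul_inv_eq_iff_eq_mul, ← hk]
      have hd : ((11 : ℕ) : ℤ) ∣ (k - 1) * (k + 1) := by
        rw [← ht, orderOf_dvd_iff_zpow_eq_one, show (k - 1) * (k + 1) = k * k - 1 by ring, zpow_sub, hk2,
          zpow_one, mul_inv_cancel]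
      rcases (Int.prime_iff_natAbs_prime.2 (by norm_num : Nat.Prime ((11 : ℕ) : ℤ).natAbs)).dvd_or_dvd hd with e | e
      · refine absurd (Subgroup.mem_centralizer_singleton_iff.2 (mul_inv_eq_iff_eq_mul.1 ?_)) hn1
        rw [← hk]
        rw [← ht, orderOf_dvd_iff_zpow_eq_one, zpow_sub, zpow_one, mul_inv_eq_one] at e
        exact e
      · rw [← ht, orderOf_dvd_iff_zpow_eq_one, zpow_add, zpow_one] at e
        exact eq_inv_of_mul_eq_one_left e
    have hinv2 : (n : Γ) * t⁻¹ = t * n := by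
      calc (n : Γ) * t⁻¹ = t * (t⁻¹ * n) * t⁻¹ := by group
        _ = t * n := by rw [← hinvn]; group
    obtain ⟨m, hm⟩ := hCodd
    set g : Γ := ((n : Γ) * n) ^ m * n with hg
    have hgt : g * t = t⁻¹ * g := by
      have hc : Commute (((n : Γ) * n) ^ m) t :=
        (show Commute ((n : Γ) * n) t from Subgroup.mem_centralizer_singleton_iff.1 hn2).pow_left m
      rw [hg, mul_assoc, hinvn, ← mul_assoc, hc.inv_right.eq, mul_assoc]
    have hgg : g * g = 1 := by
      have e : g = (n : Γ) ^ (2 * m + 1) := by rw [hg, pow_succ, pow_mul, pow_two]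
      rw [e, ← pow_add, show (2 * m + 1) + (2 * m + 1) = 2 * Nat.card C by omega, pow_mul, pow_two]
      exact congrArg Subtype.val (pow_card_eq_one' (G := C) (x := ⟨_, hn2⟩))
    have hg1 : g ≠ 1 := fun e => by
      rw [e, one_mul, mul_one] at hgt
      have h2' : t ^ 2 = 1 := by rw [pow_two]; nth_rewrite 1 [hgt]; exact inv_mul_cancel t
      have := ht ▸ orderOf_dvd_of_pow_eq_one h2'
      norm_num at this
    exact no_inverter hadd hM hcard hinv htr ht hgg hg1 hgt
  obtain ⟨hc1, hm1⟩ : Nat.card C ∈ [11, 33, 341, 1023] ∧ Nat.card α.range ∈ [1, 5] := by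
    constructor
    · have hd : Nat.card C ∈ Nat.divisors 1023 := Nat.mem_divisors.2 ⟨hcC, by norm_num⟩
      rw [show Nat.divisors 1023 = {1, 3, 11, 31, 33, 93, 341, 1023} by decide +kernel] at hd
      simp only [Finset.mem_insert, Finset.mem_singleton] at hd
      rcases hd with e | e | e | e | e | e | e | e <;> rw [e] at h11C ⊢ <;> simp at h11C ⊢
    · have hd : Nat.card α.range ∈ Nat.divisors 10 := Nat.mem_divisors.2 ⟨hrange, by norm_num⟩
      rw [show Nat.divisors 10 = {1, 2, 5, 10} by decide +kernel] at hd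
      simp only [Finset.mem_insert, Finset.mem_singleton] at hd
      rcases hd with e | e | e | e <;> rw [e] at hodd ⊢ <;> simp at hodd ⊢
  have hsyl : N.index % 11 = 1 := by
    have h := card_sylow_modEq_one 11 Γ
    rwa [Nat.card_congr P.equivQuotientNormalizer, ← Subgroup.index_eq_card] at h
  have hidx : Nat.card C * Nat.card α.range * N.index = 1023 * 20160 := by
    rw [← hNcard, Subgroup.card_mul_index, hΓ]
  simp only [List.mem_cons, List.not_mem_nil, or_false] at hc1 hm1
  rcases hc1 with e | e | e | e <;> rcases hm1 with e' | e' <;> rw [e, e'] at hidx <;> omega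

end Sylow

/-! ### The orbit -/

theorem foldl_lor_testBit (v : ℕ) : ∀ (l : List ℕ) (m : ℕ), (l.foldl Nat.lor m).testBit v = true ↔
    m.testBit v = true ∨ ∃ x ∈ l, x.testBit v = true
  | [], m => by simp
  | x :: l, m => by
    rw [List.foldl_cons, foldl_lor_testBit v l, show Nat.lor m x = m ||| x from rfl, Nat.testBit_or]
    simp [or_assoc]

theorem union_testBit (r v : ℕ) : (unionMask r).testBit v = true ↔ (2 : ℕ).testBit v = true ∨
    ∃ i, i < 5 ∧ r.testBit i = true ∧ (orbMasks.getD (i + 1) 0).testBit v = true := by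
  have key : ∀ (l : List ℕ) (m : ℕ),
      (l.foldl (fun m i => cond (bit r i) (Nat.lor m (orbMasks.getD (i + 1) 0)) m) m).testBit v = true ↔
        m.testBit v = true ∨ ∃ i ∈ l, r.testBit i = true ∧ (orbMasks.getD (i + 1) 0).testBit v = true := by
    intro l
    induction l with
    | nil => intro m; simp
    | cons x l ih =>
      intro m
      rw [List.foldl_cons, ih, bit_eq]
      cases h : r.testBit x
      · simp [h]
      · simp only [cond_true, show ∀ a b : ℕ, Nat.lor a b = a ||| b from fun _ _ => rfl, Nat.testBit_or,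
          Bool.or_eq_true, List.exists_mem_cons_iff, h, true_and]
        exact or_assoc
  rw [unionMask, key]
  simp only [List.mem_range]

theorem testBit_pow_sub_two (n v : ℕ) (h0 : v ≠ 0) (hv : v < n) : ((2 : ℕ) ^ n - 2).testBit v = true := by
  rw [show (2 : ℕ) ^ n - 2 = 2 ^ n - (1 + 1) from rfl,
    Nat.testBit_two_pow_sub_succ (Nat.one_lt_two_pow (by omega))]
  obtain ⟨k, rfl⟩ := Nat.exists_eq_succ_of_ne_zero h0
  simp [Nat.testBit_succ, hv]

theorem mem_mask {v : ℕ} (h0 : v ≠ 0) (hv : v < 1024) :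
    ∃ j, j < 6 ∧ (orbMasks.getD j 0).testBit v = true := by
  have h : (orbMasks.foldl Nat.lor 0).testBit v = true := by
    exact reps_ok.2.2 ▸ testBit_pow_sub_two 1024 v h0 hv
  rcases (foldl_lor_testBit v _ 0).1 h with h | ⟨x, hx, hxv⟩
  · simp at h
  · obtain ⟨j, hj, rfl⟩ := List.mem_iff_getElem.1 hx
    exact ⟨j, hj, by rwa [List.getD_eq_getElem]⟩

theorem countSum_map {Γ : Subgroup (Equiv.Perm (Fin 1024))} (hadd : ∀ g ∈ Γ, Additive g) {S : Set (Fin 1024)}
    {m : ℕ} (hm : ∀ v : Fin 1024, v ∈ S ↔ m.testBit (v : ℕ) = true) (hΓS : ∀ g ∈ Γ, ∀ v ∈ S, g v ∈ S)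
    {g : Equiv.Perm (Fin 1024)} (hg : g ∈ Γ) (v : Fin 1024) :
    countSum m (g v : ℕ) = countSum m (v : ℕ) := by
  rw [countSum_spec, countSum_spec]
  refine (Finset.card_equiv g fun u => ?_).symm
  simp only [Finset.mem_filter, Finset.mem_univ, true_and, ← hadd g hg u v, ← hm]
  exact ⟨fun h => ⟨hΓS g hg _ h.1, hΓS g hg _ h.2⟩, fun h => ⟨by
    simpa using hΓS g⁻¹ (inv_mem hg) _ h.1, by simpa using hΓS g⁻¹ (inv_mem hg) _ h.2⟩⟩

/-- The orbit is the point with the first orbit of length 21. -/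
theorem orbit_eq_base {Γ M : Subgroup (Equiv.Perm (Fin 1024))} (hadd : ∀ g ∈ Γ, Additive g)
    (hM : ∀ g, g ∈ M ↔ g ∈ Γ ∧ g 1 = 1) (hcard : Nat.card M = 20160)
    (hinv : ∀ g ∈ M, g * g = 1 → g ≠ 1 → 32 < (fixedSet g).card)
    (hMorb : ∀ j, j < 6 → ∀ u v : Fin 1024, (u : ℕ) = orbReps.getD j 0 →
      (orbMasks.getD j 0).testBit (v : ℕ) = true → ∃ g ∈ M, g u = v)
    {S : Set (Fin 1024)} (h1 : (1 : Fin 1024) ∈ S) (h0 : (0 : Fin 1024) ∉ S)
    (hΓS : ∀ g ∈ Γ, ∀ v ∈ S, g v ∈ S) (htrS : ∀ v ∈ S, ∃ g ∈ Γ, g 1 = v)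
    (hne : ∃ v ∈ S, v ≠ 1) (v : Fin 1024) : v ∈ S ↔ (unionMask 1).testBit (v : ℕ) = true := by
  classical
  have hrep : ∀ j, j < 6 → orbReps.getD j 0 < 1024 := by rw [reps_ok.1]; decide
  obtain ⟨r, hr, hbits⟩ := (by decide +kernel : ∀ f : Fin 5 → Bool, ∃ r, r < 32 ∧ ∀ i : Fin 5,
      Nat.testBit r i = f i) (fun i => decide ((⟨orbReps.getD (i + 1) 0, hrep _ (by omega)⟩ : Fin 1024) ∈ S))
  have hS : ∀ v : Fin 1024, v ∈ S ↔ (unionMask r).testBit (v : ℕ) = true := by
    intro v
    rw [union_testBit]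
    have hMS : ∀ j (hj : j < 6), (orbMasks.getD j 0).testBit (v : ℕ) = true →
        (v ∈ S ↔ (⟨orbReps.getD j 0, hrep j hj⟩ : Fin 1024) ∈ S) := by
      intro j hj hv
      obtain ⟨g, hg, hgv⟩ := hMorb j hj ⟨_, hrep j hj⟩ v rfl hv
      have hgΓ := ((hM g).1 hg).1
      exact ⟨fun h => by simpa [← hgv] using hΓS g⁻¹ (inv_mem hgΓ) v h, fun h => hgv ▸ hΓS g hgΓ _ h⟩
    constructor
    · intro hv
      obtain ⟨j, hj, hjv⟩ := mem_mask (v := v) (fun e => h0 ((Fin.ext e : v = 0) ▸ hv)) v.2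
      obtain _ | i := j
      · exact Or.inl (by rwa [reps_ok.2.1] at hjv)
      · refine Or.inr ⟨i, by omega, ?_, hjv⟩
        rw [hbits ⟨i, by omega⟩, decide_eq_true_eq]
        exact (hMS _ hj hjv).1 hv
    · rintro (h | ⟨i, hi, hir, hiv⟩)
      · rw [show (2 : ℕ) = 2 ^ 1 from rfl, Nat.testBit_two_pow, decide_eq_true_eq] at h
        rwa [show v = 1 from Fin.ext h.symm]
      · rw [hbits ⟨i, hi⟩, decide_eq_true_eq] at hir
        exact (hMS _ (by omega) hiv).2 hir
  suffices r = 1 by rw [hS, this]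
  by_contra hr1
  rcases lt_or_ge r 31 with hr31 | hr31
  · rcases eq_or_ne r 0 with e | hr0
    · subst e
      obtain ⟨w, hw, hw1⟩ := hne
      rw [hS, union_testBit] at hw
      rcases hw with h | ⟨i, -, hi, -⟩
      · rw [show (2 : ℕ) = 2 ^ 1 from rfl, Nat.testBit_two_pow, decide_eq_true_eq] at h
        exact hw1 (Fin.ext h.symm)
      · simp at hi
    rcases eq_or_ne r 2 with e | hr2
    · subst e
      obtain ⟨b3, b5, b65, b932, b995, bsum⟩ := twisted_other
      simp only [bit_eq] at b3 b5 b65 b932 b995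
      obtain ⟨g, hg, hg3⟩ := htrS 3 ((hS 3).2 b3)
      have pre : ∀ a : Fin 1024, (unionMask 2).testBit (a : ℕ) = true → a ≠ 3 →
          ((g⁻¹ a : Fin 1024) : ℕ) ∈ others (unionMask 2) 1 := fun a ha ha3 => by
        refine mem_others.2 ⟨(g⁻¹ a).2, (hS _).1 (hΓS g⁻¹ (inv_mem hg) a ((hS a).2 ha)), fun e => ha3 ?_⟩
        rw [← hg3, ← show g⁻¹ a = 1 from Fin.ext e]
        simp
      have hd : ∀ a b : Fin 1024, a ≠ b → ((g⁻¹ a : Fin 1024) : ℕ) ≠ ((g⁻¹ b : Fin 1024) : ℕ) := fun a b h e =>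
        h (g⁻¹.injective (Fin.ext e))
      refine twisted_no_four (pre 5 b5 (by decide)) (pre 65 b65 (by decide)) (pre 932 b932 (by decide))
        (pre 995 b995 (by decide)) (hd _ _ (by decide)) (hd _ _ (by decide)) (hd _ _ (by decide))
        (hd _ _ (by decide)) (hd _ _ (by decide)) (hd _ _ (by decide)) ?_
      have hs : vx (vx (vx (g⁻¹ 5) (g⁻¹ 65)) (g⁻¹ 932)) (g⁻¹ 995) = 1 := by
        have hi := hadd g⁻¹ (inv_mem hg)
        rw [← hi, ← hi, ← hi, show vx (vx (vx 5 65) 932) 995 = (3 : Fin 1024) from Fin.ext bsum, ← hg3]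
        simp
      have hw : g⁻¹ 995 = vx (vx (vx (g⁻¹ 5) (g⁻¹ 65)) (g⁻¹ 932)) 1 := by
        rw [← hs, ← vx_assoc (vx (vx (g⁻¹ 5) (g⁻¹ 65)) (g⁻¹ 932)), vx_self, zero_vx]
      exact congrArg Fin.val hw
    · have hmem : r ∈ (List.range 31).filter fun r => !Nat.beq r 1 && !Nat.beq r 2 && !Nat.beq r 0 := by
        have hb : ∀ {a b : ℕ}, a ≠ b → Nat.beq a b = false := fun {a b} hab =>
          Bool.eq_false_iff.2 fun k => hab (Nat.eq_of_beq_eq_true k)
        simp [List.mem_filter, hr31, hb hr1, hb hr2, hb hr0]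
      obtain ⟨w, hwm, hw⟩ := List.any_eq_true.1 (List.all_eq_true.1 unions_differ r hmem)
      rw [Bool.and_eq_true, bit_eq, Bool.not_eq_true'] at hw
      have hwlt : w < 1024 := by
        rw [reps_ok.1] at hwm
        simp at hwm
        omega
      obtain ⟨g, hg, hgw⟩ := htrS ⟨w, hwlt⟩ ((hS _).2 hw.1)
      have := countSum_map hadd hS hΓS hg 1
      rw [hgw] at this
      rw [show countSum (unionMask r) w = countSum (unionMask r) 1 from this, Nat.beq_refl] at hw
      exact absurd hw.2 (by simp)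
  · obtain rfl : r = 31 := by omega
    refine not_transitive_all hadd hM hcard hinv fun w hw => htrS w ((hS w).2 ?_)
    obtain ⟨j, hj, hjv⟩ := mem_mask (v := w) (fun e => hw (Fin.ext e)) w.2
    rw [union_testBit]
    obtain _ | i := j
    · exact Or.inl (by rwa [reps_ok.2.1] at hjv)
    · refine Or.inr ⟨i, by omega, ?_, hjv⟩
      have : i < 5 := by omega
      interval_cases i <;> rfl

end CfsgLib.ThreeTrans.FiCent.Base
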