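import Cfsg.Agent.Lib.ThreeTrans.FiCent.RigidData

/-!
The diagram symmetry of the presented Fischer group on 22 letters, composed with an inner automorphism
so as to fix two commuting transpositions.
-/

set_option autoImplicit false
set_option maxRecDepth 100000
set_option linter.constructorNameAsVariable false

namespace CfsgLib.ThreeTrans.FiCent

open CfsgLib.Presented CfsgLib.Presented.Fi22Pts RigidData
open CfsgLib.ThreeTrans.Inst.FiTwentyTwo (P)
open Fi22UCosets (ev)
open Fi22UCert (rep alphabet)

/-- The symmetry of the letters. -/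
def symIdx (x : ℕ) : ℕ := [6, 5, 4, 3, 2, 1, 0, 7, 8].getD x x

theorem symIdx_lt : ∀ x, x < 9 → symIdx x < 9 := by decide

theorem symIdx_symIdx : ∀ x, x < 9 → symIdx (symIdx x) = x := by decide

/-- The images of the generators. -/
noncomputable def symGen (g : Cfsg.Spor.Fi22.Gen) : X := ev (symIdx (Fi22UCosets.letters.idx g))

theorem idx_lt (g : Cfsg.Spor.Fi22.Gen) : Fi22UCosets.letters.idx g < 9 := (Fi22UCosets.full g).1

theorem el_one (x : ℕ) : el [x] = ev x := by simp [el]

theorem symGen_sq (g : Cfsg.Spor.Fi22.Gen) : symGen g * symGen g = 1 :=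
  letters_sq _ (symIdx_lt _ (idx_lt g))

theorem ev_sym {x : ℕ} (hx : x < 9) : Fi22UCosets.letters.ev symGen x = ev (symIdx x) := by
  have h : ∀ y, y < 9 → (Fi22UCosets.letters.gen y).2 = true ∧
      Fi22UCosets.letters.idx (Fi22UCosets.letters.gen y).1 = y := by decide +kernel
  obtain ⟨h1, h2⟩ := h x hx
  rw [Letters.ev, if_pos (show x < Fi22UCosets.letters.A.eps from hx), h1, cond_true, symGen, h2]

theorem evW_sym {w : List ℕ} (h : ok w = true) :
    evW (Fi22UCosets.letters.ev symGen) w = el (w.map symIdx) := by
  induction w with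
  | nil => simp [el]
  | cons x w ih =>
    rw [ok, List.all_cons, Bool.and_eq_true, Nat.blt_eq] at h
    rw [evW_cons, List.map_cons, ev_sym h.1, ih h.2]
    rfl

theorem symGen_kills : ∀ r ∈ Cfsg.Spor.coxRelators Cfsg.Spor.Fi22.edges ∪ {r | r ∈ Cfsg.Spor.Fi22.extra},
    FreeGroup.lift symGen r = 1 := by
  have key : (Fi22UCert.relWords.all fun w => ok w && ok (w.map symIdx) && rep.relsOK [w.map symIdx]) = true := by
    decide +kernel
  simp only [List.all_eq_true, Bool.and_eq_true] at key
  have hw : ∀ w ∈ Fi22UCert.relWords, evW (Fi22UCosets.letters.ev symGen) w = 1 := fun w hw => by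
    obtain ⟨⟨h1, -⟩, h3⟩ := key w hw
    rw [evW_sym h1]
    exact Inst.FiTwentyTwo.evW_eq_one h3
  refine Letters.kills (L := Fi22UCosets.letters) Fi22UCosets.letters_valid Fi22UCosets.nodes_valid
    Fi22UCosets.full (fun g _ => symGen_sq g) (fun w h => hw w ?_) fun w h => hw w ?_
  · rw [Fi22UCosets.relWords_eq]; exact List.mem_append.2 (Or.inl h)
  · rw [Fi22UCosets.relWords_eq]; exact List.mem_append.2 (Or.inr h)

/-- The symmetry. -/
noncomputable def symHom : X →* X := PresentedGroup.toGroup symGen_kills

theorem symHom_of (g : Cfsg.Spor.Fi22.Gen) : symHom (PresentedGroup.of g) = symGen g :=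
  PresentedGroup.toGroup.of symGen_kills

theorem symHom_ev {x : ℕ} (hx : x < 9) : symHom (ev x) = ev (symIdx x) := by
  have h : ∀ y, y < 9 → (Fi22UCosets.letters.gen y).2 = true ∧
      Fi22UCosets.letters.idx (Fi22UCosets.letters.gen y).1 = y := by decide +kernel
  obtain ⟨h1, h2⟩ := h x hx
  show symHom (Fi22UCosets.letters.ev (fun g => PresentedGroup.of g) x) = _
  rw [Letters.ev, if_pos (show x < Fi22UCosets.letters.A.eps from hx), h1, cond_true, symHom_of, symGen, h2]

theorem symHom_el {w : List ℕ} (h : ok w = true) : symHom (el w) = el (w.map symIdx) := by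
  induction w with
  | nil => simp [el]
  | cons x w ih =>
    rw [ok, List.all_cons, Bool.and_eq_true, Nat.blt_eq] at h
    show symHom (ev x * el w) = ev (symIdx x) * el (w.map symIdx)
    rw [map_mul, symHom_ev h.1, ih h.2]

theorem symHom_symHom : symHom.comp symHom = MonoidHom.id X := by
  refine PresentedGroup.ext fun g => ?_
  rw [MonoidHom.comp_apply, symHom_of, symGen, symHom_ev (symIdx_lt _ (idx_lt g)),
    symIdx_symIdx _ (idx_lt g), MonoidHom.id_apply]
  exact (Letters.ev_idx Fi22UCosets.letters_valid (Letters.of_sq Fi22UCosets.nodes_valid)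
    (Fi22UCosets.full g).1 (Fi22UCosets.full g).2).1

/-- The symmetry as an automorphism. -/
noncomputable def symAut : MulAut X :=
  MonoidHom.toMulEquiv symHom symHom symHom_symHom symHom_symHom

/-- The symmetry fixing the two transpositions. -/
noncomputable def tauAut : MulAut X := MulAut.conj (el swapWord) * symAut

theorem ok_map_sym {w : List ℕ} (h : ok w = true) : ok (w.map symIdx) = true := by
  simp only [ok, List.all_eq_true, Nat.blt_eq, List.mem_map] at h ⊢
  rintro _ ⟨x, hx, rfl⟩
  exact symIdx_lt x (h x hx)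

/-- The effect on a point given by a word. -/
noncomputable def tauPt (u : List ℕ) : ℕ := img (swapWord ++ u.map symIdx) 154

theorem tauAut_T {u : List ℕ} (h : ok u = true) : tauAut (T (img u 0)) = T (tauPt u) := by
  have hsw : ok swapWord = true := by decide +kernel
  have h0 : ok [0] = true := by decide
  have e154 : el [6] = T 154 := by rw [el_one]; exact (T_gpts 6 (by decide)).symm
  rw [← evW_tw h]
  show el swapWord * symHom (el (tw u)) * (el swapWord)⁻¹ = _
  rw [symHom_el (ok_tw h), tw, List.map_append, List.map_append, List.map_reverse, el_append, el_append,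
    show ([0] : List ℕ).map symIdx = [6] from rfl, e154,
    show el (u.map symIdx).reverse = (el (u.map symIdx))⁻¹ from evW_rev (ok_map_sym h),
    show el swapWord * (el (u.map symIdx) * T 154 * (el (u.map symIdx))⁻¹) * (el swapWord)⁻¹ =
      el (swapWord ++ u.map symIdx) * T 154 * (el (swapWord ++ u.map symIdx))⁻¹ by rw [el_append]; group]
  exact el_conj (by rw [ok_append, hsw, ok_map_sym h]; rfl) (by decide)

end CfsgLib.ThreeTrans.FiCent
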