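import Mathlib

/-!
Words for seven commuting transpositions with trivial product, and for the products of a standard triple with
the transpositions commuting with it that are again triples.
-/

set_option autoImplicit false

namespace CfsgLib.ThreeTrans.FiCent.TypesData

/-- Words reaching seven points. -/
def sevenWords : List (List ℕ) :=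
  [[],
    [5, 6, 4, 5, 3, 4, 2, 3, 1, 2, 0, 1],
    [1, 2, 0, 1],
    [3, 7, 2, 3, 1, 2, 0, 1],
    [5, 4, 3, 7, 6, 5, 4, 3, 1, 2, 0, 1],
    [5, 4, 1, 2, 3, 7, 6, 5, 4, 3, 2, 1],
    [3, 7, 5, 2, 3, 4, 1, 2, 3, 7, 6, 5, 4, 3, 2, 1]]

/-- The points whose transposition times the standard triple is a pair. -/
def sixPts : List ℕ := [0, 6, 40, 154, 3399, 3400]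

/-- A transposition, then three commuting ones with product that transposition times the standard triple. -/
def tripleCert : List (List ℕ × List ℕ × List ℕ × List ℕ) :=
  [
    ([3, 7, 2, 3, 1, 2, 0, 1], [5, 4, 1, 2, 3, 7, 6, 5, 4, 3, 2, 1], [3, 7, 5, 2, 3, 4, 1, 2, 3, 7, 6, 5, 4, 3, 2, 1], [5, 4, 3, 7, 6, 5, 4, 3, 1, 2, 0, 1]),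
    ([3, 7, 4, 3, 1, 2, 0, 1], [3, 4, 5, 2, 3, 4, 1, 2, 3, 7, 6, 5, 4, 3, 2, 1], [3, 7, 5, 2, 3, 4, 1, 2, 3, 7, 6, 5, 4, 3, 2, 1], [1, 2, 3, 7, 4, 3, 2, 1]),
    ([1, 2, 3, 7, 4, 3, 2, 1], [3, 4, 5, 2, 3, 4, 1, 2, 3, 7, 6, 5, 4, 3, 2, 1], [3, 7, 5, 2, 3, 4, 1, 2, 3, 7, 6, 5, 4, 3, 2, 1], [3, 7, 4, 3, 1, 2, 0, 1]),
    ([8, 3, 7, 2, 3, 1, 2, 0, 1], [8, 5, 4, 1, 2, 3, 7, 6, 5, 4, 3, 2, 1], [8, 3, 7, 5, 2, 3, 4, 1, 2, 3, 7, 6, 5, 4, 3, 2, 1], [8, 5, 4, 3, 7, 6, 5, 4, 3, 1, 2, 0, 1]),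
    ([8, 3, 7, 4, 3, 1, 2, 0, 1], [8, 3, 4, 5, 2, 3, 4, 1, 2, 3, 7, 6, 5, 4, 3, 2, 1], [8, 3, 7, 5, 2, 3, 4, 1, 2, 3, 7, 6, 5, 4, 3, 2, 1], [8, 1, 2, 3, 7, 4, 3, 2, 1]),
    ([8, 1, 2, 3, 7, 4, 3, 2, 1], [8, 3, 4, 5, 2, 3, 4, 1, 2, 3, 7, 6, 5, 4, 3, 2, 1], [8, 3, 7, 5, 2, 3, 4, 1, 2, 3, 7, 6, 5, 4, 3, 2, 1], [8, 3, 7, 4, 3, 1, 2, 0, 1]),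
    ([7, 8, 3, 7, 2, 3, 1, 2, 0, 1], [7, 8, 5, 4, 1, 2, 3, 7, 6, 5, 4, 3, 2, 1], [7, 8, 3, 7, 5, 2, 3, 4, 1, 2, 3, 7, 6, 5, 4, 3, 2, 1], [7, 8, 5, 4, 3, 7, 6, 5, 4, 3, 1, 2, 0, 1]),
    ([7, 8, 3, 7, 4, 3, 1, 2, 0, 1], [7, 8, 3, 4, 5, 2, 3, 4, 1, 2, 3, 7, 6, 5, 4, 3, 2, 1], [7, 8, 3, 7, 5, 2, 3, 4, 1, 2, 3, 7, 6, 5, 4, 3, 2, 1], [7, 8, 1, 2, 3, 7, 4, 3, 2, 1]),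
    ([7, 8, 1, 2, 3, 7, 4, 3, 2, 1], [7, 8, 3, 4, 5, 2, 3, 4, 1, 2, 3, 7, 6, 5, 4, 3, 2, 1], [7, 8, 3, 7, 5, 2, 3, 4, 1, 2, 3, 7, 6, 5, 4, 3, 2, 1], [7, 8, 3, 7, 4, 3, 1, 2, 0, 1]),
    ([5, 4, 3, 7, 6, 5, 4, 3, 1, 2, 0, 1], [5, 4, 1, 2, 3, 7, 6, 5, 4, 3, 2, 1], [3, 7, 5, 2, 3, 4, 1, 2, 3, 7, 6, 5, 4, 3, 2, 1], [3, 7, 2, 3, 1, 2, 0, 1]),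
    ([5, 4, 1, 2, 3, 7, 6, 5, 4, 3, 2, 1], [5, 4, 3, 7, 6, 5, 4, 3, 1, 2, 0, 1], [3, 7, 5, 2, 3, 4, 1, 2, 3, 7, 6, 5, 4, 3, 2, 1], [3, 7, 2, 3, 1, 2, 0, 1]),
    ([8, 5, 4, 3, 7, 6, 5, 4, 3, 1, 2, 0, 1], [8, 5, 4, 1, 2, 3, 7, 6, 5, 4, 3, 2, 1], [8, 3, 7, 5, 2, 3, 4, 1, 2, 3, 7, 6, 5, 4, 3, 2, 1], [8, 3, 7, 2, 3, 1, 2, 0, 1]),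
    ([8, 5, 4, 1, 2, 3, 7, 6, 5, 4, 3, 2, 1], [8, 5, 4, 3, 7, 6, 5, 4, 3, 1, 2, 0, 1], [8, 3, 7, 5, 2, 3, 4, 1, 2, 3, 7, 6, 5, 4, 3, 2, 1], [8, 3, 7, 2, 3, 1, 2, 0, 1]),
    ([7, 8, 5, 4, 3, 7, 6, 5, 4, 3, 1, 2, 0, 1], [7, 8, 5, 4, 1, 2, 3, 7, 6, 5, 4, 3, 2, 1], [7, 8, 3, 7, 5, 2, 3, 4, 1, 2, 3, 7, 6, 5, 4, 3, 2, 1], [7, 8, 3, 7, 2, 3, 1, 2, 0, 1]),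
    ([7, 8, 5, 4, 1, 2, 3, 7, 6, 5, 4, 3, 2, 1], [7, 8, 5, 4, 3, 7, 6, 5, 4, 3, 1, 2, 0, 1], [7, 8, 3, 7, 5, 2, 3, 4, 1, 2, 3, 7, 6, 5, 4, 3, 2, 1], [7, 8, 3, 7, 2, 3, 1, 2, 0, 1]),
    ([3, 4, 2, 3, 7, 8, 1, 2, 3, 7, 4, 3, 2, 1], [3, 4, 2, 3, 7, 8, 5, 4, 1, 2, 3, 7, 6, 5, 4, 3, 2, 1], [3, 4, 2, 3, 7, 8, 3, 7, 4, 5, 3, 4, 1, 2, 3, 7, 6, 5, 4, 3, 2, 1], [7, 8, 3, 7, 2, 3, 1, 2, 0, 1]),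
    ([7, 3, 4, 2, 3, 7, 8, 1, 2, 3, 7, 4, 3, 2, 1], [7, 3, 4, 2, 3, 7, 8, 5, 4, 1, 2, 3, 7, 6, 5, 4, 3, 2, 1], [7, 3, 4, 2, 3, 7, 8, 3, 7, 4, 5, 3, 4, 1, 2, 3, 7, 6, 5, 4, 3, 2, 1], [8, 3, 7, 2, 3, 1, 2, 0, 1]),
    ([3, 4, 5, 2, 3, 4, 1, 2, 3, 7, 6, 5, 4, 3, 2, 1], [1, 2, 3, 7, 4, 3, 2, 1], [3, 7, 5, 2, 3, 4, 1, 2, 3, 7, 6, 5, 4, 3, 2, 1], [3, 7, 4, 3, 1, 2, 0, 1]),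
    ([3, 7, 5, 2, 3, 4, 1, 2, 3, 7, 6, 5, 4, 3, 2, 1], [5, 4, 3, 7, 6, 5, 4, 3, 1, 2, 0, 1], [5, 4, 1, 2, 3, 7, 6, 5, 4, 3, 2, 1], [3, 7, 2, 3, 1, 2, 0, 1]),
    ([3, 7, 4, 5, 3, 4, 1, 2, 3, 7, 6, 5, 4, 3, 2, 1], [8, 7, 3, 4, 2, 3, 7, 8, 5, 4, 1, 2, 3, 7, 6, 5, 4, 3, 2, 1], [8, 7, 1, 2, 3, 4, 0, 1, 2, 3, 7, 8, 3, 4, 5, 2, 3, 4, 1, 2, 3, 7, 6, 5, 4, 3, 2, 1], [1, 2, 3, 7, 4, 3, 2, 1]),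
    ([5, 4, 3, 7, 2, 3, 4, 1, 2, 3, 7, 5, 4, 3, 2, 1], [8, 7, 3, 4, 2, 3, 7, 8, 5, 4, 1, 2, 3, 7, 6, 5, 4, 3, 2, 1], [8, 7, 3, 4, 2, 3, 7, 8, 3, 7, 4, 5, 3, 4, 1, 2, 3, 7, 6, 5, 4, 3, 2, 1], [3, 7, 2, 3, 1, 2, 0, 1]),
    ([8, 3, 4, 5, 2, 3, 4, 1, 2, 3, 7, 6, 5, 4, 3, 2, 1], [8, 1, 2, 3, 7, 4, 3, 2, 1], [8, 3, 7, 5, 2, 3, 4, 1, 2, 3, 7, 6, 5, 4, 3, 2, 1], [8, 3, 7, 4, 3, 1, 2, 0, 1]),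
    ([8, 3, 7, 5, 2, 3, 4, 1, 2, 3, 7, 6, 5, 4, 3, 2, 1], [8, 5, 4, 3, 7, 6, 5, 4, 3, 1, 2, 0, 1], [8, 5, 4, 1, 2, 3, 7, 6, 5, 4, 3, 2, 1], [8, 3, 7, 2, 3, 1, 2, 0, 1]),
    ([8, 3, 7, 4, 5, 3, 4, 1, 2, 3, 7, 6, 5, 4, 3, 2, 1], [7, 3, 4, 2, 3, 7, 8, 5, 4, 1, 2, 3, 7, 6, 5, 4, 3, 2, 1], [7, 1, 2, 3, 4, 0, 1, 2, 3, 7, 8, 3, 4, 5, 2, 3, 4, 1, 2, 3, 7, 6, 5, 4, 3, 2, 1], [8, 1, 2, 3, 7, 4, 3, 2, 1]),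
    ([3, 4, 2, 3, 7, 8, 5, 4, 3, 7, 6, 5, 4, 3, 1, 2, 0, 1], [3, 4, 2, 3, 7, 8, 3, 4, 5, 2, 3, 4, 1, 2, 3, 7, 6, 5, 4, 3, 2, 1], [3, 4, 2, 3, 7, 8, 3, 7, 4, 5, 3, 4, 1, 2, 3, 7, 6, 5, 4, 3, 2, 1], [7, 8, 3, 7, 4, 3, 1, 2, 0, 1]),
    ([1, 2, 3, 7, 4, 5, 3, 4, 2, 3, 7, 6, 5, 4, 3, 2, 0, 1], [8, 7, 3, 4, 2, 3, 7, 8, 3, 4, 5, 2, 3, 4, 1, 2, 3, 7, 6, 5, 4, 3, 2, 1], [8, 7, 3, 4, 2, 3, 7, 8, 3, 7, 4, 5, 3, 4, 1, 2, 3, 7, 6, 5, 4, 3, 2, 1], [3, 7, 4, 3, 1, 2, 0, 1]),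
    ([7, 8, 3, 4, 5, 2, 3, 4, 1, 2, 3, 7, 6, 5, 4, 3, 2, 1], [7, 8, 1, 2, 3, 7, 4, 3, 2, 1], [7, 8, 3, 7, 5, 2, 3, 4, 1, 2, 3, 7, 6, 5, 4, 3, 2, 1], [7, 8, 3, 7, 4, 3, 1, 2, 0, 1]),
    ([7, 8, 3, 7, 5, 2, 3, 4, 1, 2, 3, 7, 6, 5, 4, 3, 2, 1], [7, 8, 5, 4, 3, 7, 6, 5, 4, 3, 1, 2, 0, 1], [7, 8, 5, 4, 1, 2, 3, 7, 6, 5, 4, 3, 2, 1], [7, 8, 3, 7, 2, 3, 1, 2, 0, 1]),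
    ([7, 8, 3, 7, 4, 5, 3, 4, 1, 2, 3, 7, 6, 5, 4, 3, 2, 1], [3, 4, 2, 3, 7, 8, 5, 4, 1, 2, 3, 7, 6, 5, 4, 3, 2, 1], [1, 2, 3, 4, 0, 1, 2, 3, 7, 8, 3, 4, 5, 2, 3, 4, 1, 2, 3, 7, 6, 5, 4, 3, 2, 1], [7, 8, 1, 2, 3, 7, 4, 3, 2, 1]),
    ([3, 4, 2, 3, 7, 8, 5, 4, 1, 2, 3, 7, 6, 5, 4, 3, 2, 1], [3, 4, 2, 3, 7, 8, 1, 2, 3, 7, 4, 3, 2, 1], [3, 4, 2, 3, 7, 8, 3, 7, 4, 5, 3, 4, 1, 2, 3, 7, 6, 5, 4, 3, 2, 1], [7, 8, 3, 7, 2, 3, 1, 2, 0, 1]),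
    ([7, 3, 4, 2, 3, 7, 8, 5, 4, 3, 7, 6, 5, 4, 3, 1, 2, 0, 1], [7, 3, 4, 2, 3, 7, 8, 3, 4, 5, 2, 3, 4, 1, 2, 3, 7, 6, 5, 4, 3, 2, 1], [7, 3, 4, 2, 3, 7, 8, 3, 7, 4, 5, 3, 4, 1, 2, 3, 7, 6, 5, 4, 3, 2, 1], [8, 3, 7, 4, 3, 1, 2, 0, 1]),
    ([7, 3, 4, 2, 3, 7, 8, 5, 4, 1, 2, 3, 7, 6, 5, 4, 3, 2, 1], [7, 3, 4, 2, 3, 7, 8, 1, 2, 3, 7, 4, 3, 2, 1], [7, 3, 4, 2, 3, 7, 8, 3, 7, 4, 5, 3, 4, 1, 2, 3, 7, 6, 5, 4, 3, 2, 1], [8, 3, 7, 2, 3, 1, 2, 0, 1]),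
    ([8, 7, 3, 4, 2, 3, 7, 8, 5, 4, 1, 2, 3, 7, 6, 5, 4, 3, 2, 1], [5, 4, 3, 7, 2, 3, 4, 1, 2, 3, 7, 5, 4, 3, 2, 1], [8, 7, 3, 4, 2, 3, 7, 8, 3, 7, 4, 5, 3, 4, 1, 2, 3, 7, 6, 5, 4, 3, 2, 1], [3, 7, 2, 3, 1, 2, 0, 1]),
    ([3, 4, 2, 3, 7, 8, 3, 4, 5, 2, 3, 4, 1, 2, 3, 7, 6, 5, 4, 3, 2, 1], [3, 4, 2, 3, 7, 8, 5, 4, 3, 7, 6, 5, 4, 3, 1, 2, 0, 1], [3, 4, 2, 3, 7, 8, 3, 7, 4, 5, 3, 4, 1, 2, 3, 7, 6, 5, 4, 3, 2, 1], [7, 8, 3, 7, 4, 3, 1, 2, 0, 1]),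
    ([3, 4, 2, 3, 7, 8, 3, 7, 5, 2, 3, 4, 1, 2, 3, 7, 6, 5, 4, 3, 2, 1], [3, 4, 2, 3, 7, 8, 5, 4, 3, 7, 6, 5, 4, 3, 1, 2, 0, 1], [1, 2, 3, 4, 0, 1, 2, 3, 7, 8, 3, 4, 5, 2, 3, 4, 1, 2, 3, 7, 6, 5, 4, 3, 2, 1], [7, 8, 5, 4, 1, 2, 3, 7, 6, 5, 4, 3, 2, 1]),
    ([3, 4, 2, 3, 7, 8, 3, 7, 4, 5, 3, 4, 1, 2, 3, 7, 6, 5, 4, 3, 2, 1], [3, 4, 2, 3, 7, 8, 1, 2, 3, 7, 4, 3, 2, 1], [3, 4, 2, 3, 7, 8, 5, 4, 1, 2, 3, 7, 6, 5, 4, 3, 2, 1], [7, 8, 3, 7, 2, 3, 1, 2, 0, 1]),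
    ([7, 3, 4, 2, 3, 7, 8, 3, 4, 5, 2, 3, 4, 1, 2, 3, 7, 6, 5, 4, 3, 2, 1], [7, 3, 4, 2, 3, 7, 8, 5, 4, 3, 7, 6, 5, 4, 3, 1, 2, 0, 1], [7, 3, 4, 2, 3, 7, 8, 3, 7, 4, 5, 3, 4, 1, 2, 3, 7, 6, 5, 4, 3, 2, 1], [8, 3, 7, 4, 3, 1, 2, 0, 1]),
    ([7, 3, 4, 2, 3, 7, 8, 3, 7, 5, 2, 3, 4, 1, 2, 3, 7, 6, 5, 4, 3, 2, 1], [7, 3, 4, 2, 3, 7, 8, 5, 4, 3, 7, 6, 5, 4, 3, 1, 2, 0, 1], [7, 1, 2, 3, 4, 0, 1, 2, 3, 7, 8, 3, 4, 5, 2, 3, 4, 1, 2, 3, 7, 6, 5, 4, 3, 2, 1], [8, 5, 4, 1, 2, 3, 7, 6, 5, 4, 3, 2, 1]),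
    ([7, 3, 4, 2, 3, 7, 8, 3, 7, 4, 5, 3, 4, 1, 2, 3, 7, 6, 5, 4, 3, 2, 1], [7, 3, 4, 2, 3, 7, 8, 1, 2, 3, 7, 4, 3, 2, 1], [7, 3, 4, 2, 3, 7, 8, 5, 4, 1, 2, 3, 7, 6, 5, 4, 3, 2, 1], [8, 3, 7, 2, 3, 1, 2, 0, 1]),
    ([8, 7, 3, 4, 2, 3, 7, 8, 3, 4, 5, 2, 3, 4, 1, 2, 3, 7, 6, 5, 4, 3, 2, 1], [1, 2, 3, 7, 4, 5, 3, 4, 2, 3, 7, 6, 5, 4, 3, 2, 0, 1], [8, 7, 3, 4, 2, 3, 7, 8, 3, 7, 4, 5, 3, 4, 1, 2, 3, 7, 6, 5, 4, 3, 2, 1], [3, 7, 4, 3, 1, 2, 0, 1]),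
    ([8, 7, 3, 4, 2, 3, 7, 8, 3, 7, 5, 2, 3, 4, 1, 2, 3, 7, 6, 5, 4, 3, 2, 1], [1, 2, 3, 7, 4, 5, 3, 4, 2, 3, 7, 6, 5, 4, 3, 2, 0, 1], [8, 7, 1, 2, 3, 4, 0, 1, 2, 3, 7, 8, 3, 4, 5, 2, 3, 4, 1, 2, 3, 7, 6, 5, 4, 3, 2, 1], [5, 4, 1, 2, 3, 7, 6, 5, 4, 3, 2, 1]),
    ([8, 7, 3, 4, 2, 3, 7, 8, 3, 7, 4, 5, 3, 4, 1, 2, 3, 7, 6, 5, 4, 3, 2, 1], [5, 4, 3, 7, 2, 3, 4, 1, 2, 3, 7, 5, 4, 3, 2, 1], [8, 7, 3, 4, 2, 3, 7, 8, 5, 4, 1, 2, 3, 7, 6, 5, 4, 3, 2, 1], [3, 7, 2, 3, 1, 2, 0, 1]),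
    ([1, 2, 3, 4, 0, 1, 2, 3, 7, 8, 3, 4, 5, 2, 3, 4, 1, 2, 3, 7, 6, 5, 4, 3, 2, 1], [7, 8, 3, 7, 4, 5, 3, 4, 1, 2, 3, 7, 6, 5, 4, 3, 2, 1], [3, 4, 2, 3, 7, 8, 5, 4, 1, 2, 3, 7, 6, 5, 4, 3, 2, 1], [7, 8, 1, 2, 3, 7, 4, 3, 2, 1]),
    ([1, 2, 3, 4, 0, 1, 2, 3, 7, 8, 3, 7, 5, 2, 3, 4, 1, 2, 3, 7, 6, 5, 4, 3, 2, 1], [7, 8, 3, 7, 4, 5, 3, 4, 1, 2, 3, 7, 6, 5, 4, 3, 2, 1], [3, 4, 2, 3, 7, 8, 3, 4, 5, 2, 3, 4, 1, 2, 3, 7, 6, 5, 4, 3, 2, 1], [7, 8, 5, 4, 3, 7, 6, 5, 4, 3, 1, 2, 0, 1]),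
    ([7, 1, 2, 3, 4, 0, 1, 2, 3, 7, 8, 3, 4, 5, 2, 3, 4, 1, 2, 3, 7, 6, 5, 4, 3, 2, 1], [8, 3, 7, 4, 5, 3, 4, 1, 2, 3, 7, 6, 5, 4, 3, 2, 1], [7, 3, 4, 2, 3, 7, 8, 5, 4, 1, 2, 3, 7, 6, 5, 4, 3, 2, 1], [8, 1, 2, 3, 7, 4, 3, 2, 1]),
    ([7, 1, 2, 3, 4, 0, 1, 2, 3, 7, 8, 3, 7, 5, 2, 3, 4, 1, 2, 3, 7, 6, 5, 4, 3, 2, 1], [8, 3, 7, 4, 5, 3, 4, 1, 2, 3, 7, 6, 5, 4, 3, 2, 1], [7, 3, 4, 2, 3, 7, 8, 3, 4, 5, 2, 3, 4, 1, 2, 3, 7, 6, 5, 4, 3, 2, 1], [8, 5, 4, 3, 7, 6, 5, 4, 3, 1, 2, 0, 1]),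
    ([8, 7, 1, 2, 3, 4, 0, 1, 2, 3, 7, 8, 3, 4, 5, 2, 3, 4, 1, 2, 3, 7, 6, 5, 4, 3, 2, 1], [3, 7, 4, 5, 3, 4, 1, 2, 3, 7, 6, 5, 4, 3, 2, 1], [8, 7, 3, 4, 2, 3, 7, 8, 5, 4, 1, 2, 3, 7, 6, 5, 4, 3, 2, 1], [1, 2, 3, 7, 4, 3, 2, 1]),
    ([8, 7, 1, 2, 3, 4, 0, 1, 2, 3, 7, 8, 3, 7, 5, 2, 3, 4, 1, 2, 3, 7, 6, 5, 4, 3, 2, 1], [3, 7, 4, 5, 3, 4, 1, 2, 3, 7, 6, 5, 4, 3, 2, 1], [8, 7, 3, 4, 2, 3, 7, 8, 3, 4, 5, 2, 3, 4, 1, 2, 3, 7, 6, 5, 4, 3, 2, 1], [5, 4, 3, 7, 6, 5, 4, 3, 1, 2, 0, 1])]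

end CfsgLib.ThreeTrans.FiCent.TypesData
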