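import Cfsg.Agent.Lib.ThreeTrans.FiCent.Frames
import Cfsg.Agent.Lib.ThreeTrans.FiCent.TypesData
import Cfsg.Agent.Lib.ThreeTrans.TypeTop.InvolutionTypes

/-!
Products of commuting transpositions in the presented Fischer group on 22 letters: types, pairs in a
product, a relation between seven transpositions, and counts.
-/

set_option autoImplicit false
set_option maxRecDepth 100000
set_option maxHeartbeats 800000

namespace CfsgLib.ThreeTrans.FiCent

open Subgroup CfsgLib.Presented CfsgLib.Presented.Fi22Pts TypesData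
open CfsgLib.ThreeTrans.Inst.FiTwentyTwo (P maskA)
open CfsgLib.ThreeTrans.TypeTop (IsProd isProd_one isProd_two isProd_three)
open Fi22UCert (rep)

theorem D0_sq {x : X} (hx : x ∈ D0) : x * x = 1 :=
  ThreeTrans.mul_self Inst.FiTwentyTwo.threeSet hx

theorem D0_ne_one {x : X} (hx : x ∈ D0) : x ≠ 1 := by
  obtain ⟨j, rfl⟩ := P.tp_surj hx
  exact P.tp_ne_one j

/-- An involution commutes with a transposition. -/
theorem member_fix {x : X} (hx : x * x = 1) : ∃ t ∈ D0, Commute x t := by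
  have := finite_X
  have : IsSimpleGroup X := Fi22Simple.simple
  refine TypeTop.exists_fixed_of_simple (n := 877) (conjClosed_of_group Inst.FiTwentyTwo.isGroup)
    ⟨Inst.FiTwentyTwo.gA, Inst.FiTwentyTwo.a, fun e => Inst.FiTwentyTwo.not_commute_gA e⟩ ?_ hx
  rw [Inst.FiTwentyTwo.ncard_D]

theorem classify {x : X} (hx : x * x = 1) (hx1 : x ≠ 1) : ∃ n, 1 ≤ n ∧ n ≤ 3 ∧ IsProd D0 n x := by
  have := finite_X
  exact TypeTop.classify22 Inst.FiTwentyTwo.isGroup Inst.FiTwentyTwo.primitive Inst.FiTwentyTwo.typeM22 hx hx1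

theorem len_unique {n n' : ℕ} {x : X} (hn : 1 ≤ n) (hn3 : n ≤ 3) (hn' : 1 ≤ n') (hn3' : n' ≤ 3)
    (h : IsProd D0 n x) (h' : IsProd D0 n' x) : n = n' := by
  have := finite_X
  have hG := CfsgLib.ThreeTrans.good22 Inst.FiTwentyTwo.isGroup Inst.FiTwentyTwo.typeM22
  exact TypeTop.length_unique Inst.FiTwentyTwo.isGroup.1 (hG.rel 3 (by norm_num) (by norm_num))
    (hG.rel 4 (by norm_num) (by norm_num)) (hG.rel 5 (by norm_num) (by norm_num)) hn hn3 hn' hn3' h h'

theorem conj_prod {n : ℕ} (hn : 1 ≤ n) (hn3 : n ≤ 3) {x y : X} (hx : IsProd D0 n x) (hy : IsProd D0 n y) :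
    IsConj x y := by
  have := finite_X
  have L := CfsgLib.ThreeTrans.Tower.local22 Inst.FiTwentyTwo.isGroup Inst.FiTwentyTwo.primitive
    Inst.FiTwentyTwo.typeM22
  obtain ⟨p, c, F, _, _, π, hB, -, -, hloc, -⟩ :=
    CfsgLib.ThreeTrans.Tower.bottom22 Inst.FiTwentyTwo.isGroup Inst.FiTwentyTwo.typeM22
  exact CfsgLib.ThreeTrans.TypeTop.conj_isProd (CfsgLib.ThreeTrans.Tower.stage_of_base Inst.FiTwentyTwo.isGroup
    Inst.FiTwentyTwo.primitive Inst.FiTwentyTwo.typeM22.1 hloc hB rfl) L hn hn3 hx hy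

theorem isProd_conj (g : X) {n : ℕ} {x : X} (h : IsProd D0 n x) : IsProd D0 n (g * x * g⁻¹) := by
  obtain ⟨l, h1, h2, h3, h4, rfl⟩ := h
  refine ⟨l.map (MulAut.conj g), h1.map (MulAut.conj g).injective, by simpa using h2, fun y hy => ?_,
    fun y hy z hz => ?_, (map_list_prod (MulAut.conj g) l).symm⟩
  · obtain ⟨w, hw, rfl⟩ := List.mem_map.1 hy
    exact (D0_conj g).2 (h3 w hw)
  · obtain ⟨w, hw, rfl⟩ := List.mem_map.1 hy
    obtain ⟨v, hv, rfl⟩ := List.mem_map.1 hz
    exact (h4 w hw v hv).map (MulAut.conj g).toMonoidHom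

theorem pair_prod {x y : X} (hx : x ∈ D0) (hy : y ∈ D0) (hne : y ≠ x) (hc : Commute x y) :
    IsProd D0 2 (x * y) :=
  isProd_two.2 ⟨x, hx, y, ⟨hy, hne, hc⟩, rfl⟩

theorem el_pair : el [0, 6] = T 0 * T 154 := by
  rw [show [0, 6] = [0] ++ [6] from rfl, el_append, el_one, el_one, ← T_gpts 0 (by decide),
    ← T_gpts 6 (by decide)]
  rfl

theorem el_triple : el [0, 6, 2] = T 0 * T 154 * T 6 := by
  rw [show [0, 6, 2] = [0, 6] ++ [2] from rfl, el_append, el_pair, el_one, ← T_gpts 2 (by decide)]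
  rfl

/-- Two commuting transpositions can be carried to the standard ones. -/
theorem pair_to_std {x y : X} (hx : x ∈ D0) (hy : y ∈ D0) (hne : y ≠ x) (hc : Commute x y) :
    ∃ h : X, h * x * h⁻¹ = T 0 ∧ h * y * h⁻¹ = T 154 := by
  obtain ⟨k, hk⟩ := P.cls y hy _ (T_mem 0)
  have h1 : k * x * k⁻¹ ∈ D0 := (D0_conj k).2 hx
  have h2 : k * x * k⁻¹ ≠ T 0 := by
    rw [← hk]
    exact fun e => hne (mul_left_cancel (mul_right_cancel e)).symm
  have h3 : Commute (k * x * k⁻¹) (T 0) := by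
    rw [← hk]
    exact hc.map (MulAut.conj k).toMonoidHom
  obtain ⟨h, e1, e2⟩ := exists_swap h1 h2 h3
  refine ⟨h * k, ?_, ?_⟩
  · rw [← e2]; group
  · rw [← e1, ← hk]; group

theorem fix_pair : allLt (fun p => !(Nat.beq (img [0, 6] p) p) || Nat.beq (img [0] p) p) 3510 = true := by
  decide +kernel

/-- A transposition commuting with a product of two commuting ones commutes with both. -/
theorem pair_commute {t x y : X} (ht : t ∈ D0) (hx : x ∈ D0) (hy : y ∈ D0) (hne : y ≠ x) (hc : Commute x y)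
    (h : Commute t (x * y)) : Commute t x ∧ Commute t y := by
  obtain ⟨k, k1, k2⟩ := pair_to_std hx hy hne hc
  have ht' : k * t * k⁻¹ ∈ D0 := (D0_conj k).2 ht
  obtain ⟨p, hp, hpe⟩ := exists_T ht'
  have h' : Commute (el [0, 6]) (T p) := by
    rw [el_pair, hpe, ← k1, ← k2, show k * x * k⁻¹ * (k * y * k⁻¹) = k * (x * y) * k⁻¹ by group]
    exact h.symm.map (MulAut.conj k).toMonoidHom
  have hi := allLt_spec fix_pair p hp
  rw [(commute_el_iff (by decide) hp).1 h', Nat.beq_refl] at hi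
  have h0 : Commute (el [0]) (T p) :=
    (commute_el_iff (by decide) hp).2 (Nat.eq_of_beq_eq_true (by simpa using hi))
  have hx' : Commute t x := by
    rw [show el [0] = T 0 by rw [el_one, ← T_gpts 0 (by decide)]; rfl, hpe, ← k1] at h0
    have := h0.symm.map (MulAut.conj k⁻¹).toMonoidHom
    simpa [mul_assoc] using this
  refine ⟨hx', ?_⟩
  have := hx'.inv_right.mul_right h
  rwa [inv_mul_cancel_left] at this

/-- The product of a transposition with a commuting pair is a transposition only inside the pair. -/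
theorem third {t x y : X} (ht : t ∈ D0) (hx : x ∈ D0) (hy : y ∈ D0) (hne : y ≠ x) (hc : Commute x y)
    (h : Commute t (x * y)) (hm : t * (x * y) ∈ D0) : t = x ∨ t = y := by
  by_contra! hcon
  obtain ⟨h1, h2⟩ := pair_commute ht hx hy hne hc h
  have h3 : IsProd D0 3 (t * (x * y)) :=
    isProd_three.2 ⟨t, ht, x, ⟨hx, fun e => hcon.1 e.symm, h1⟩, y,
      ⟨⟨hy, fun e => hcon.2 e.symm, h2⟩, ⟨hy, hne, hc⟩⟩, (mul_assoc _ _ _).symm⟩
  exact absurd (len_unique (by norm_num) (by norm_num) (by norm_num) le_rfl (isProd_one.2 hm) h3) (by norm_num)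

/-- The factors of a product of two commuting transpositions. -/
theorem pair_unique {x y x' y' : X} (hx : x ∈ D0) (hy : y ∈ D0) (hne : y ≠ x) (hc : Commute x y)
    (hx' : x' ∈ D0) (hy' : y' ∈ D0) (hc' : Commute x' y') (h : x * y = x' * y') : x' = x ∨ x' = y := by
  refine third hx' hx hy hne hc ?_ ?_
  · rw [h]
    exact (Commute.refl _).mul_right hc'
  · rw [h, ← mul_assoc, D0_sq hx', one_mul]
    exact hy'

/-! ### The seven -/

theorem seven_ok : ((sevenWords.map fun w => img w 0) == [0, 154, 6, 43, 155, 172, 427] &&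
    sevenWords.all (fun w => ok w && sevenWords.all fun v => Nat.beq (img (tw w) (img v 0)) (img v 0)) &&
    eqW ((sevenWords.drop 2).flatMap tw) [0, 6]) = true := by
  decide +kernel

/-- Five transpositions at the standard pair. -/
noncomputable abbrev five : List X := [T 6, T 43, T 155, T 172, T 427]

theorem five_mem {r : X} (hr : r ∈ five) : r ∈ D0 := by
  simp only [five, List.mem_cons, List.not_mem_nil, or_false] at hr
  rcases hr with rfl | rfl | rfl | rfl | rfl <;> exact T_mem _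

theorem seven_commute {p q : ℕ} (hp : p ∈ [0, 154, 6, 43, 155, 172, 427])
    (hq : q ∈ [0, 154, 6, 43, 155, 172, 427]) : Commute (T p) (T q) := by
  have key := seven_ok
  simp only [Bool.and_eq_true, beq_iff_eq, List.all_eq_true] at key
  obtain ⟨⟨hmap, hall⟩, -⟩ := key
  rw [← hmap, List.mem_map] at hp hq
  obtain ⟨w, hw, rfl⟩ := hp
  obtain ⟨v, hv, rfl⟩ := hq
  exact (commute_T_T (hall w hw).1 (img_lt (hall v hv).1 (by decide))).2
    (Nat.eq_of_beq_eq_true ((hall w hw).2 v hv))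

theorem five_commute {r : X} (hr : r ∈ five) :
    Commute (T 0) r ∧ Commute (T 154) r ∧ ∀ r' ∈ five, Commute r r' := by
  have e : five = [6, 43, 155, 172, 427].map T := rfl
  rw [e, List.mem_map] at hr
  obtain ⟨p, hp, rfl⟩ := hr
  refine ⟨seven_commute (by simp) (by simp at hp ⊢; tauto), seven_commute (by simp) (by simp at hp ⊢; tauto),
    fun r' hr' => ?_⟩
  rw [e, List.mem_map] at hr'
  obtain ⟨q, hq, rfl⟩ := hr'
  exact seven_commute (by simp at hp ⊢; tauto) (by simp at hq ⊢; tauto)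

theorem five_prod : five.prod = T 0 * T 154 := by
  have key := seven_ok
  simp only [Bool.and_eq_true, beq_iff_eq, List.all_eq_true] at key
  obtain ⟨⟨hmap, hall⟩, he⟩ := key
  have h : ∀ l : List (List ℕ), (∀ w ∈ l, ok w = true) →
      el (l.flatMap tw) = (l.map fun w => T (img w 0)).prod := by
    intro l hl
    induction l with
    | nil => rfl
    | cons w l ih =>
      rw [List.flatMap_cons, el_append, ih fun v hv => hl v (List.mem_cons_of_mem _ hv), List.map_cons,
        List.prod_cons, show el (tw w) = T (img w 0) from evW_tw (hl w List.mem_cons_self)]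
  have h5 := h (sevenWords.drop 2) fun w hw => (hall w (List.drop_subset _ _ hw)).1
  rw [show el ((sevenWords.drop 2).flatMap tw) = el [0, 6] from eqW_spec he, el_pair] at h5
  rw [h5, show (fun w => T (img w 0)) = T ∘ fun w => img w 0 from rfl, ← List.map_map, List.map_drop, hmap]
  rfl

/-! ### Triples -/

theorem six_ok : (allLt (fun p => !(Nat.beq (img [0, 6, 2] p) p) || sixPts.contains p ||
      tripleCert.any (fun c => Nat.beq (img c.1 0) p)) 3510 &&
    Nat.beq sixPts.length 6 &&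
    tripleCert.all (fun c => ok c.1 && ok c.2.1 && ok c.2.2.1 && ok c.2.2.2 &&
      eqW (tw c.1 ++ [0, 6, 2]) (tw c.2.1 ++ tw c.2.2.1 ++ tw c.2.2.2) &&
      !(Nat.beq (img c.2.1 0) (img c.2.2.1 0)) && !(Nat.beq (img c.2.1 0) (img c.2.2.2 0)) &&
      !(Nat.beq (img c.2.2.1 0) (img c.2.2.2 0)) &&
      Nat.beq (img (tw c.2.1) (img c.2.2.1 0)) (img c.2.2.1 0) &&
      Nat.beq (img (tw c.2.1) (img c.2.2.2 0)) (img c.2.2.2 0) &&
      Nat.beq (img (tw c.2.2.1) (img c.2.2.2 0)) (img c.2.2.2 0))) = true := by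
  decide +kernel

/-- A triple has at most six transpositions making it a pair. -/
theorem six_bound {v : X} (hv : IsProd D0 3 v) :
    ∃ S : Finset X, S.card ≤ 6 ∧ ∀ m ∈ D0, Commute m v → IsProd D0 2 (m * v) → m ∈ S := by
  classical
  have key := six_ok
  simp only [Bool.and_eq_true, List.all_eq_true, Bool.not_eq_true', Bool.eq_false_iff] at key
  obtain ⟨⟨hall, h6⟩, hcert⟩ := key
  have ht0 : IsProd D0 3 (el [0, 6, 2]) := by
    rw [el_triple]
    refine isProd_three.2 ⟨T 0, T_mem 0, T 154, ⟨T_mem _, ?_, seven_commute (by simp) (by simp)⟩, T 6,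
      ⟨⟨T_mem _, ?_, seven_commute (by simp) (by simp)⟩, ⟨T_mem _, ?_, seven_commute (by simp) (by simp)⟩⟩, rfl⟩ <;>
      exact fun e => absurd (T_inj (by decide) (by decide) e) (by decide)
  obtain ⟨h, hh⟩ := isConj_iff.1 (conj_prod (by norm_num) le_rfl ht0 hv)
  refine ⟨sixPts.toFinset.image fun p => h * T p * h⁻¹,
    Finset.card_image_le.trans ((List.toFinset_card_le _).trans (Nat.eq_of_beq_eq_true h6).le), fun m hm hc hp => ?_⟩
  obtain ⟨p, hp', hpe⟩ := exists_T ((D0_conj h⁻¹).2 hm)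
  rw [inv_inv] at hpe
  have hm' : m = h * T p * h⁻¹ := by rw [hpe]; group
  have hc' : Commute (el [0, 6, 2]) (T p) := by
    have := hc.symm.map (MulAut.conj h⁻¹).toMonoidHom
    rw [← hh, hm'] at this
    simpa [mul_assoc] using this
  have hi := allLt_spec hall p hp'
  rw [(commute_el_iff (by decide) hp').1 hc', Nat.beq_refl, Bool.not_true, Bool.false_or, Bool.or_eq_true,
    List.contains_iff_mem, List.any_eq_true] at hi
  rcases hi with hi | ⟨c, hc1, hc2⟩
  · exact Finset.mem_image.2 ⟨p, List.mem_toFinset.2 hi, hm'.symm⟩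
  · exfalso
    obtain ⟨⟨⟨⟨⟨⟨⟨⟨⟨⟨o1, o2⟩, o3⟩, o4⟩, he⟩, n1⟩, n2⟩, n3⟩, c1⟩, c2⟩, c3⟩ := hcert c hc1
    have hlt : ∀ {w : List ℕ}, ok w = true → img w 0 < rep.N := fun hw => img_lt hw (by decide)
    have e := eqW_spec he
    rw [Inst.FiTwentyTwo.evW_cat, Inst.FiTwentyTwo.evW_cat, Inst.FiTwentyTwo.evW_cat, evW_tw o1, Nat.eq_of_beq_eq_true hc2] at e
    have h3 : IsProd D0 3 (T p * el [0, 6, 2]) := by
      rw [show el [0, 6, 2] = evW Fi22UCosets.ev [0, 6, 2] from rfl, e, show evW Fi22UCosets.ev (tw c.2.1) = T (img c.2.1 0) from evW_tw o2,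
        show evW Fi22UCosets.ev (tw c.2.2.1) = T (img c.2.2.1 0) from evW_tw o3,
        show evW Fi22UCosets.ev (tw c.2.2.2) = T (img c.2.2.2 0) from evW_tw o4]
      exact isProd_three.2 ⟨_, T_mem _, _, ⟨T_mem _, fun e => n1 (by rw [T_inj (hlt o3) (hlt o2) e]; exact Nat.beq_refl _),
        (commute_T_T o2 (hlt o3)).2 (Nat.eq_of_beq_eq_true c1)⟩, _, ⟨⟨T_mem _, fun e => n2 (by rw [T_inj (hlt o4) (hlt o2) e]; exact Nat.beq_refl _),
        (commute_T_T o2 (hlt o4)).2 (Nat.eq_of_beq_eq_true c2)⟩, ⟨T_mem _, fun e => n3 (by rw [T_inj (hlt o4) (hlt o3) e]; exact Nat.beq_refl _),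
        (commute_T_T o3 (hlt o4)).2 (Nat.eq_of_beq_eq_true c3)⟩⟩, rfl⟩
    have h2 : IsProd D0 2 (T p * el [0, 6, 2]) := by
      have := isProd_conj h⁻¹ hp
      rw [hm', ← hh] at this
      simpa [mul_assoc] using this
    exact absurd (len_unique (by norm_num) (by norm_num) (by norm_num) le_rfl h2 h3) (by norm_num)

/-! ### Counts -/

/-- Counting below a bound. -/
noncomputable def cnt (f : ℕ → Bool) : ℕ → ℕ :=
  Nat.rec (motive := fun _ => ℕ) 0 fun k ih => cond (f k) (ih + 1) ih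

theorem card_filter_cnt (f : ℕ → Bool) : ∀ n, ((Finset.range n).filter fun i => f i = true).card = cnt f n
  | 0 => rfl
  | n + 1 => by
    rw [Finset.range_add_one, Finset.filter_insert]
    show _ = cond (f n) (cnt f n + 1) (cnt f n)
    cases hf : f n
    · simpa using card_filter_cnt f n
    · rw [if_pos rfl, Finset.card_insert_of_notMem (by simp), card_filter_cnt f n]
      rfl

/-- The points commuting with the first. -/
def nbr0 : Finset ℕ := (Finset.range 3510).filter fun p => bit maskA p = true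

theorem card_nbr0 : nbr0.card = 693 := by
  rw [nbr0, card_filter_cnt]
  decide +kernel

theorem mem_nbr0 {p : ℕ} (hp : p < rep.N) : p ∈ nbr0 ↔ Commute (T 0) (T p) ∧ p ≠ 0 := by
  rw [nbr0, Finset.mem_filter, Finset.mem_range, bit_eq, T, T, pt_zero, tp_base, commute_a_iff, pt_val hp]
  refine ⟨fun h => ⟨Or.inr h.2, fun e => by rw [e, maskA_o] at h; exact Bool.noConfusion h.2⟩, fun h => ⟨hp, ?_⟩⟩
  refine h.1.resolve_left fun e => h.2 ?_
  rw [← pt_val hp, e]
  rfl

/-- At most so many triples make a pair with the first transposition. -/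
theorem options_le : ∃ S : Finset X, S.card ≤ 124740 ∧
    ∀ v, IsProd D0 3 v → Commute v (T 0) → IsProd D0 2 (T 0 * v) → v ∈ S := by
  classical
  have hB : ((Finset.range 3510).filter fun q =>
      (bit maskA q && Nat.beq (img [6] q) q && !(Nat.beq q 154)) = true).card = 180 := by
    rw [card_filter_cnt]
    decide +kernel
  have hk : ∀ p : ℕ, ∃ k : X, p ∈ nbr0 → k * T 0 * k⁻¹ = T 0 ∧ k * T p * k⁻¹ = T 154 := by
    intro p
    by_cases hp : p ∈ nbr0
    · have hlt : p < rep.N := Finset.mem_range.1 (Finset.mem_filter.1 hp).1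
      obtain ⟨k, h1, h2⟩ := pair_to_std (T_mem 0) (T_mem p)
        (fun e => ((mem_nbr0 hlt).1 hp).2 (T_inj hlt (by decide) e)) ((mem_nbr0 hlt).1 hp).1
      exact ⟨k, fun _ => ⟨h1, h2⟩⟩
    · exact ⟨1, fun h => absurd h hp⟩
  choose k hk using hk
  refine ⟨(nbr0 ×ˢ (Finset.range 3510).filter fun q =>
      (bit maskA q && Nat.beq (img [6] q) q && !(Nat.beq q 154)) = true).image
    (fun pq => (k pq.1)⁻¹ * (T 0 * T 154 * T pq.2) * k pq.1), ?_, fun v hv hc hp => ?_⟩
  · refine Finset.card_image_le.trans ?_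
    rw [Finset.card_product, card_nbr0, hB]
  obtain ⟨m1, hm1, m2, ⟨hm2, hne, h12⟩, he⟩ := isProd_two.1 hp
  have hva : Commute (T 0) (m1 * m2) := he ▸ (Commute.refl _).mul_right hc.symm
  obtain ⟨ha1, ha2⟩ := pair_commute (T_mem 0) hm1 hm2 hne h12 hva
  have hv' : v = T 0 * (m1 * m2) := by rw [← he, ← mul_assoc, D0_sq (T_mem 0), one_mul]
  have h13 : ∀ m : X, v = m → m ∈ D0 → False := fun m e hm => by
    have := len_unique (by norm_num) le_rfl (by norm_num) (by norm_num) hv (isProd_one.2 (e.symm ▸ hm : v ∈ D0))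
    exact absurd this (by norm_num)
  have e1 : m1 ≠ T 0 := fun e => h13 m2 (by rw [hv', e, ← mul_assoc, D0_sq (T_mem 0), one_mul]) hm2
  have e2 : m2 ≠ T 0 := fun e => h13 m1 (by rw [hv', h12.eq, e, ← mul_assoc, D0_sq (T_mem 0), one_mul]) hm1
  obtain ⟨p, hp', rfl⟩ := exists_T hm1
  have hpn : p ∈ nbr0 := (mem_nbr0 hp').2 ⟨ha1, fun e => e1 (by rw [e])⟩
  obtain ⟨k0, k1⟩ := hk p hpn
  obtain ⟨q, hq, hqe⟩ := exists_T ((D0_conj (k p)).2 hm2)
  have hq0 : Commute (T 0) (T q) := by rw [hqe, ← k0]; exact ha2.map (MulAut.conj (k p)).toMonoidHom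
  have hq1 : Commute (T 154) (T q) := by rw [hqe, ← k1]; exact h12.map (MulAut.conj (k p)).toMonoidHom
  have hqA : bit maskA q = true := (Finset.mem_filter.1 ((mem_nbr0 hq).2 ⟨hq0, fun e => e2 (by
    rw [e, ← k0] at hqe
    exact (mul_left_cancel (mul_right_cancel hqe)).symm)⟩)).2
  refine Finset.mem_image.2 ⟨(p, q), Finset.mem_product.2 ⟨hpn, Finset.mem_filter.2 ⟨Finset.mem_range.2 hq, ?_⟩⟩, ?_⟩
  · rw [hqA, Bool.true_and, Bool.and_eq_true, Bool.not_eq_true', Bool.eq_false_iff]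
    have h6 : img [6] q = q := (commute_el_iff (by decide) hq).1 (by rw [el_one, ← T_gpts 6 (by decide)]; exact hq1)
    refine ⟨by show Nat.beq (img [6] q) q = true; rw [h6]; exact Nat.beq_refl _, fun e => hne ?_⟩
    rw [show q = 154 from Nat.eq_of_beq_eq_true e, ← k1] at hqe
    exact (mul_left_cancel (mul_right_cancel hqe)).symm
  · show (k p)⁻¹ * (T 0 * T 154 * T q) * k p = v
    have := hqe
    rw [this]
    conv_lhs => rw [← k1]
    conv_lhs => enter [1, 2, 1, 1]; rw [← k0]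
    rw [hv']
    group

/-- There are at least so many products of two commuting transpositions. -/
theorem pairs_ge : ∃ S : Finset X, (∀ x ∈ S, IsProd D0 2 x) ∧ 1216215 ≤ S.card := by
  classical
  let g : Fin rep.N → X := fun j => (P.trans j).choose
  let f : Fin rep.N × ℕ → X := fun z => g z.1 * (T 0 * T z.2) * (g z.1)⁻¹
  have htp : ∀ j, g j * T 0 * (g j)⁻¹ = P.tp j := fun j => by rw [T, pt_zero, tp_base]; rfl
  have hdata : ∀ z ∈ (Finset.univ : Finset (Fin rep.N)) ×ˢ nbr0, P.tp z.1 ∈ D0 ∧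
      g z.1 * T z.2 * (g z.1)⁻¹ ∈ D0 ∧ g z.1 * T z.2 * (g z.1)⁻¹ ≠ P.tp z.1 ∧
      Commute (P.tp z.1) (g z.1 * T z.2 * (g z.1)⁻¹) ∧
      f z = P.tp z.1 * (g z.1 * T z.2 * (g z.1)⁻¹) ∧ z.2 < rep.N := by
    rintro ⟨j, p⟩ hz
    have hp := (Finset.mem_product.1 hz).2
    have hlt : p < rep.N := Finset.mem_range.1 (Finset.mem_filter.1 hp).1
    obtain ⟨h1, h2⟩ := (mem_nbr0 hlt).1 hp
    refine ⟨P.tp_mem j, (D0_conj _).2 (T_mem p), fun e => h2 (T_inj hlt (by decide) ?_), ?_, ?_, hlt⟩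
    · rw [← htp] at e
      exact mul_left_cancel (mul_right_cancel e)
    · rw [← htp]; exact h1.map (MulAut.conj (g j)).toMonoidHom
    · rw [← htp]
      show g j * (T 0 * T p) * (g j)⁻¹ = _
      group
  refine ⟨((Finset.univ : Finset (Fin rep.N)) ×ˢ nbr0).image f, fun x hx => ?_, ?_⟩
  · obtain ⟨z, hz, rfl⟩ := Finset.mem_image.1 hx
    obtain ⟨a1, a2, a3, a4, a5, -⟩ := hdata z hz
    rw [a5]
    exact pair_prod a1 a2 a3 a4
  · have h := Finset.card_le_mul_card_image (f := f) ((Finset.univ : Finset (Fin rep.N)) ×ˢ nbr0) 2 fun b hb => by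
      obtain ⟨z₀, hz₀, rfl⟩ := Finset.mem_image.1 hb
      obtain ⟨a1, a2, a3, a4, a5, -⟩ := hdata z₀ hz₀
      obtain ⟨j₁, hj₁⟩ := P.tp_surj a2
      refine (Finset.card_le_card_of_injOn Prod.fst (t := {z₀.1, j₁}) ?_ ?_).trans Finset.card_le_two
      · intro z hz
        obtain ⟨hz, hze⟩ := Finset.mem_filter.1 hz
        obtain ⟨b1, b2, -, b4, b5, -⟩ := hdata z hz
        rcases pair_unique a1 a2 a3 a4 b1 b2 b4 (a5.symm.trans (hze.symm.trans b5)) with e | e
        · simp [P.tp_injective e]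
        · simp [P.tp_injective (e.trans hj₁.symm)]
      · intro z hz z' hz' e
        obtain ⟨hz, hze⟩ := Finset.mem_filter.1 hz
        obtain ⟨hz', hze'⟩ := Finset.mem_filter.1 hz'
        have e' : z.1 = z'.1 := e
        refine Prod.ext e' (T_inj (hdata z hz).2.2.2.2.2 (hdata z' hz').2.2.2.2.2 ?_)
        have h6 : g z.1 * (T 0 * T z.2) * (g z.1)⁻¹ = g z.1 * (T 0 * T z'.2) * (g z.1)⁻¹ := by
          have := hze.trans hze'.symm
          show f z = _
          rw [this, e']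
        exact mul_left_cancel (mul_left_cancel (mul_right_cancel h6))
    rw [Finset.card_product, Finset.card_univ, Fintype.card_fin, card_nbr0] at h
    have hN : rep.N = 3510 := rfl
    omega

end CfsgLib.ThreeTrans.FiCent
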