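import Cfsg.Agent.Lib.ThreeTrans.FiCent.Extend
import Cfsg.Agent.Lib.ThreeTrans.FiCent.OddGen
import Cfsg.Agent.Lib.ThreeTrans.FiCent.Types
import Cfsg.Agent.Lib.Involutions.BrauerSuzuki
import Cfsg.Agent.Lib.PCore.Basic

/-!
In a group containing the presented Fischer group on 22 letters with the centraliser of a transposition,
the centraliser of a product of two commuting transpositions lies inside.
-/

set_option autoImplicit false
set_option linter.unusedSectionVars false

namespace CfsgLib.ThreeTrans.FiCent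

open Subgroup CfsgLib.Presented CfsgLib.Presented.Fi22Pts
open CfsgLib.ThreeTrans.Inst.FiTwentyTwo (P)
open CfsgLib.ThreeTrans.TypeTop (IsProd isProd_one)

variable {G : Type*} [Group G]

/-- A copy of the presented group containing the centraliser of the image of a transposition. -/
structure Emb (d : G) (θ : ↥H0 ≃* ↥(Cd d)) (φ : X →* G) : Prop where
  link : Link d θ
  inj : Function.Injective φ
  agree : ∀ x : ↥H0, φ x = θ x
  mapsTo : ∀ x ∈ D0, φ x ∈ conjugatesOf d

variable {d : G} {θ : ↥H0 ≃* ↥(Cd d)} {φ : X →* G}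

theorem Emb.base (E : Emb d θ φ) : φ (T 0) = d := by
  rw [T_zero, ← E.link.base]
  exact E.agree aH

theorem Emb.comm_iff (E : Emb d θ φ) {x y : X} : Commute (φ x) (φ y) ↔ Commute x y :=
  ⟨fun h => E.inj (by rw [map_mul, map_mul]; exact h.eq), fun h => h.map φ⟩

theorem Emb.of_commute_base (E : Emb d θ φ) {g : G} (h : Commute g d) :
    ∃ x : ↥H0, φ x = g := by
  refine ⟨θ.symm ⟨g, mem_centralizer_singleton_iff.2 h.eq⟩, ?_⟩
  rw [E.agree, MulEquiv.apply_symm_apply]

/-- The centraliser of a transposition is inside. -/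
theorem Emb.of_commute (E : Emb d θ φ) {t : X} (ht : t ∈ D0) {g : G} (h : Commute g (φ t)) :
    g ∈ φ.range := by
  obtain ⟨c, rfl⟩ := P.cls _ (T_mem 0) t ht
  have h' : Commute ((φ c)⁻¹ * g * φ c) d := by
    rw [map_mul φ, map_mul φ, map_inv φ, E.base] at h
    have := h.map (MulAut.conj (φ c)⁻¹).toMonoidHom
    simpa [mul_assoc] using this
  obtain ⟨x, hx⟩ := E.of_commute_base h'
  exact ⟨c * x * c⁻¹, by rw [map_mul, map_mul, map_inv, hx]; group⟩

/-- The transpositions inside are those conjugate to the given involution. -/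
theorem Emb.mem_D (E : Emb d θ φ) {x : X} : φ x ∈ conjugatesOf d ↔ x ∈ D0 := by
  refine ⟨fun h => ?_, E.mapsTo x⟩
  obtain ⟨g, hg⟩ := isConj_iff.1 h
  have hx2 : x * x = 1 := E.inj (by
    rw [map_one, map_mul, ← hg, ← E.base,
      show g * φ (T 0) * g⁻¹ * (g * φ (T 0) * g⁻¹) = g * (φ (T 0) * φ (T 0)) * g⁻¹ by group,
      ← map_mul, D0_sq (T_mem 0), map_one, mul_one, mul_inv_cancel])
  obtain ⟨t, ht, hxt⟩ := member_fix hx2
  obtain ⟨c, hc⟩ := P.cls t ht _ (T_mem 0)
  have hy : c * x * c⁻¹ ∈ H0 := mem_H0_iff.2 (by rw [← hc]; exact hxt.map (MulAut.conj c).toMonoidHom)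
  have : (θ ⟨_, hy⟩ : G) ∈ conjugatesOf d := by
    rw [← E.agree]
    show φ (c * x * c⁻¹) ∈ _
    rw [map_mul, map_mul, map_inv, conjugatesOf_conj]
    exact h
  exact (D0_conj c).1 ((E.link.cls _).1 this)

variable [Finite G]

/-- The centraliser of the standard pair is inside. -/
theorem Emb.of_commute_std (E : Emb d θ φ) {k : G} (hk : Commute k (φ (T 0 * T 154))) : k ∈ φ.range := by
  classical
  set z : G := φ (T 0 * T 154) with hz
  have h154 : T 154 ≠ T 0 := fun e => absurd (T_inj (by decide) (by decide) e) (by decide)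
  have hag : Commute (T 0) (T 154) := seven_commute (by simp) (by simp)
  have hz2 : z * z = 1 := by
    rw [hz, ← map_mul, show T 0 * T 154 * (T 0 * T 154) = T 0 * (T 154 * T 0) * T 154 by group, ← hag.eq,
      show T 0 * (T 0 * T 154) * T 154 = (T 0 * T 0) * (T 154 * T 154) by group, D0_sq (T_mem 0),
      D0_sq (T_mem 154), one_mul, map_one]
  have hd2 : d * d = 1 := by rw [← E.base, ← map_mul, D0_sq (T_mem 0), map_one]
  have hdz : Commute d z := by
    rw [hz, ← E.base]
    exact ((Commute.refl _).mul_right hag).map φ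
  have hd1 : d ≠ 1 := fun e => D0_ne_one (T_mem 0) (E.inj (by rw [E.base, e, map_one]))
  have hdz' : d ≠ z := fun e => D0_ne_one (T_mem 154) (E.inj (by
    have h' : φ (T 154) = d * z := by rw [hz, map_mul, E.base, ← mul_assoc, hd2, one_mul]
    rw [h', ← e, hd2, map_one]))
  have hzd : d * z = φ (T 154) := by
    rw [hz, map_mul, E.base, ← mul_assoc, hd2, one_mul]
  have hswap : ∃ h : X, h * T 0 * h⁻¹ = T 154 ∧ h * T 154 * h⁻¹ = T 0 :=
    exists_swap (T_mem 154) h154 hag.symm
  -- a conjugate of `d` under the centraliser that lies inside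
  have inside : ∀ g : G, Commute g z → ∀ x : X, φ x = g * d * g⁻¹ → x = T 0 ∨ x = T 154 := by
    intro g hg x hx
    have hxD : x ∈ D0 := E.mem_D.1 (by rw [hx, conjugatesOf_conj]; exact mem_conjugatesOf_self)
    refine third hxD (T_mem 0) (T_mem 154) h154 hag ?_ ?_
    · refine E.comm_iff.1 ?_
      rw [hx, ← hz]
      exact (hg.mul_left hdz).mul_left hg.inv_left
    · refine E.mem_D.1 ?_
      rw [map_mul, hx, ← hz, show g * d * g⁻¹ * z = g * (d * z) * g⁻¹ by
        rw [show g * (d * z) * g⁻¹ = g * d * g⁻¹ * (g * z * g⁻¹) by group, hg.eq, mul_inv_cancel_right],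
        hzd, conjugatesOf_conj]
      exact E.mapsTo _ (T_mem 154)
  -- the centraliser
  set K : Subgroup G := centralizer ({z} : Set G) with hK
  have hmemK : ∀ {g : G}, g ∈ K ↔ Commute g z := fun {g} => mem_centralizer_singleton_iff
  set zK : ↥K := ⟨z, hmemK.2 (Commute.refl z)⟩ with hzK
  set xK : ↥K := ⟨d, hmemK.2 hdz⟩ with hxK
  have hNn : (zpowers zK).Normal := by
    refine ⟨fun n hn g => ?_⟩
    obtain ⟨i, rfl⟩ := mem_zpowers_iff.1 hn
    have hc : Commute g zK := Subtype.ext (hmemK.1 g.2).eq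
    rw [(hc.zpow_right i).eq, mul_inv_cancel_right]
    exact zpow_mem (mem_zpowers zK) i
  set π := QuotientGroup.mk' (zpowers zK) with hπ
  have hz_one : ∀ n : ↥K, π n = 1 → n = 1 ∨ n = zK := by
    intro n hn
    rw [hπ, QuotientGroup.mk'_apply, QuotientGroup.eq_one_iff] at hn
    obtain ⟨i, rfl⟩ := mem_zpowers_iff.1 hn
    have hsq : zK ^ (2 : ℤ) = 1 := by rw [zpow_two]; exact Subtype.ext hz2
    rcases Int.even_or_odd i with ⟨j, rfl⟩ | ⟨j, rfl⟩
    · left; rw [← two_mul, zpow_mul, hsq, one_zpow]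
    · right; rw [zpow_add, zpow_mul, hsq, one_zpow, one_mul, zpow_one]
  have hxz : xK ≠ zK := fun e => hdz' (congrArg Subtype.val e)
  have hiso : Cfsg.IsIsolatedInvolution (π xK) := by
    refine ⟨orderOf_eq_prime ?_ ?_, fun q hq => ?_⟩
    · rw [pow_two, ← map_mul, show xK * xK = 1 from Subtype.ext hd2, map_one]
    · intro e
      rcases hz_one xK e with e | e
      · exact hd1 (congrArg Subtype.val e)
      · exact hxz e
    obtain ⟨g, rfl⟩ := QuotientGroup.mk'_surjective (zpowers zK) q
    rw [← map_inv, ← map_mul, ← map_mul] at hq ⊢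
    set yK := g * xK * g⁻¹ with hy
    have hy2 : yK * yK = 1 := by
      rw [hy, show g * xK * g⁻¹ * (g * xK * g⁻¹) = g * (xK * xK) * g⁻¹ by group,
        show xK * xK = 1 from Subtype.ext hd2, mul_one, mul_inv_cancel]
    have hg : Commute (g : G) z := hmemK.1 g.2
    change Commute (π xK) (π yK) at hq
    have hxy : π ((xK * yK) * (yK * xK)⁻¹) = 1 := by
      rw [map_mul π (xK * yK), map_inv, map_mul π xK, map_mul π yK, hq.eq, mul_inv_cancel]
    rcases hz_one _ hxy with e | e
    · have hc : Commute (g * d * (g : G)⁻¹) d :=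
        (congrArg Subtype.val (mul_inv_eq_one.1 e)).symm
      obtain ⟨x, hx⟩ := E.of_commute_base hc
      rcases inside g hg x hx with e' | e'
      · exact congrArg π (Subtype.ext (by show (g : G) * d * (g : G)⁻¹ = d; rw [← hx, e', E.base]))
      · have : yK = zK * xK := Subtype.ext (by
          show (g : G) * d * (g : G)⁻¹ = z * d
          rw [← hx, e', hz, map_mul, E.base]
          calc φ (T 154) = d * d * φ (T 154) := by rw [hd2, one_mul]
            _ = d * (φ (T 0) * φ (T 154)) := by rw [E.base, mul_assoc]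
            _ = d * (φ (T 154) * φ (T 0)) := by rw [(hag.map φ).eq]
            _ = _ := by rw [E.base, mul_assoc])
        rw [this, map_mul, show π zK = 1 from (QuotientGroup.eq_one_iff zK).2 (mem_zpowers zK), one_mul]
    · -- `yK` carries `xK` to the other factor
      exfalso
      have e1 : d * (g * d * (g : G)⁻¹) * ((g * d * (g : G)⁻¹) * d)⁻¹ = z := congrArg Subtype.val e
      set y : G := g * d * (g : G)⁻¹ with hyG
      have hyy : y * y = 1 := congrArg Subtype.val hy2
      have e2 : y * d * y⁻¹ = φ (T 154) := by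
        have e3 : y * d * y⁻¹ = d⁻¹ * z := by
          have e4 : (y * d)⁻¹ = d * y := inv_eq_of_mul_eq_one_right (by
            rw [mul_assoc, ← mul_assoc d, hd2, one_mul, hyy])
          rw [← e1, e4, inv_eq_of_mul_eq_one_right hd2, inv_eq_of_mul_eq_one_right hyy]
          simp only [← mul_assoc, hd2, one_mul]
        rw [e3, inv_eq_of_mul_eq_one_right hd2, hzd]
      obtain ⟨h, h1, -⟩ := hswap
      have hyr : y ∈ φ.range := by
        have hc : Commute ((φ h)⁻¹ * y) d := by
          refine (mul_inv_eq_iff_eq_mul.1 ?_)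
          calc (φ h)⁻¹ * y * d * ((φ h)⁻¹ * y)⁻¹ = (φ h)⁻¹ * (y * d * y⁻¹) * φ h := by group
            _ = d := by rw [e2, ← h1, map_mul, map_mul, map_inv, E.base]; group
        obtain ⟨x, hx⟩ := E.of_commute_base hc
        exact ⟨h * x, by rw [map_mul, hx, mul_inv_cancel_left]⟩
      obtain ⟨x, hx⟩ := hyr
      rcases inside g hg x hx with e' | e'
      · rw [← hx, e', E.base, mul_inv_cancel_right] at e2
        exact h154 (E.inj (by rw [← e2, E.base]))
      · rw [← hx, e', ← E.base] at e2
        have h5 := (mul_inv_eq_iff_eq_mul.1 e2)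
        exact h154 (E.inj (mul_left_cancel h5)).symm
  have hZ := CfsgLib.Involutions.zstar _ (π xK) hiso
  set O := Cfsg.pPrimeCore 2 (↥K ⧸ zpowers zK) with hO
  have hOodd : Odd (Nat.card O) := Nat.coprime_two_right.1 PCore.pPrimeCore_coprime
  set N : Subgroup ↥K := O.comap π with hN
  have hNN : N.Normal := by rw [hN]; infer_instance
  have hker : zpowers zK = π.ker := (QuotientGroup.ker_mk' _).symm
  have hzN : zpowers zK ≤ N := by rw [hker, ← MonoidHom.comap_bot]; exact comap_mono bot_le
  -- the part of odd order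
  have hrel : (zpowers zK).relIndex N = Nat.card O := by
    conv_lhs => rw [hker, ← MonoidHom.comap_bot]
    rw [relIndex_comap, relIndex_bot_left, hN, map_comap_eq_self_of_surjective (QuotientGroup.mk'_surjective _)]
  have hord : orderOf zK = 2 := by
    refine orderOf_eq_prime (by rw [pow_two]; exact Subtype.ext hz2) fun e => hdz' ?_
    have e' : z = 1 := congrArg Subtype.val e
    exfalso
    rw [hz, ← map_one φ] at e'
    exact h154 (mul_left_cancel ((E.inj e').trans (D0_sq (T_mem 0)).symm))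
  have hcop : (Nat.card ((zpowers zK).subgroupOf N)).Coprime ((zpowers zK).subgroupOf N).index := by
    rw [Nat.card_congr (subgroupOfEquivOfLe hzN).toEquiv, Nat.card_zpowers, hord]
    rw [show ((zpowers zK).subgroupOf N).index = (zpowers zK).relIndex N from rfl, hrel]
    exact Nat.coprime_two_left.2 hOodd
  obtain ⟨H, hH⟩ := exists_right_complement'_of_coprime hcop
  have hHcard : Nat.card H = Nat.card O := by
    rw [← hH.symm.index_eq_card]
    exact hrel
  set c := Nat.card O with hc
  have hHmem : ∀ u : ↥N, (u : ↥K) ^ c = 1 → u ∈ H := by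
    intro u hu
    obtain ⟨⟨⟨n, hn⟩, ⟨h, hh⟩⟩, e, -⟩ := hH.existsUnique u
    have e' : n * h = u := e
    have hnc : Commute (n : ↥K) (h : ↥K) := by
      obtain ⟨i, hi⟩ := mem_zpowers_iff.1 (mem_subgroupOf.1 hn)
      rw [← hi]
      exact (show Commute zK (h : ↥K) from Subtype.ext (hmemK.1 (h : ↥K).2).eq.symm).zpow_left i
    have h1 : (h : ↥K) ^ c = 1 := by
      have := congrArg (fun t : ↥H => ((t : ↥N) : ↥K)) (pow_card_eq_one' (x := (⟨h, hh⟩ : ↥H)))
      rw [hHcard] at this
      simpa using this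
    have hn1 : (n : ↥K) = 1 := by
      rw [← e', Subgroup.coe_mul, hnc.mul_pow, h1, mul_one] at hu
      rcases hz_one (n : ↥K) ((QuotientGroup.eq_one_iff _).2 (mem_subgroupOf.1 hn)) with e2 | e2
      · exact e2
      · exfalso
        rw [e2] at hu
        have := orderOf_dvd_of_pow_eq_one hu
        rw [hord] at this
        exact (Nat.not_even_iff_odd.2 hOodd) (even_iff_two_dvd.2 this)
    rw [← e', show n = 1 from Subtype.ext hn1, one_mul]
    exact hh
  set W : Subgroup G := H.map (K.subtype.comp N.subtype) with hW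
  have hWodd : Odd (Nat.card W) := by
    rw [hW, card_map_of_injective (show Function.Injective (K.subtype.comp N.subtype) from
      K.subtype_injective.comp N.subtype_injective), hHcard]
    exact hOodd
  have hWinv : ∀ s : X, Commute s (T 0 * T 154) → s * s = 1 → ∀ u ∈ W, φ s * u * φ s ∈ W := by
    rintro s hs hs2 _ ⟨u, hu, rfl⟩
    set sK : ↥K := ⟨φ s, hmemK.2 (hs.map φ)⟩ with hsK
    have hmem : sK * (u : ↥K) * sK⁻¹ ∈ N := hNN.conj_mem _ u.2 sK
    refine ⟨⟨_, hmem⟩, hHmem _ ?_, ?_⟩
    · show (sK * (u : ↥K) * sK⁻¹) ^ c = 1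
      have h1 := congrArg (fun t : ↥H => ((t : ↥N) : ↥K)) (pow_card_eq_one' (x := (⟨u, hu⟩ : ↥H)))
      rw [hHcard] at h1
      simp only [SubmonoidClass.coe_pow, OneMemClass.coe_one] at h1
      rw [conj_pow, h1, mul_one, mul_inv_cancel]
    · show φ s * ((u : ↥K) : G) * (φ s)⁻¹ = φ s * ((u : ↥K) : G) * φ s
      rw [← map_inv, inv_eq_of_mul_eq_one_right hs2]
  have hWK : ∀ u ∈ W, Commute u z := by
    rintro _ ⟨u, -, rfl⟩
    exact hmemK.1 (u : ↥K).2
  have hfive : ∀ r ∈ five, Commute r (T 0 * T 154) := fun r hr =>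
    (five_commute hr).1.symm.mul_right (five_commute hr).2.1.symm
  have hWle : W ≤ φ.range := by
    refine odd_chain hWodd hd2 ?_ ?_ (five.map φ) ?_ ?_
    · rw [← E.base]
      exact hWinv (T 0) ((Commute.refl _).mul_right hag) (D0_sq (T_mem 0))
    · intro u _ hu
      exact E.of_commute (T_mem 0) (by rwa [E.base])
    · intro r hr
      obtain ⟨r, hr0, rfl⟩ := List.mem_map.1 hr
      refine ⟨by rw [← map_mul, D0_sq (five_mem hr0), map_one], ?_, hWinv r (hfive r hr0) (D0_sq (five_mem hr0)),
        fun u _ hu => E.of_commute (five_mem hr0) hu, ?_⟩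
      · rw [← E.base]; exact (five_commute hr0).1.map φ
      · intro r' hr'
        obtain ⟨r', hr1, rfl⟩ := List.mem_map.1 hr'
        exact ((five_commute hr0).2.2 r' hr1).map φ
    · intro u hu hur
      refine E.of_commute (T_mem 0) ?_
      rw [E.base]
      have key : ∀ l : List G, (∀ r ∈ l, Commute d r) → (∀ r ∈ l, Commute u (d * r)) →
          Commute u (d ^ l.length * l.prod) := by
        intro l
        induction l with
        | nil => intros; simp
        | cons r l ih =>
          intro h1 h2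
          have h3 := (h2 r List.mem_cons_self).mul_right
            (ih (fun q hq => h1 q (List.mem_cons_of_mem _ hq)) fun q hq => h2 q (List.mem_cons_of_mem _ hq))
          rw [List.length_cons, pow_succ', List.prod_cons]
          rwa [show d * r * (d ^ l.length * l.prod) = d * d ^ l.length * (r * l.prod) by
            rw [mul_assoc d r, ← mul_assoc r, ((h1 r List.mem_cons_self).pow_left _).symm.eq]
            simp only [mul_assoc]] at h3
      have h1 := key (five.map φ) (fun r hr => by
        obtain ⟨r, hr0, rfl⟩ := List.mem_map.1 hr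
        rw [← E.base]; exact (five_commute hr0).1.map φ) hur
      rw [← map_list_prod, five_prod, ← hz, List.length_map] at h1
      have h5 : d ^ five.length = d := by
        show d ^ 5 = d
        rw [show d ^ 5 = d * d * (d * d) * d by simp [pow_succ, mul_assoc], hd2, one_mul, one_mul]
      rw [h5] at h1
      have := h1.mul_right (hWK u hu).inv_right
      rwa [mul_inv_cancel_right] at this
  have hNle : ∀ n ∈ N, (n : G) ∈ φ.range := by
    intro n hn
    obtain ⟨⟨⟨m, hm⟩, ⟨h, hh⟩⟩, e, -⟩ := hH.existsUnique ⟨n, hn⟩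
    have e' : (m : ↥K) * (h : ↥K) = n := congrArg Subtype.val e
    rw [← e', Subgroup.coe_mul]
    refine mul_mem ?_ (hWle ⟨h, hh, rfl⟩)
    rcases hz_one (m : ↥K) ((QuotientGroup.eq_one_iff _).2 (mem_subgroupOf.1 hm)) with e2 | e2 <;> rw [e2]
    · exact one_mem _
    · exact ⟨_, hz.symm⟩
  have hkK : k ∈ K := hmemK.2 hk
  have hcomm : (⟨k, hkK⟩ : ↥K) * xK * ⟨k, hkK⟩⁻¹ * xK⁻¹ ∈ N := by
    rw [hN, mem_comap, map_mul, map_mul, map_mul, map_inv, map_inv]
    exact hZ _
  obtain ⟨x, hx⟩ : k * d * k⁻¹ ∈ φ.range := by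
    have := mul_mem (hNle _ hcomm) (show d ∈ φ.range from ⟨_, E.base⟩)
    change k * d * k⁻¹ * d⁻¹ * d ∈ φ.range at this
    rwa [inv_mul_cancel_right] at this
  rcases inside k hk x hx with e | e
  · exact E.of_commute (T_mem 0) (by
      rw [E.base]; exact mul_inv_eq_iff_eq_mul.1 (by rw [← hx, e, E.base]))
  · obtain ⟨h, h1, -⟩ := hswap
    have hc' : Commute ((φ h)⁻¹ * k) (φ (T 0)) := by
      rw [E.base]
      refine mul_inv_eq_iff_eq_mul.1 ?_
      calc (φ h)⁻¹ * k * d * ((φ h)⁻¹ * k)⁻¹ = (φ h)⁻¹ * (k * d * k⁻¹) * φ h := by group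
        _ = d := by rw [← hx, e, ← h1, map_mul, map_mul, map_inv, E.base]; group
    have := mul_mem (show φ h ∈ φ.range from ⟨h, rfl⟩) (E.of_commute (T_mem 0) hc')
    rwa [mul_inv_cancel_left] at this

/-- The centraliser of a pair is inside. -/
theorem Emb.of_commute_pair (E : Emb d θ φ) {x : X} (hx : IsProd D0 2 x) {k : G} (hk : Commute k (φ x)) :
    k ∈ φ.range := by
  obtain ⟨a, ha, b, ⟨hb, hne, hab⟩, rfl⟩ := TypeTop.isProd_two.1 hx
  obtain ⟨h, h1, h2⟩ := pair_to_std ha hb hne hab
  have hk' : Commute (φ h * k * (φ h)⁻¹) (φ (T 0 * T 154)) := by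
    rw [show T 0 * T 154 = h * (a * b) * h⁻¹ by rw [← h1, ← h2]; group, map_mul φ (h * (a * b)),
      map_mul φ h, map_inv]
    exact hk.map (MulAut.conj (φ h)).toMonoidHom
  have := mul_mem (mul_mem (inv_mem (show φ h ∈ φ.range from ⟨h, rfl⟩)) (E.of_commute_std hk'))
    (show φ h ∈ φ.range from ⟨h, rfl⟩)
  rwa [show (φ h)⁻¹ * (φ h * k * (φ h)⁻¹) * φ h = k by group] at this

end CfsgLib.ThreeTrans.FiCent
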