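import Cfsg.Agent.Lib.ThreeTrans.FiCent.ChainData
import Cfsg.Agent.Lib.Presented.Fi22Unitary.Cover

/-!
The centralisers of two transpositions in the presented Fischer group on 22 letters are generated
by listed transpositions.
-/

set_option autoImplicit false
set_option maxRecDepth 100000

namespace CfsgLib.ThreeTrans.FiCent

open Subgroup CfsgLib.Presented CfsgLib.Presented.Fi22Pts ChainData
open CfsgLib.ThreeTrans.Inst.FiTwentyTwo (P)
open Fi22UCert (rep)

theorem finite_X : Finite X :=
  Nat.finite_of_card_ne_zero (by rw [CfsgLib.Presented.Fi22Order.card_eq]; norm_num)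

theorem T_zero : T 0 = Inst.FiTwentyTwo.a := by rw [T, pt_zero, tp_base]

theorem card_H0 : Nat.card H0 = 18393661440 := by
  rw [H0_eq]; exact CfsgLib.Presented.Fi22Unitary.card_H

theorem el_mem_H0 {w : List ℕ} (h : ok w = true) (h0 : img w 0 = 0) : el w ∈ H0 := by
  refine mem_centralizer_singleton_iff.2 ?_
  rw [← T_zero]
  exact ((commute_el_iff h (by decide)).2 h0).eq

/-- The stabiliser of a point in the first centraliser. -/
noncomputable abbrev Cpair (q : ℕ) : Subgroup X := H0 ⊓ centralizer ({T q} : Set X)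

theorem mem_Cpair {q : ℕ} {x : X} : x ∈ Cpair q ↔ x ∈ H0 ∧ P.φ x (pt q) = pt q := by
  rw [Subgroup.mem_inf, ← commute_T_iff]
  exact and_congr_right fun _ => mem_centralizer_singleton_iff

theorem el_mem_Cpair {w : List ℕ} (h : ok w = true) (h0 : img w 0 = 0) {q : ℕ} (hq : q < rep.N)
    (hf : img w q = q) : el w ∈ Cpair q :=
  mem_Cpair.2 ⟨el_mem_H0 h h0, by rw [el_img h hq, hf]⟩

/-- A chain inside, a full orbit outside: the centraliser is generated by the chain's generators. -/
theorem Cpair_eq (q : ℕ) (hq : q < rep.N) (O : Level) (hO : O.2.1 = q)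
    (hOc : (O.1.all ok && O.1.all (fun w => Nat.beq (img w 0) 0) &&
      (grow O.1 O.2.2 (Nat.shiftLeft 1 O.2.1)).1) = true)
    (L : Level) (rest : List Level) (hL : chainOK (L :: rest) = true)
    (hLm : (L.1.all ok && L.1.all (fun w => Nat.beq (img w 0) 0 && Nat.beq (img w q) q)) = true)
    (hcard : (O.2.2.length + 1) * chainCard (L :: rest) = 18393661440) :
    gp L.1 = Cpair q := by
  have := finite_X
  subst hO
  simp only [Bool.and_eq_true, List.all_eq_true] at hOc hLm
  have hle : gp L.1 ≤ Cpair O.2.1 := by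
    refine (closure_le _).2 ?_
    rintro _ ⟨w, hw, rfl⟩
    exact el_mem_Cpair (hLm.1 w hw) (Nat.eq_of_beq_eq_true (hLm.2 w hw).1) hq
      (Nat.eq_of_beq_eq_true (hLm.2 w hw).2)
  obtain ⟨⟨hok, h0⟩, hg⟩ := hOc
  obtain ⟨S, hScard, hS⟩ := grow_points hok {O.2.1} hg (fun r hr => by
    rw [Finset.mem_singleton] at hr
    subst hr
    exact ⟨by rw [Nat.shiftLeft_eq', Nat.shiftLeft_eq, one_mul, Nat.testBit_two_pow_self], hq⟩)
  have hS' : ∀ p ∈ S, p < rep.N ∧ ∃ g ∈ H0, P.φ g (pt O.2.1) = pt p := by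
    intro p hp
    refine ⟨(hS p hp).2, (grow_spec (fun r => r < rep.N ∧ ∃ g ∈ H0, P.φ g (pt O.2.1) = pt r)
      (fun w hw r hr hQ => ⟨img_lt (hok w hw) hr, ?_⟩) hg (fun r hr => ?_) p (hS p hp).1).2⟩
    · obtain ⟨-, g, hgm, hgr⟩ := hQ
      refine ⟨el w * g, mul_mem (el_mem_H0 (hok w hw) (Nat.eq_of_beq_eq_true (h0 w hw))) hgm, ?_⟩
      rw [map_mul, Equiv.Perm.mul_apply, hgr, el_img (hok w hw) hr]
    · rw [Nat.shiftLeft_eq', Nat.shiftLeft_eq, one_mul, Nat.testBit_two_pow, decide_eq_true_eq] at hr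
      subst hr
      exact ⟨hq, 1, one_mem _, by rw [map_one, Equiv.Perm.one_apply]⟩
  have h1 := card_step (L := Cpair O.2.1) inf_le_left hS' (fun g hg => (mem_Cpair.1 hg).2)
  rw [card_H0, show S.card = O.2.2.length + 1 by rw [hScard, Finset.card_singleton]; omega, ← hcard] at h1
  exact Subgroup.eq_of_le_of_card_ge hle
    ((Nat.le_of_mul_le_mul_left h1 (Nat.succ_pos _)).trans (chain_card hL))

/-- The generators for two commuting transpositions. -/
abbrev agGens : List (List ℕ) := (agChain.headD ([], 0, [])).1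

/-- The generators for two non-commuting transpositions. -/
abbrev abGens : List (List ℕ) := (abChain.headD ([], 0, [])).1

theorem Cpair_ag : gp agGens = Cpair 154 :=
  Cpair_eq 154 (by decide) hG rfl (by decide +kernel) _ agChain.tail (by decide +kernel) (by decide +kernel)
    (by decide +kernel)

theorem Cpair_ab : gp abGens = Cpair 2 :=
  Cpair_eq 2 (by decide) hB rfl (by decide +kernel) _ abChain.tail (by decide +kernel) (by decide +kernel)
    (by decide +kernel)

end CfsgLib.ThreeTrans.FiCent
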