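import Cfsg.Agent.Lib.ThreeTrans.FiCent.Generation
import Cfsg.Agent.Lib.ThreeTrans.Inst.TypeTransport
import Cfsg.Prelude.Def_Spor_Fi22

/-!
A finite group with an involution whose centraliser is the quasisimple double cover of `PSU₆(2)`, the classes
matching, is the presented Fischer group on 22 letters.
-/

set_option autoImplicit false

namespace CfsgLib.ThreeTrans.FiCent

open CfsgLib.Presented.Fi22Pts

variable {G : Type*} [Group G] [Finite G] {d : G}

/-- The isomorphism with the presented group, classes matching. -/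
theorem Hyp.exists_fi22 (h : Hyp d) (hf : Fused d) :
    ∃ e : X ≃* G, e (T 0) = d ∧ e '' D0 = conjugatesOf d := by
  obtain ⟨θ, hθ⟩ := h.exists_iso
  have L : Link d θ := ⟨hθ, hf θ hθ⟩
  have hd : d ≠ 1 := fun e => by
    have := h.ord
    rw [e, orderOf_one] at this
    norm_num at this
  obtain ⟨φ, hinj, -, hagree, hmaps⟩ := exists_embedding L hd
  have E : Emb d θ φ := ⟨L, hinj, hagree, hmaps⟩
  refine ⟨MulEquiv.ofBijective φ ⟨hinj, E.surjective⟩, E.base, ?_⟩
  ext y
  constructor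
  · rintro ⟨x, hx, rfl⟩
    exact hmaps x hx
  · intro hy
    obtain ⟨x, rfl⟩ := E.surjective y
    exact ⟨x, E.mem_D.1 hy, rfl⟩

theorem Hyp.isoFi22 (h : Hyp d) (hf : Fused d) : Cfsg.Spor.IsoFi22 G := by
  obtain ⟨e, -, -⟩ := h.exists_fi22 hf
  exact ⟨e.symm⟩

/-- The class is a class of 3-transpositions, of type M(22). -/
theorem Hyp.typeM22 (h : Hyp d) (hf : Fused d) :
    Cfsg.IsThreeTranspositionClass (conjugatesOf d) ∧ Cfsg.IsOfTypeM22 G (conjugatesOf d) := by
  obtain ⟨e, he, hD⟩ := h.exists_fi22 hf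
  obtain ⟨⟨hord, hprod⟩, -, hgen⟩ := Inst.FiTwentyTwo.isClass
  refine ⟨⟨⟨?_, ?_⟩, ⟨d, mem_conjugatesOf_self, rfl⟩, ?_⟩, Inst.typeM22_map e hD Inst.FiTwentyTwo.typeM22⟩
  · rw [← hD]
    rintro _ ⟨x, hx, rfl⟩
    rw [MulEquiv.orderOf_eq]
    exact hord x hx
  · rw [← hD]
    rintro _ ⟨x, hx, rfl⟩ _ ⟨y, hy, rfl⟩
    rw [← map_mul, ← map_pow, ← map_pow]
    exact (hprod x hx y hy).imp (fun e' => by rw [e', map_one]) (fun e' => by rw [e', map_one])
  · rw [← hD, show (e : X → G) = (e.toMonoidHom : X → G) from rfl, ← MonoidHom.map_closure, hgen]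
    exact Subgroup.map_top_of_surjective _ e.surjective

end CfsgLib.ThreeTrans.FiCent
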