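import Cfsg.Agent.Lib.ThreeTrans.FiCent.RigidLevels
import Cfsg.Agent.Lib.ThreeTrans.FiCent.Pairs
import Cfsg.Agent.Lib.ThreeTrans.Inst.FiTwentyTwoModel
import Cfsg.Agent.Lib.ThreeTrans.Uniq.AutTop22

/-!
An automorphism of the centraliser of two commuting transpositions which fixes both and preserves
transpositions is induced by an automorphism of the group fixing both.
-/

set_option autoImplicit false
set_option maxRecDepth 100000
set_option exponentiation.threshold 600

namespace CfsgLib.ThreeTrans.FiCent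

open Subgroup CfsgLib.Presented CfsgLib.Presented.Fi22Pts RigidData ChainData
open CfsgLib.ThreeTrans.Inst.FiTwentyTwo (P maskA)
open Fi22UCert (rep)

/-- Listed points are all the transpositions commuting with both. -/
theorem mem_table {p : ℕ} (hp : p < rep.N) (h : T p ∈ Cpair 154) : p ∈ table.map Prod.fst := by
  have key : allLt (fun q => !((Nat.beq q 0 || bit maskA q) && Nat.beq (img [6] q) q) ||
      (table.map Prod.fst).contains q) 3510 = true := by decide +kernel
  have hq := allLt_spec key p hp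
  rw [mem_Cpair, ← commute_T_iff] at h
  obtain ⟨ha, hg⟩ := h
  have h1 : (Nat.beq p 0 || bit maskA p) = true := by
    have hc := (Subgroup.mem_centralizer_singleton_iff.1 ha)
    rcases (commute_a_iff (pt p)).1 (Commute.symm (show Commute (P.tp (pt p)) Inst.FiTwentyTwo.a from hc)) with e | e
    · rw [← pt_zero] at e
      rw [pt_inj hp (by decide) e]
      rfl
    · rw [pt_val hp] at e
      rw [bit_eq, e, Bool.or_true]
  have e154 : el [6] = T 154 := by rw [el_one]; exact (T_gpts 6 (by decide)).symm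
  have h2 : img [6] p = p := by
    rw [← commute_el_iff (by decide) hp, e154]
    exact hg.symm
  rw [h1, h2, Nat.beq_refl] at hq
  simpa using hq

theorem commute_T_T {u : List ℕ} (h : ok u = true) {p : ℕ} (hp : p < rep.N) :
    Commute (T (img u 0)) (T p) ↔ img (tw u) p = p := by
  rw [← evW_tw h]
  exact commute_el_iff (ok_tw h) hp

/-- Agreement with an automorphism fixing two transpositions on a list of points. -/
def AgreeOn (α : ↥(Cpair 154) ≃* ↥(Cpair 154)) (base : List ℕ) : Prop :=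
  ∃ γ : MulAut X, ∀ q ∈ base, ∃ hq : T q ∈ Cpair 154, (α ⟨T q, hq⟩ : X) = γ (T q) ∧
    (q = 0 ∨ q = 154 → γ (T q) = T q)

theorem el_relWord {base : List (List ℕ)} (hb : ∀ v ∈ base, ok v = true) {u : List ℕ}
    (hu : ∀ k ∈ u, k < base.length) :
    ok (relWord base u) = true ∧
      el (relWord base u) = (u.map fun k => T (img (base.getD k []) 0)).prod := by
  induction u with
  | nil => exact ⟨rfl, by simp [relWord, el]⟩
  | cons k u ih =>
    obtain ⟨h1, h2⟩ := ih fun j hj => hu j (List.mem_cons_of_mem _ hj)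
    have hk : ok (base.getD k []) = true := by
      rw [List.getD_eq_getElem _ _ (hu k List.mem_cons_self)]
      exact hb _ (List.getElem_mem _)
    refine ⟨?_, ?_⟩
    · rw [relWord, List.flatMap_cons, ok_append, ok_tw hk]
      exact h1
    · rw [relWord, List.flatMap_cons, el_append, List.map_cons, List.prod_cons]
      rw [show el (tw (base.getD k [])) = T (img (base.getD k []) 0) from evW_tw hk]
      exact congrArg _ h2

/-- One level of the argument. -/
theorem agree_step (α : ↥(Cpair 154) ≃* ↥(Cpair 154))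
    (hα : ∀ x : ↥(Cpair 154), (x : X) ∈ D0 ↔ (α x : X) ∈ D0)
    {base : List ℕ} {m : ℕ} {rels : List (List ℕ × Bool)} {gens : List (List (Option ℕ))}
    {tree : List (ℕ × ℕ × ℕ)} (hok : levelOK base m rels gens tree = true) (hm : T m ∈ Cpair 154)
    (h02 : 0 ∈ base ∧ 154 ∈ base) (h : AgreeOn α base) : AgreeOn α (base ++ [m]) := by
  simp only [levelOK, Bool.and_eq_true, List.all_eq_true, Nat.blt_eq, Bool.not_eq_true',
    beq_iff_eq, Nat.ble_eq] at hok
  obtain ⟨⟨⟨⟨⟨⟨⟨hmN, hfix⟩, hbase⟩, hmw⟩, hreach⟩, hcand⟩, hrels⟩, hmb⟩ := hok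
  have hmN' : m < rep.N := hmN
  obtain ⟨γ, hγ⟩ := h
  classical
  have := finite_X
  -- the automorphism undoes the known part
  set ψ : X → X := fun x => γ⁻¹ x
  have hγa : γ (T 0) = T 0 := (hγ 0 h02.1).choose_spec.2 (Or.inl rfl)
  have hγg : γ (T 154) = T 154 := (hγ 154 h02.2).choose_spec.2 (Or.inr rfl)
  have hC : ∀ x ∈ Cpair 154, γ⁻¹ x ∈ Cpair 154 := by
    intro x hx
    rw [mem_Cpair, ← commute_T_iff] at hx ⊢
    have hx1 : Commute x (T 0) := by
      rw [T_zero]; exact Subgroup.mem_centralizer_singleton_iff.1 hx.1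
    have i0 : γ⁻¹ (T 0) = T 0 := by
      rw [MulAut.inv_apply, MulEquiv.symm_apply_eq, hγa]
    have ig : γ⁻¹ (T 154) = T 154 := by
      rw [MulAut.inv_apply, MulEquiv.symm_apply_eq, hγg]
    refine ⟨Subgroup.mem_centralizer_singleton_iff.2 ?_, ?_⟩
    · rw [← T_zero, ← i0]; exact hx1.map γ⁻¹
    · rw [← ig]; exact hx.2.map γ⁻¹
  let β : ↥(Cpair 154) →* ↥(Cpair 154) :=
    MonoidHom.mk' (fun x => ⟨γ⁻¹ (α x : X), hC _ (α x).2⟩) fun x y => Subtype.ext (by
      show γ⁻¹ ((α (x * y) : ↥(Cpair 154)) : X) = γ⁻¹ (α x : X) * γ⁻¹ (α y : X)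
      rw [map_mul, Subgroup.coe_mul, map_mul])
  have hβinj : Function.Injective β := fun x y e => α.injective (Subtype.ext
    ((γ⁻¹).injective (congrArg Subtype.val e)))
  have hβbase : ∀ q ∈ base, ∃ hq : T q ∈ Cpair 154, β ⟨T q, hq⟩ = ⟨T q, hq⟩ := by
    intro q hq
    obtain ⟨hq', e, -⟩ := hγ q hq
    refine ⟨hq', Subtype.ext ?_⟩
    show γ⁻¹ (α ⟨T q, hq'⟩ : X) = T q
    rw [e, MulAut.inv_apply, MulEquiv.symm_apply_apply]
  -- the image of the new point
  have hD : γ⁻¹ (α ⟨T m, hm⟩ : X) ∈ D0 :=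
    CfsgLib.ThreeTrans.Uniq.mapsTo22 Inst.FiTwentyTwo.isGroup Inst.FiTwentyTwo.primitive
      Inst.FiTwentyTwo.typeM22 _ ((hα ⟨T m, hm⟩).1 (T_mem m))
  obtain ⟨p, hp, hpe⟩ := exists_T hD
  have hpC : T p ∈ Cpair 154 := hpe ▸ hC _ (α ⟨T m, hm⟩).2
  have hβm : β ⟨T m, hm⟩ = ⟨T p, hpC⟩ := Subtype.ext hpe.symm
  obtain ⟨e, he, rfl⟩ := List.mem_map.1 (mem_table hp hpC)
  -- words
  have hwb : ∀ q ∈ base, ∃ v, wordOf q = some v := fun q hq => Option.isSome_iff_exists.1 (hbase q hq).2
  obtain ⟨wm, hwm⟩ := Option.isSome_iff_exists.1 hmw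
  obtain ⟨hokm, himm⟩ := wordOf_spec hwm
  obtain ⟨we, hwe⟩ : ∃ v, wordOf e.1 = some v := by
    have key : (table.all fun e => (wordOf e.1).isSome) = true := by decide +kernel
    exact Option.isSome_iff_exists.1 (List.all_eq_true.1 key e he)
  obtain ⟨hoke, hime⟩ := wordOf_spec hwe
  have hpass : passes base m rels e.1 = true := by
    rw [passes, hwe]
    simp only [Bool.and_eq_true, List.all_eq_true, Bool.not_eq_true', beq_iff_eq]
    refine ⟨⟨?_, fun q hq => ?_⟩, fun r hr => ?_⟩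
    · rw [← Bool.not_eq_true, List.contains_iff_mem]
      intro hmem
      obtain ⟨hq, hfx⟩ := hβbase _ hmem
      have := congrArg Subtype.val (hβinj (hβm.trans hfx.symm))
      exact Bool.noConfusion ((hmb.symm.trans (by
        rw [List.contains_iff_mem, T_inj hmN' hp this]; exact hmem) : false = true))
    · obtain ⟨v, hv⟩ := hwb q hq
      obtain ⟨hokv, himv⟩ := wordOf_spec hv
      rw [hv]
      obtain ⟨hqC, hfx⟩ := hβbase q hq
      have hiff : Commute (T q) (T e.1) ↔ Commute (T q) (T m) := by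
        have hcc : ∀ x y : ↥(Cpair 154), Commute (x : X) (y : X) ↔ Commute x y := fun x y =>
          ⟨fun h => Subtype.ext h.eq, fun h => congrArg Subtype.val h.eq⟩
        rw [hcc ⟨_, hqC⟩ ⟨_, hpC⟩, hcc ⟨_, hqC⟩ ⟨_, hm⟩, ← hβm]
        conv_lhs => rw [← hfx]
        exact ⟨fun h => hβinj (by rw [map_mul, map_mul]; exact h.eq), fun h => h.map β⟩
      rw [← himv] at hiff
      rw [commute_T_T hokv hp, commute_T_T hokv hmN'] at hiff
      show (Nat.beq (img (tw v) e.1) e.1 == Nat.beq (img (tw v) m) m) = true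
      rw [beq_iff_eq, Bool.eq_iff_iff]
      exact ⟨fun h => by rw [hiff.1 (Nat.eq_of_beq_eq_true h), Nat.beq_refl],
        fun h => by rw [hiff.2 (Nat.eq_of_beq_eq_true h), Nat.beq_refl]⟩
    · obtain ⟨hk, hr2⟩ := hrels r hr
      set L := base.map fun q => (wordOf q).getD [] with hL
      have hLok : ∀ u : List ℕ, ok u = true → ∀ v ∈ L ++ [u], ok v = true := by
        intro u hu v hv
        rcases List.mem_append.1 hv with hv | hv
        · obtain ⟨q, hq, rfl⟩ := List.mem_map.1 hv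
          obtain ⟨v', hv'⟩ := hwb q hq
          rw [hv']; exact (wordOf_spec hv').1
        · rw [List.mem_singleton.1 hv]; exact hu
      have hlen : ∀ u : List ℕ, ∀ k ∈ r.1, k < (L ++ [u]).length := fun u k hk' => by
        simp only [hL, List.length_append, List.length_map, List.length_singleton]
        have := hk k hk'; omega
      obtain ⟨ho1, he1⟩ := el_relWord (hLok we hoke) (hlen we)
      obtain ⟨ho2, he2⟩ := el_relWord (hLok wm hokm) (hlen wm)
      rw [hwm, Option.getD_some] at hr2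
      -- lift to the centraliser
      let z : ℕ → ↥(Cpair 154) := fun k =>
        if hk : T (img ((L ++ [wm]).getD k []) 0) ∈ Cpair 154 then ⟨_, hk⟩ else 1
      have hz : ∀ k ∈ r.1, (z k : X) = T (img ((L ++ [wm]).getD k []) 0) ∧
          (β (z k) : X) = T (img ((L ++ [we]).getD k []) 0) := by
        intro k hk'
        by_cases hkl : k < L.length
        · rw [List.getD_append _ _ _ _ hkl, List.getD_append _ _ _ _ hkl, List.getD_eq_getElem _ _ hkl]
          obtain ⟨q, hq, hqe⟩ := List.mem_map.1 (List.getElem_mem hkl)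
          obtain ⟨v, hv⟩ := hwb q hq
          obtain ⟨hokv, himv⟩ := wordOf_spec hv
          rw [hv, Option.getD_some] at hqe
          obtain ⟨hqC, hfx⟩ := hβbase q hq
          have e1 : T (img L[k] 0) = T q := by rw [← hqe, himv]
          have : z k = ⟨T q, hqC⟩ := by
            have e2 : T (img ((L ++ [wm]).getD k []) 0) = T q := by
              rw [List.getD_append _ _ _ _ hkl, List.getD_eq_getElem _ _ hkl]; exact e1
            simp only [z, e2, dif_pos hqC]
          rw [this, hfx, e1]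
          exact ⟨rfl, rfl⟩
        · have hkk : k = L.length := by
            have := hlen wm k hk'
            simp only [List.length_append, List.length_singleton] at this
            omega
          subst hkk
          have g1 : ∀ u : List ℕ, (L ++ [u]).getD L.length [] = u := fun u => by
            rw [List.getD_append_right _ _ _ _ le_rfl, Nat.sub_self]; rfl
          have : z L.length = ⟨T m, hm⟩ := by
            have e2 : T (img ((L ++ [wm]).getD L.length []) 0) = T m := by rw [g1, himm]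
            simp only [z, e2, dif_pos hm]
          rw [this, hβm, g1, g1, himm, hime]
          exact ⟨rfl, rfl⟩
      have hprod₁ : el (relWord (L ++ [wm]) r.1) = ((r.1.map z).prod : ↥(Cpair 154)) := by
        rw [he2, SubmonoidClass.coe_list_prod, List.map_map]
        exact congrArg _ (List.map_congr_left fun k hk' => (hz k hk').1.symm)
      have hprod₂ : el (relWord (L ++ [we]) r.1) = (β (r.1.map z).prod : X) := by
        rw [he1, map_list_prod, SubmonoidClass.coe_list_prod, List.map_map, List.map_map]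
        exact congrArg _ (List.map_congr_left fun k hk' => (hz k hk').2.symm)
      have hone : el [] = 1 := by simp [el]
      have hiff : el (relWord (L ++ [we]) r.1) = 1 ↔ el (relWord (L ++ [wm]) r.1) = 1 := by
        rw [hprod₁, hprod₂, OneMemClass.coe_eq_one, OneMemClass.coe_eq_one]
        exact map_eq_one_iff β hβinj
      rw [← hr2, Bool.eq_iff_iff]
      constructor
      · intro h1
        by_contra h2
        exact eqW_false ho2 rfl (Bool.not_eq_true _ ▸ h2) ((hiff.1 ((eqW_spec h1).trans hone)).trans hone.symm)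
      · intro h1
        by_contra h2
        exact eqW_false ho1 rfl (Bool.not_eq_true _ ▸ h2) ((hiff.2 ((eqW_spec h1).trans hone)).trans hone.symm)
  -- the orbit
  have hin : e.1 ∈ (reach gens tree [m]).2 := by
    have := hcand e he
    rw [hpass] at this
    simpa using this
  obtain ⟨-, δ, hδ, hδb⟩ := reach_spec
    (fun r => r < rep.N ∧ ∃ δ : MulAut X, δ (T m) = T r ∧ ∀ q ∈ base, δ (T q) = T q)
    (fun s hs r hr hsr hQ => by
      obtain ⟨-, δ, hδ, hδb⟩ := hQ
      refine ⟨hsr, seqAut s * δ, ?_, fun q hq => ?_⟩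
      · rw [MulAut.mul_apply, hδ]; exact seqAut_T hr hsr
      · have hf := Nat.eq_of_beq_eq_true (hfix s hs q hq)
        rw [MulAut.mul_apply, hδb q hq, seqAut_T (hbase q hq).1 (by rw [hf]; exact (hbase q hq).1), hf])
    hreach (fun q hq => by
      rw [List.mem_singleton.1 hq]
      exact ⟨hmN', 1, rfl, fun r _ => rfl⟩) e.1 hin
  refine ⟨γ * δ, fun q hq => ?_⟩
  rcases List.mem_append.1 hq with hq | hq
  · obtain ⟨hqC, e1, e2⟩ := hγ q hq
    refine ⟨hqC, ?_, fun h01 => ?_⟩
    · rw [MulAut.mul_apply, hδb q hq, e1]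
    · rw [MulAut.mul_apply, hδb q hq, e2 h01]
  · rw [List.mem_singleton.1 hq]
    refine ⟨hm, ?_, fun h01 => ?_⟩
    · rw [MulAut.mul_apply, hδ, hpe, MulAut.inv_apply, MulEquiv.apply_symm_apply]
    · have hmem : m ∈ base := by
        rcases h01 with e' | e'
        · rw [e']; exact h02.1
        · rw [e']; exact h02.2
      exact Bool.noConfusion ((hmb.symm.trans (by
          rw [List.contains_iff_mem]; exact hmem) : false = true))

/-- Agreement passes to conjugates. -/
theorem agree_extend (α : ↥(Cpair 154) ≃* ↥(Cpair 154)) :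
    ∀ {exts : List (ℕ × ℕ × ℕ)} {base : List ℕ}, (extend exts base).1 = true → 0 ∈ base ∧ 154 ∈ base →
      AgreeOn α base → AgreeOn α (extend exts base).2 ∧ ∀ q ∈ base, q ∈ (extend exts base).2
  | [], base, _, _, h => ⟨h, fun _ hq => hq⟩
  | t :: l, base, h, h02, ⟨γ, hγ⟩ => by
    have e : extend (t :: l) base = cond (extOK t base) (extend l (base ++ [t.2.2])) (false, base) := rfl
    cases hb : extOK t base
    · rw [e, hb] at h; exact absurd h (by simp)
    rw [e, hb, cond_true] at h ⊢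
    simp only [extOK, Bool.and_eq_true, List.contains_iff_mem, Nat.blt_eq] at hb
    obtain ⟨⟨⟨h1, h2⟩, h3⟩, h4⟩ := hb
    cases hu : wordOf t.1 with
    | none => rw [hu] at h4; exact absurd h4 (by simp)
    | some u =>
      rw [hu] at h4
      obtain ⟨hoku, himu⟩ := wordOf_spec hu
      have hT : T t.2.2 = T t.1 * T t.2.1 * (T t.1)⁻¹ := by
        rw [← Nat.eq_of_beq_eq_true h4, ← el_conj (ok_tw hoku) h3,
          show el (tw u) = T (img u 0) from evW_tw hoku, himu]
      obtain ⟨hr, er, fr⟩ := hγ _ h1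
      obtain ⟨hq, eq', fq⟩ := hγ _ h2
      have hv : T t.2.2 ∈ Cpair 154 := hT ▸ mul_mem (mul_mem hr hq) (inv_mem hr)
      have hev : (α ⟨T t.2.2, hv⟩ : X) = γ (T t.2.2) := by
        rw [show (⟨T t.2.2, hv⟩ : ↥(Cpair 154)) = ⟨T t.1, hr⟩ * ⟨T t.2.1, hq⟩ * ⟨T t.1, hr⟩⁻¹ from Subtype.ext hT,
          map_mul, map_mul, map_inv, Subgroup.coe_mul, Subgroup.coe_mul, Subgroup.coe_inv, er, eq', hT,
          map_mul, map_mul, map_inv]
      obtain ⟨h', hsub⟩ := agree_extend α h ⟨List.mem_append_left _ h02.1, List.mem_append_left _ h02.2⟩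
        ⟨γ, fun q hq' => by
          rcases List.mem_append.1 hq' with hq' | hq'
          · exact hγ q hq'
          · rw [List.mem_singleton.1 hq']
            by_cases hsp : t.2.2 ∈ base
            · exact hγ _ hsp
            · refine ⟨hv, hev, fun h01 => absurd ?_ hsp⟩
              rcases h01 with e0 | e0
              · rw [e0]; exact h02.1
              · rw [e0]; exact h02.2⟩
      exact ⟨h', fun q hq' => hsub q (List.mem_append_left _ hq')⟩

theorem T_mem_pair {p : ℕ} (hp : p < rep.N) (h0 : img [0] p = p) (hg : img [6] p = p) :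
    T p ∈ Cpair 154 := by
  have e154 : el [6] = T 154 := by rw [el_one]; exact (T_gpts 6 (by decide)).symm
  have e0 : el [0] = Inst.FiTwentyTwo.a := rfl
  refine mem_Cpair.2 ⟨Subgroup.mem_centralizer_singleton_iff.2 ?_, ?_⟩
  · rw [← e0]; exact ((commute_el_iff (by decide) hp).2 h0).eq.symm
  · rw [← commute_T_iff, ← e154]; exact ((commute_el_iff (by decide) hp).2 hg).symm

/-- Rigidity. -/
theorem rigid (α : ↥(Cpair 154) ≃* ↥(Cpair 154)) (h0 : ∀ h, (α ⟨T 0, h⟩ : X) = T 0)
    (hg : ∀ h, (α ⟨T 154, h⟩ : X) = T 154)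
    (hα : ∀ x : ↥(Cpair 154), (x : X) ∈ D0 ↔ (α x : X) ∈ D0) :
    ∃ γ : MulAut X, γ (T 0) = T 0 ∧ γ (T 154) = T 154 ∧ ∀ x : ↥(Cpair 154), (α x : X) = γ x := by
  have key : ([0, 154, 6, 10, 344, 18, 48, 47].all fun p =>
      Nat.blt p 3510 && Nat.beq (img [0] p) p && Nat.beq (img [6] p) p) = true := by decide +kernel
  simp only [List.all_eq_true, Bool.and_eq_true, Nat.blt_eq] at key
  have hmem : ∀ p ∈ [0, 154, 6, 10, 344, 18, 48, 47], T p ∈ Cpair 154 := fun p hp =>
    T_mem_pair (key p hp).1.1 (Nat.eq_of_beq_eq_true (key p hp).1.2) (Nat.eq_of_beq_eq_true (key p hp).2)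
  have hL := levels_ok
  simp only [Bool.and_eq_true] at hL
  obtain ⟨⟨⟨⟨⟨l0, l1⟩, l2⟩, l3⟩, l4⟩, l5⟩ := hL
  have a0 : AgreeOn α [0, 154] := ⟨1, fun q hq => by
    simp only [List.mem_cons, List.not_mem_nil, or_false] at hq
    rcases hq with rfl | rfl
    · exact ⟨hmem _ (by simp), h0 _, fun _ => rfl⟩
    · exact ⟨hmem _ (by simp), hg _, fun _ => rfl⟩⟩
  have hE := exts_ok
  simp only [Bool.and_eq_true] at hE
  obtain ⟨⟨⟨⟨⟨e0, e1⟩, e2⟩, e3⟩, e4⟩, e5⟩ := hE
  obtain ⟨b0, s0⟩ := agree_extend α e0 (by simp) a0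
  have m0 : 0 ∈ base0 ∧ 154 ∈ base0 := ⟨s0 0 (by simp), s0 154 (by simp)⟩
  obtain ⟨b1, s1⟩ := agree_extend α e1 ⟨List.mem_append_left _ m0.1, List.mem_append_left _ m0.2⟩
    (agree_step α hα l0 (hmem 6 (by simp)) m0 b0)
  have m1 : 0 ∈ base1 ∧ 154 ∈ base1 :=
    ⟨s1 0 (List.mem_append_left _ m0.1), s1 154 (List.mem_append_left _ m0.2)⟩
  obtain ⟨b2, s2⟩ := agree_extend α e2 ⟨List.mem_append_left _ m1.1, List.mem_append_left _ m1.2⟩
    (agree_step α hα l1 (hmem 10 (by simp)) m1 b1)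
  have m2 : 0 ∈ base2 ∧ 154 ∈ base2 :=
    ⟨s2 0 (List.mem_append_left _ m1.1), s2 154 (List.mem_append_left _ m1.2)⟩
  obtain ⟨b3, s3⟩ := agree_extend α e3 ⟨List.mem_append_left _ m2.1, List.mem_append_left _ m2.2⟩
    (agree_step α hα l2 (hmem 344 (by simp)) m2 b2)
  have m3 : 0 ∈ base3 ∧ 154 ∈ base3 :=
    ⟨s3 0 (List.mem_append_left _ m2.1), s3 154 (List.mem_append_left _ m2.2)⟩
  obtain ⟨b4, s4⟩ := agree_extend α e4 ⟨List.mem_append_left _ m3.1, List.mem_append_left _ m3.2⟩
    (agree_step α hα l3 (hmem 18 (by simp)) m3 b3)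
  have m4 : 0 ∈ base4 ∧ 154 ∈ base4 :=
    ⟨s4 0 (List.mem_append_left _ m3.1), s4 154 (List.mem_append_left _ m3.2)⟩
  obtain ⟨b5, s5⟩ := agree_extend α e5 ⟨List.mem_append_left _ m4.1, List.mem_append_left _ m4.2⟩
    (agree_step α hα l4 (hmem 48 (by simp)) m4 b4)
  have m5 : 0 ∈ base5 ∧ 154 ∈ base5 :=
    ⟨s5 0 (List.mem_append_left _ m4.1), s5 154 (List.mem_append_left _ m4.2)⟩
  obtain ⟨γ, hγ⟩ := agree_step α hα l5 (hmem 47 (by simp)) m5 b5
  have hin : ([0, 154, 6, 10, 344, 18, 48, 47].all fun p => (base5 ++ [47]).contains p) = true := by decide +kernel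
  have hin' : ∀ p ∈ [0, 154, 6, 10, 344, 18, 48, 47], p ∈ base5 ++ [47] := fun p hp =>
    List.contains_iff_mem.1 (List.all_eq_true.1 hin p hp)
  refine ⟨γ, (hγ 0 (hin' 0 (by simp))).choose_spec.2 (Or.inl rfl),
    (hγ 154 (hin' 154 (by simp))).choose_spec.2 (Or.inr rfl), ?_⟩
  let K : Subgroup ↥(Cpair 154) :=
    MonoidHom.eqLocus ((Cpair 154).subtype.comp α.toMonoidHom) (γ.toMonoidHom.comp (Cpair 154).subtype)
  suffices hK : ∀ x : ↥(Cpair 154), x ∈ K from hK
  set gensC : List (List ℕ) := [0, 154, 6, 10, 344, 18, 48, 47].map fun p => tw ((wordOf p).getD []) with hgC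
  set seed : ℕ := 2 ^ 0 + 2 ^ 154 + 2 ^ 6 + 2 ^ 10 + 2 ^ 344 + 2 ^ 18 + 2 ^ 48 + 2 ^ 47 with hseed
  have hgrow : (grow gensC conjTree seed).1 = true ∧
      (agChainPts.all fun p => (grow gensC conjTree seed).2.testBit p && Nat.blt p 3510) = true ∧
      (agGens.all fun w => agChainPts.any fun p => (w == tw ((wordOf p).getD [])) && (wordOf p).isSome) = true ∧
      ([0, 154, 6, 10, 344, 18, 48, 47].all fun p => (wordOf p).isSome) = true ∧
      allLt (fun q => !bit seed q || [0, 154, 6, 10, 344, 18, 48, 47].contains q) 512 = true := by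
    decide +kernel
  obtain ⟨hg1, hg2, hg3, hg4, hg5⟩ := hgrow
  have hgT : ∀ w ∈ gensC, ∃ p ∈ [0, 154, 6, 10, 344, 18, 48, 47], el w = T p ∧ ok w = true := by
    intro w hw
    obtain ⟨p, hp, rfl⟩ := List.mem_map.1 hw
    obtain ⟨v, hv⟩ := Option.isSome_iff_exists.1 (List.all_eq_true.1 hg4 p hp)
    obtain ⟨hv1, hv2⟩ := wordOf_spec hv
    refine ⟨p, hp, ?_, ?_⟩
    · rw [hv, Option.getD_some, ← hv2]; exact evW_tw hv1
    · rw [hv, Option.getD_some]; exact ok_tw hv1
  have hK8 : ∀ p ∈ [0, 154, 6, 10, 344, 18, 48, 47], ∃ h : T p ∈ Cpair 154, (⟨T p, h⟩ : ↥(Cpair 154)) ∈ K := by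
    intro p hp
    obtain ⟨h, e, -⟩ := hγ p (hin' p hp)
    exact ⟨h, e⟩
  have hall : ∀ q, (grow gensC conjTree seed).2.testBit q = true →
      ∃ h : T q ∈ Cpair 154, (⟨T q, h⟩ : ↥(Cpair 154)) ∈ K := by
    refine grow_spec (fun q => ∃ h : T q ∈ Cpair 154, (⟨T q, h⟩ : ↥(Cpair 154)) ∈ K)
      (fun w hw q hq hQ => ?_) hg1 (fun q hq => ?_)
    · obtain ⟨p, hp, hpe, hwok⟩ := hgT w hw
      obtain ⟨hpC, hpK⟩ := hK8 p hp
      obtain ⟨hqC, hqK⟩ := hQ
      have e : T (img w q) = T p * T q * (T p)⁻¹ := by rw [← hpe, el_conj hwok hq]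
      have hm : T (img w q) ∈ Cpair 154 := e ▸ mul_mem (mul_mem hpC hqC) (inv_mem hpC)
      refine ⟨hm, ?_⟩
      rw [show (⟨T (img w q), hm⟩ : ↥(Cpair 154)) = ⟨T p, hpC⟩ * ⟨T q, hqC⟩ * ⟨T p, hpC⟩⁻¹ from Subtype.ext e]
      exact mul_mem (mul_mem hpK hqK) (inv_mem hpK)
    · by_cases hlt : q < 512
      · have := allLt_spec hg5 q hlt
        rw [bit_eq, hq] at this
        exact hK8 q (by simpa using this)
      · exfalso
        have hbig : seed < 2 ^ q :=
          lt_of_lt_of_le (by rw [hseed]; decide +kernel : seed < 2 ^ 512)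
            (Nat.pow_le_pow_right (by norm_num) (not_lt.1 hlt))
        rw [Nat.testBit_eq_false_of_lt hbig] at hq
        exact Bool.noConfusion hq
  intro x
  have hx : (x : X) ∈ gp agGens := by rw [Cpair_ag]; exact x.2
  suffices hle : gp agGens ≤ K.map (Cpair 154).subtype by
    obtain ⟨y, hy, e⟩ := hle hx
    rwa [Subtype.ext (show (x : X) = y from e.symm)]
  refine (Subgroup.closure_le _).2 ?_
  rintro _ ⟨w, hw, rfl⟩
  have := List.all_eq_true.1 hg3 w hw
  simp only [List.any_eq_true, Bool.and_eq_true, beq_iff_eq] at this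
  obtain ⟨p, hp, rfl, hp2⟩ := this
  obtain ⟨v, hv⟩ := Option.isSome_iff_exists.1 hp2
  obtain ⟨hv1, hv2⟩ := wordOf_spec hv
  rw [hv, Option.getD_some]
  have hb := List.all_eq_true.1 hg2 p hp
  simp only [Bool.and_eq_true] at hb
  obtain ⟨hC, hCK⟩ := hall p hb.1
  exact ⟨_, hCK, by rw [show el (tw v) = T (img v 0) from evW_tw hv1, hv2]; rfl⟩

end CfsgLib.ThreeTrans.FiCent
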