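import Cfsg.Agent.Lib.ThreeTrans.FiCent.Chain

/-! Generated data: the automorphisms fixing two commuting transpositions are transitive on the tuples
of six transpositions generating their centraliser. -/
set_option autoImplicit false
set_option maxRecDepth 8000

namespace CfsgLib.ThreeTrans.FiCent.RigidData

/-- points with words -/
def tablePart0 : List (ℕ × List ℕ) :=
  [(0, []), (154, [5, 6, 4, 5, 3, 4, 2, 3, 1, 2, 0, 1]), (6, [1, 2, 0, 1]), (10, [3, 1, 2, 0, 1]), (16, [2, 3, 1, 2, 0, 1]), (17, [4, 3, 1, 2, 0, 1]), (18, [7, 3, 1, 2, 0, 1]), (26, [4, 2, 3, 1, 2, 0, 1]), (27, [7, 2, 3, 1, 2, 0, 1]), (29, [7, 4, 3, 1, 2, 0, 1]), (30, [8, 7, 3, 1, 2, 0, 1]), (40, [3, 4, 2, 3, 1, 2, 0, 1]), (42, [7, 4, 2, 3, 1, 2, 0, 1]), (43, [3, 7, 2, 3, 1, 2, 0, 1]), (44, [8, 7, 2, 3, 1, 2, 0, 1]),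 (47, [3, 7, 4, 3, 1, 2, 0, 1]), (48, [8, 7, 4, 3, 1, 2, 0, 1]), (59, [1, 2, 3, 7, 4, 3, 2, 1]), (65, [8, 7, 4, 2, 3, 1, 2, 0, 1]), (66, [8, 3, 7, 2, 3, 1, 2, 0, 1]), (70, [8, 3, 7, 4, 3, 1, 2, 0, 1]), (86, [8, 1, 2, 3, 7, 4, 3, 2, 1]), (92, [7, 8, 3, 7, 2, 3, 1, 2, 0, 1]), (97, [7, 8, 3, 7, 4, 3, 1, 2, 0, 1]), (118, [7, 8, 1, 2, 3, 7, 4, 3, 2, 1]), (152, [3, 7, 8, 1, 2, 3, 7, 4, 3, 2, 1]), (155, [5, 4, 3, 7, 6, 5, 4, 3, 1, 2, 0, 1]), (172, [5, 4, 1, 2, 3, 7, 6, 5, 4, 3, 2, 1]), (193, [2, 3, 7, 8, 1, 2, 3, 7, 4, 3, 2, 1]), (194, [4, 3, 7, 8, 1, 2, 3, 7, 4, 3, 2, 1])]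

/-- points with words -/
def tablePart1 : List (ℕ × List ℕ) :=
  [(196, [8, 5, 4, 3, 7, 6, 5, 4, 3, 1, 2, 0, 1]), (214, [5, 3, 4, 1, 2, 3, 7, 6, 5, 4, 3, 2, 1]), (217, [8, 5, 4, 1, 2, 3, 7, 6, 5, 4, 3, 2, 1]), (243, [4, 2, 3, 7, 8, 1, 2, 3, 7, 4, 3, 2, 1]), (246, [7, 8, 5, 4, 3, 7, 6, 5, 4, 3, 1, 2, 0, 1]), (266, [5, 2, 3, 4, 1, 2, 3, 7, 6, 5, 4, 3, 2, 1]), (269, [4, 5, 3, 4, 1, 2, 3, 7, 6, 5, 4, 3, 2, 1]), (270, [7, 5, 3, 4, 1, 2, 3, 7, 6, 5, 4, 3, 2, 1]), (271, [8, 5, 3, 4, 1, 2, 3, 7, 6, 5, 4, 3, 2, 1]), (274, [7, 8, 5, 4, 1, 2, 3, 7, 6, 5, 4, 3, 2, 1]), (308, [3, 4, 2, 3, 7, 8, 1, 2, 3, 7, 4, 3, 2, 1]), (311, [3, 7, 8, 5, 4, 3, 7, 6, 5, 4, 3, 1, 2, 0, 1]), (335, [4, 5, 2, 3, 4, 1, 2, 3, 7, 6, 5, 4, 3, 2, 1]), (336, [7, 5, 2, 3, 4, 1, 2, 3, 7, 6, 5, 4, 3, 2, 1]), (337, [8, 5, 2,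 3, 4, 1, 2, 3, 7, 6, 5, 4, 3, 2, 1]), (341, [7, 4, 5, 3, 4, 1, 2, 3, 7, 6, 5, 4, 3, 2, 1]), (342, [8, 4, 5, 3, 4, 1, 2, 3, 7, 6, 5, 4, 3, 2, 1]), (343, [8, 7, 5, 3, 4, 1, 2, 3, 7, 6, 5, 4, 3, 2, 1]), (344, [7, 8, 5, 3, 4, 1, 2, 3, 7, 6, 5, 4, 3, 2, 1]), (347, [3, 7, 8, 5, 4, 1, 2, 3, 7, 6, 5, 4, 3, 2, 1]), (392, [7, 3, 4, 2, 3, 7, 8, 1, 2, 3, 7, 4, 3, 2, 1]), (394, [2, 3, 7, 8, 5, 4, 3, 7, 6, 5, 4, 3, 1, 2, 0, 1]), (395, [4, 3, 7, 8, 5, 4, 3, 7, 6, 5, 4, 3, 1, 2, 0, 1]), (424, [3, 4, 5, 2, 3, 4, 1, 2, 3, 7, 6, 5, 4, 3, 2, 1]), (425, [7, 4, 5, 2, 3, 4, 1, 2, 3, 7, 6, 5, 4, 3, 2, 1]), (426, [8, 4, 5, 2, 3, 4, 1, 2, 3, 7, 6, 5, 4, 3, 2, 1]), (427, [3, 7, 5, 2, 3, 4, 1, 2, 3, 7, 6, 5, 4, 3, 2, 1]), (428, [8, 7, 5, 2, 3, 4, 1, 2, 3, 7, 6, 5, 4, 3, 2, 1]), (429, [7, 8, 5, 2, 3, 4, 1, 2,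 3, 7, 6, 5, 4, 3, 2, 1]), (434, [3, 7, 4, 5, 3, 4, 1, 2, 3, 7, 6, 5, 4, 3, 2, 1])]

/-- points with words -/
def tablePart2 : List (ℕ × List ℕ) :=
  [(435, [8, 7, 4, 5, 3, 4, 1, 2, 3, 7, 6, 5, 4, 3, 2, 1]), (436, [7, 8, 4, 5, 3, 4, 1, 2, 3, 7, 6, 5, 4, 3, 2, 1]), (437, [7, 8, 7, 5, 3, 4, 1, 2, 3, 7, 6, 5, 4, 3, 2, 1]), (438, [3, 7, 8, 5, 3, 4, 1, 2, 3, 7, 6, 5, 4, 3, 2, 1]), (442, [2, 3, 7, 8, 5, 4, 1, 2, 3, 7, 6, 5, 4, 3, 2, 1]), (443, [4, 3, 7, 8, 5, 4, 1, 2, 3, 7, 6, 5, 4, 3, 2, 1]), (472, [5, 4, 3, 7, 2, 3, 4, 1, 2, 3, 7, 5, 4, 3, 2, 1]), (504, [4, 2, 3, 7, 8, 5, 4, 3, 7, 6, 5, 4, 3, 1, 2, 0, 1]), (539, [8, 3, 4, 5, 2, 3, 4, 1, 2, 3, 7, 6, 5, 4, 3, 2, 1]), (540, [8, 7, 4, 5, 2, 3, 4, 1, 2, 3, 7, 6, 5, 4, 3, 2, 1]), (541, [7, 8, 4, 5, 2, 3, 4, 1, 2, 3, 7, 6, 5, 4, 3, 2, 1]), (542,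 [8, 3, 7, 5, 2, 3, 4, 1, 2, 3, 7, 6, 5, 4, 3, 2, 1]), (543, [7, 8, 7, 5, 2, 3, 4, 1, 2, 3, 7, 6, 5, 4, 3, 2, 1]), (544, [3, 7, 8, 5, 2, 3, 4, 1, 2, 3, 7, 6, 5, 4, 3, 2, 1]), (550, [8, 3, 7, 4, 5, 3, 4, 1, 2, 3, 7, 6, 5, 4, 3, 2, 1]), (551, [7, 8, 7, 4, 5, 3, 4, 1, 2, 3, 7, 6, 5, 4, 3, 2, 1]), (552, [3, 7, 8, 4, 5, 3, 4, 1, 2, 3, 7, 6, 5, 4, 3, 2, 1]), (553, [3, 7, 8, 7, 5, 3, 4, 1, 2, 3, 7, 6, 5, 4, 3, 2, 1]), (554, [2, 3, 7, 8, 5, 3, 4, 1, 2, 3, 7, 6, 5, 4, 3, 2, 1]), (555, [4, 3, 7, 8, 5, 3, 4, 1, 2, 3, 7, 6, 5, 4, 3, 2, 1]), (562, [4, 2, 3, 7, 8, 5, 4, 1, 2, 3, 7, 6, 5, 4, 3, 2, 1]), (636, [3, 4, 2, 3, 7, 8, 5, 4, 3, 7, 6, 5, 4, 3, 1, 2, 0, 1]), (637, [1, 2, 3, 7, 4, 5, 3, 4, 2, 3, 7, 6, 5, 4, 3, 2, 0, 1]), (676, [7, 8, 3, 4, 5, 2, 3, 4, 1, 2, 3, 7, 6, 5, 4, 3, 2, 1]), (677, [7,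 8, 7, 4, 5, 2, 3, 4, 1, 2, 3, 7, 6, 5, 4, 3, 2, 1]), (678, [3, 7, 8, 4, 5, 2, 3, 4, 1, 2, 3, 7, 6, 5, 4, 3, 2, 1]), (679, [7, 8, 3, 7, 5, 2, 3, 4, 1, 2, 3, 7, 6, 5, 4, 3, 2, 1]), (680, [3, 7, 8, 7, 5, 2, 3, 4, 1, 2, 3, 7, 6, 5, 4, 3, 2, 1]), (681, [2, 3, 7, 8, 5, 2, 3, 4, 1, 2, 3, 7, 6, 5, 4, 3, 2, 1]), (682, [4, 3, 7, 8, 5, 2, 3, 4, 1, 2, 3, 7, 6, 5, 4, 3, 2, 1])]

/-- points with words -/
def tablePart3 : List (ℕ × List ℕ) :=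
  [(689, [7, 8, 3, 7, 4, 5, 3, 4, 1, 2, 3, 7, 6, 5, 4, 3, 2, 1]), (690, [3, 7, 8, 7, 4, 5, 3, 4, 1, 2, 3, 7, 6, 5, 4, 3, 2, 1]), (691, [2, 3, 7, 8, 4, 5, 3, 4, 1, 2, 3, 7, 6, 5, 4, 3, 2, 1]), (692, [4, 3, 7, 8, 4, 5, 3, 4, 1, 2, 3, 7, 6, 5, 4, 3, 2, 1]), (693, [2, 3, 7, 8, 7, 5, 3, 4, 1, 2, 3, 7, 6, 5, 4, 3, 2, 1]), (694, [4, 3, 7, 8, 7, 5, 3, 4, 1, 2, 3, 7, 6, 5, 4, 3, 2, 1]), (696, [4, 2, 3, 7, 8, 5, 3, 4, 1, 2, 3, 7, 6, 5, 4, 3, 2, 1]), (708, [3, 4, 2, 3, 7, 8, 5, 4, 1, 2, 3, 7, 6, 5, 4, 3, 2, 1]), (792, [7, 3, 4, 2, 3, 7, 8, 5, 4, 3, 7, 6, 5, 4, 3, 1, 2, 0, 1]), (827, [3, 7, 8, 3, 4, 5, 2, 3, 4, 1, 2, 3, 7, 6, 5, 4, 3, 2, 1]), (828, [3, 7, 8, 7, 4, 5, 2, 3, 4, 1, 2, 3, 7, 6, 5, 4, 3, 2, 1]), (829, [2, 3, 7, 8, 4, 5, 2, 3, 4, 1, 2, 3, 7, 6, 5, 4, 3, 2, 1]), (830, [4, 3, 7, 8, 4,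 5, 2, 3, 4, 1, 2, 3, 7, 6, 5, 4, 3, 2, 1]), (831, [3, 7, 8, 3, 7, 5, 2, 3, 4, 1, 2, 3, 7, 6, 5, 4, 3, 2, 1]), (832, [2, 3, 7, 8, 7, 5, 2, 3, 4, 1, 2, 3, 7, 6, 5, 4, 3, 2, 1]), (833, [4, 3, 7, 8, 7, 5, 2, 3, 4, 1, 2, 3, 7, 6, 5, 4, 3, 2, 1]), (835, [4, 2, 3, 7, 8, 5, 2, 3, 4, 1, 2, 3, 7, 6, 5, 4, 3, 2, 1]), (846, [3, 7, 8, 3, 7, 4, 5, 3, 4, 1, 2, 3, 7, 6, 5, 4, 3, 2, 1]), (847, [2, 3, 7, 8, 7, 4, 5, 3, 4, 1, 2, 3, 7, 6, 5, 4, 3, 2, 1]), (848, [4, 3, 7, 8, 7, 4, 5, 3, 4, 1, 2, 3, 7, 6, 5, 4, 3, 2, 1]), (850, [4, 2, 3, 7, 8, 4, 5, 3, 4, 1, 2, 3, 7, 6, 5, 4, 3, 2, 1]), (853, [4, 2, 3, 7, 8, 7, 5, 3, 4, 1, 2, 3, 7, 6, 5, 4, 3, 2, 1]), (857, [3, 4, 2, 3, 7, 8, 5, 3, 4, 1, 2, 3, 7, 6, 5, 4, 3, 2, 1]), (875, [7, 3, 4, 2, 3, 7, 8, 5, 4, 1, 2, 3, 7, 6, 5, 4, 3, 2, 1]), (988, [2, 3, 7, 8, 3,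 4, 5, 2, 3, 4, 1, 2, 3, 7, 6, 5, 4, 3, 2, 1]), (989, [4, 3, 7, 8, 3, 4, 5, 2, 3, 4, 1, 2, 3, 7, 6, 5, 4, 3, 2, 1]), (990, [2, 3, 7, 8, 7, 4, 5, 2, 3, 4, 1, 2, 3, 7, 6, 5, 4, 3, 2, 1]), (991, [4, 3, 7, 8, 7, 4, 5, 2, 3, 4, 1, 2, 3, 7, 6, 5, 4, 3, 2, 1]), (993, [4, 2, 3, 7, 8, 4, 5, 2, 3, 4, 1, 2, 3, 7, 6, 5, 4, 3, 2, 1]), (995, [2, 3, 7, 8, 3, 7, 5, 2, 3, 4, 1, 2, 3, 7, 6, 5, 4, 3, 2, 1])]

/-- points with words -/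
def tablePart4 : List (ℕ × List ℕ) :=
  [(996, [4, 3, 7, 8, 3, 7, 5, 2, 3, 4, 1, 2, 3, 7, 6, 5, 4, 3, 2, 1]), (998, [4, 2, 3, 7, 8, 7, 5, 2, 3, 4, 1, 2, 3, 7, 6, 5, 4, 3, 2, 1]), (1002, [3, 4, 2, 3, 7, 8, 5, 2, 3, 4, 1, 2, 3, 7, 6, 5, 4, 3, 2, 1]), (1016, [2, 3, 7, 8, 3, 7, 4, 5, 3, 4, 1, 2, 3, 7, 6, 5, 4, 3, 2, 1]), (1017, [4, 3, 7, 8, 3, 7, 4, 5, 3, 4, 1, 2, 3, 7, 6, 5, 4, 3, 2, 1]), (1019, [4, 2, 3, 7, 8, 7, 4, 5, 3, 4, 1, 2, 3, 7, 6, 5, 4, 3, 2, 1]), (1023, [3, 4, 2, 3, 7, 8, 4, 5, 3, 4, 1, 2, 3, 7, 6, 5, 4, 3, 2, 1]), (1028, [3, 4, 2, 3, 7, 8, 7, 5, 3, 4, 1, 2, 3, 7, 6, 5, 4, 3, 2, 1]), (1035, [7, 3, 4, 2, 3, 7, 8, 5, 3, 4, 1, 2, 3, 7, 6, 5, 4, 3, 2, 1]), (1062, [8, 7, 3, 4, 2, 3, 7, 8, 5, 4, 1, 2, 3, 7, 6, 5, 4, 3, 2, 1]), (1165, [4, 2, 3, 7, 8, 3, 4, 5, 2, 3, 4, 1, 2, 3, 7,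 6, 5, 4, 3, 2, 1]), (1168, [4, 2, 3, 7, 8, 7, 4, 5, 2, 3, 4, 1, 2, 3, 7, 6, 5, 4, 3, 2, 1]), (1172, [3, 4, 2, 3, 7, 8, 4, 5, 2, 3, 4, 1, 2, 3, 7, 6, 5, 4, 3, 2, 1]), (1176, [4, 2, 3, 7, 8, 3, 7, 5, 2, 3, 4, 1, 2, 3, 7, 6, 5, 4, 3, 2, 1]), (1179, [3, 4, 2, 3, 7, 8, 7, 5, 2, 3, 4, 1, 2, 3, 7, 6, 5, 4, 3, 2, 1]), (1185, [7, 3, 4, 2, 3, 7, 8, 5, 2, 3, 4, 1, 2, 3, 7, 6, 5, 4, 3, 2, 1]), (1202, [4, 2, 3, 7, 8, 3, 7, 4, 5, 3, 4, 1, 2, 3, 7, 6, 5, 4, 3, 2, 1]), (1205, [3, 4, 2, 3, 7, 8, 7, 4, 5, 3, 4, 1, 2, 3, 7, 6, 5, 4, 3, 2, 1]), (1212, [7, 3, 4, 2, 3, 7, 8, 4, 5, 3, 4, 1, 2, 3, 7, 6, 5, 4, 3, 2, 1]), (1218, [7, 3, 4, 2, 3, 7, 8, 7, 5, 3, 4, 1, 2, 3, 7, 6, 5, 4, 3, 2, 1]), (1229, [8, 7, 3, 4, 2, 3, 7, 8, 5, 3, 4, 1, 2, 3, 7, 6, 5, 4, 3, 2, 1]), (1347, [3, 4, 2, 3, 7, 8, 3, 4, 5, 2, 3, 4,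 1, 2, 3, 7, 6, 5, 4, 3, 2, 1]), (1351, [3, 4, 2, 3, 7, 8, 7, 4, 5, 2, 3, 4, 1, 2, 3, 7, 6, 5, 4, 3, 2, 1]), (1357, [7, 3, 4, 2, 3, 7, 8, 4, 5, 2, 3, 4, 1, 2, 3, 7, 6, 5, 4, 3, 2, 1]), (1361, [3, 4, 2, 3, 7, 8, 3, 7, 5, 2, 3, 4, 1, 2, 3, 7, 6, 5, 4, 3, 2, 1]), (1366, [7, 3, 4, 2, 3, 7, 8, 7, 5, 2, 3, 4, 1, 2, 3, 7, 6, 5, 4, 3, 2, 1]), (1376, [8, 7, 3, 4, 2, 3, 7, 8, 5, 2, 3, 4, 1, 2, 3, 7, 6, 5, 4, 3, 2, 1]), (1396, [3, 4, 2, 3, 7, 8, 3, 7, 4, 5, 3, 4, 1, 2, 3, 7, 6, 5, 4, 3, 2, 1]), (1402, [7, 3, 4, 2, 3, 7, 8, 7, 4, 5, 3, 4, 1, 2, 3, 7, 6, 5, 4, 3, 2, 1]), (1413, [8, 7, 3, 4, 2, 3, 7, 8, 4, 5, 3, 4, 1, 2, 3, 7, 6, 5, 4, 3, 2, 1])]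

/-- points with words -/
def tablePart5 : List (ℕ × List ℕ) :=
  [(1423, [8, 7, 3, 4, 2, 3, 7, 8, 7, 5, 3, 4, 1, 2, 3, 7, 6, 5, 4, 3, 2, 1]), (1525, [7, 3, 4, 2, 3, 7, 8, 3, 4, 5, 2, 3, 4, 1, 2, 3, 7, 6, 5, 4, 3, 2, 1]), (1530, [7, 3, 4, 2, 3, 7, 8, 7, 4, 5, 2, 3, 4, 1, 2, 3, 7, 6, 5, 4, 3, 2, 1]), (1540, [8, 7, 3, 4, 2, 3, 7, 8, 4, 5, 2, 3, 4, 1, 2, 3, 7, 6, 5, 4, 3, 2, 1]), (1543, [7, 3, 4, 2, 3, 7, 8, 3, 7, 5, 2, 3, 4, 1, 2, 3, 7, 6, 5, 4, 3, 2, 1]), (1551, [8, 7, 3, 4, 2, 3, 7, 8, 7, 5, 2, 3, 4, 1, 2, 3, 7, 6, 5, 4, 3, 2, 1]), (1581, [7, 3, 4, 2, 3, 7, 8, 3, 7, 4, 5, 3, 4, 1, 2, 3, 7, 6, 5, 4, 3, 2, 1]), (1590, [8, 7, 3, 4, 2, 3, 7, 8, 7, 4, 5, 3, 4, 1, 2, 3, 7, 6, 5, 4, 3, 2, 1]), (1710, [8, 7, 3, 4, 2, 3, 7, 8, 3, 4, 5, 2, 3, 4, 1, 2, 3, 7, 6, 5, 4, 3, 2, 1]), (1716, [8, 7,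 3, 4, 2, 3, 7, 8, 7, 4, 5, 2, 3, 4, 1, 2, 3, 7, 6, 5, 4, 3, 2, 1]), (1734, [8, 7, 3, 4, 2, 3, 7, 8, 3, 7, 5, 2, 3, 4, 1, 2, 3, 7, 6, 5, 4, 3, 2, 1]), (1779, [8, 7, 3, 4, 2, 3, 7, 8, 3, 7, 4, 5, 3, 4, 1, 2, 3, 7, 6, 5, 4, 3, 2, 1]), (2125, [1, 2, 3, 4, 0, 1, 2, 3, 7, 8, 3, 4, 5, 2, 3, 4, 1, 2, 3, 7, 6, 5, 4, 3, 2, 1]), (2179, [1, 2, 3, 4, 0, 1, 2, 3, 7, 8, 3, 7, 5, 2, 3, 4, 1, 2, 3, 7, 6, 5, 4, 3, 2, 1]), (2364, [7, 1, 2, 3, 4, 0, 1, 2, 3, 7, 8, 3, 4, 5, 2, 3, 4, 1, 2, 3, 7, 6, 5, 4, 3, 2, 1]), (2433, [7, 1, 2, 3, 4, 0, 1, 2, 3, 7, 8, 3, 7, 5, 2, 3, 4, 1, 2, 3, 7, 6, 5, 4, 3, 2, 1]), (2608, [3, 7, 1, 2, 3, 4, 0, 1, 2, 3, 7, 8, 3, 4, 5, 2, 3, 4, 1, 2, 3, 7, 6, 5, 4, 3, 2, 1]), (2609, [8, 7, 1, 2, 3, 4, 0, 1, 2, 3, 7, 8, 3, 4, 5, 2, 3, 4, 1, 2, 3, 7, 6, 5, 4, 3, 2, 1]), (2691, [3, 7,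 1, 2, 3, 4, 0, 1, 2, 3, 7, 8, 3, 7, 5, 2, 3, 4, 1, 2, 3, 7, 6, 5, 4, 3, 2, 1]), (2692, [8, 7, 1, 2, 3, 4, 0, 1, 2, 3, 7, 8, 3, 7, 5, 2, 3, 4, 1, 2, 3, 7, 6, 5, 4, 3, 2, 1]), (2855, [2, 3, 7, 1, 2, 3, 4, 0, 1, 2, 3, 7, 8, 3, 4, 5, 2, 3, 4, 1, 2, 3, 7, 6, 5, 4, 3, 2, 1]), (2856, [4, 3, 7, 1, 2, 3, 4, 0, 1, 2, 3, 7, 8, 3, 4, 5, 2, 3, 4, 1, 2, 3, 7, 6, 5, 4, 3, 2, 1]), (2857, [8, 3, 7, 1, 2, 3, 4, 0, 1, 2, 3, 7, 8, 3, 4, 5, 2, 3, 4, 1, 2, 3, 7, 6, 5, 4, 3, 2, 1]), (2942, [8, 3, 7, 1, 2, 3, 4, 0, 1, 2, 3, 7, 8, 3, 7, 5, 2, 3, 4, 1, 2, 3, 7, 6, 5, 4, 3, 2, 1]), (3085, [8, 2, 3, 7, 1, 2, 3, 4, 0, 1, 2, 3, 7, 8, 3, 4, 5, 2, 3, 4, 1, 2, 3, 7, 6, 5, 4, 3, 2, 1]), (3086, [8, 4, 3, 7, 1, 2, 3, 4, 0, 1, 2, 3, 7, 8, 3, 4, 5, 2, 3, 4, 1, 2, 3, 7, 6, 5, 4, 3, 2, 1]), (3087, [7, 8, 3, 7, 1, 2, 3, 4,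 0, 1, 2, 3, 7, 8, 3, 4, 5, 2, 3, 4, 1, 2, 3, 7, 6, 5, 4, 3, 2, 1]), (3163, [7, 8, 3, 7, 1, 2, 3, 4, 0, 1, 2, 3, 7, 8, 3, 7, 5, 2, 3, 4, 1, 2, 3, 7, 6, 5, 4, 3, 2, 1]), (3270, [7, 8, 2, 3, 7, 1, 2, 3, 4, 0, 1, 2, 3, 7, 8, 3, 4, 5, 2, 3, 4, 1, 2, 3, 7, 6, 5, 4, 3, 2, 1]), (3271, [7, 8, 4, 3, 7, 1, 2, 3, 4, 0, 1, 2, 3, 7, 8, 3, 4, 5, 2, 3, 4, 1, 2, 3, 7, 6, 5, 4, 3, 2, 1])]

/-- points with words -/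
def tablePart6 : List (ℕ × List ℕ) :=
  [(3399, [3, 7, 8, 2, 3, 7, 1, 2, 3, 4, 0, 1, 2, 3, 7, 8, 3, 4, 5, 2, 3, 4, 1, 2, 3, 7, 6, 5, 4, 3, 2, 1]), (3400, [3, 7, 8, 4, 3, 7, 1, 2, 3, 4, 0, 1, 2, 3, 7, 8, 3, 4, 5, 2, 3, 4, 1, 2, 3, 7, 6, 5, 4, 3, 2, 1])]

/-- the two transpositions and their common neighbours, with words reaching them -/
def table : List (ℕ × List ℕ) :=
  tablePart0 ++ tablePart1 ++ tablePart2 ++ tablePart3 ++ tablePart4 ++ tablePart5 ++ tablePart6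

/-- a word exchanging the two transpositions -/
def swapWord : List ℕ := [1, 2, 3, 4, 5, 6, 0, 1, 2, 3, 4, 5, 3, 4, 2, 3, 1, 2, 0, 1]

/-- generators of level 0 -/
def gens0 : List (List (Option ℕ)) := [[some 3], [some 4], [some 5], [some 6], [some 10], [some 17], [some 26], [some 27]]

/-- the orbit tree of level 0 -/
def tree0 : List (ℕ × ℕ × ℕ) := [(6, 0, 16), (6, 1, 10), (6, 2, 26), (6, 3, 27), (6, 4, 44), (16, 7, 214), (10, 2, 40), (10, 3, 43), (10, 4, 66), (10, 7, 266), (26, 3, 47), (26, 4, 70), (26, 7, 269), (27, 7, 270), (44, 5, 152), (44, 6, 311), (44, 7, 553), (214, 1, 172), (214, 2, 424), (214, 3, 427), (214, 4, 832), (40, 0, 17), (40, 3, 29), (40, 4, 48), (43, 0, 18), (66, 0, 30), (66, 5, 118), (66, 6, 246), (66, 7, 274), (266, 4, 442), (47, 0, 42), (70, 0, 65), (70, 5,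 308), (70, 6, 636), (70, 7, 1347), (269, 4, 988), (270, 4, 995), (152, 6, 2608), (152, 7, 692), (311, 7, 681), (553, 0, 680), (553, 1, 437), (553, 2, 1351), (553, 3, 831), (172, 2, 335), (172, 3, 336), (172, 4, 693), (424, 3, 341), (424, 4, 990), (832, 3, 542), (832, 5, 1023), (832, 6, 429), (29, 7, 425), (48, 5, 243), (48, 6, 504), (48, 7, 853), (18, 4, 92), (30, 5, 193), (30, 6, 394), (118, 6, 2364), (118, 7, 550), (274, 1, 347), (274, 2, 562), (274, 4, 543), (442, 3, 337), (442, 5, 540), (442, 6, 343), (42, 4, 97), (65, 5, 194), (65, 6, 395), (65, 7, 694), (308, 6, 2433), (308, 7, 1543), (636, 7, 1581), (1347, 0, 989), (1347, 1, 1165), (1347, 2, 827), (1347, 3, 1002), (1347, 4, 1179), (988, 0, 676), (988, 3, 342), (988, 5, 1218), (988, 6, 1530), (995, 0, 679), (995, 5, 1212), (2608,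 4, 3399), (2608, 7, 828), (692, 0, 857), (692, 1, 555), (692, 2, 830), (692, 3, 1035), (692, 4, 1779), (681, 0, 344), (681, 1, 554), (681, 2, 829), (681, 3, 271), (680, 2, 1205), (437, 2, 1168), (1351, 0, 833), (1351, 3, 1361), (831, 4, 438), (335, 3, 434), (335, 4, 847), (693, 3, 428), (693, 5, 850), (693, 6, 544), (990, 0, 551), (990, 3, 435), (990, 7, 2855), (542, 5, 708), (425, 4, 1016), (243, 6, 2691), (243, 7, 691), (504, 7, 682), (853, 0, 1019), (853, 1, 1028), (853, 2, 677), (853, 3, 1202), (92, 5, 86), (92, 6, 196), (92, 7, 217), (193, 4, 59), (394, 4, 155), (2364, 4, 3270), (550, 4, 426), (543, 5, 696), (540, 6, 443), (97, 5, 392), (97, 6, 792), (97, 7, 1525), (194, 4, 472), (194, 6, 2856), (194, 7, 552), (395, 4, 637), (395, 7, 835), (694, 1, 848), (694, 3, 1402), (694,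 4, 1062), (2433, 4, 3271), (1543, 1, 1366), (1543, 4, 1357), (989, 3, 1185), (989, 4, 1376), (1165, 4, 998), (827, 4, 690), (1179, 0, 991), (1179, 5, 993), (1179, 6, 678), (676, 3, 436), (342, 0, 539), (342, 5, 1017), (342, 6, 996), (679, 2, 1176), (679, 5, 875), (3399, 0, 3087), (3399, 3, 2857), (828, 3, 846), (857, 4, 1396), (555, 4, 1590), (830, 4, 1551), (1779, 0, 1423), (1779, 3, 1229), (833, 4, 1540), (1361, 4, 1172), (2855, 3, 2125), (1016, 0, 689), (2691, 4, 3400), (691, 0, 541), (682, 4, 1734), (3270, 3, 2609), (443, 4, 1413), (392, 6, 2179), (3271, 3, 2692), (1376, 0, 1710), (996, 4, 1716), (1590, 7, 3086), (1551, 7, 3085), (1423, 7, 2942), (1229, 7, 3163)]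

/-- generators of level 1 -/
def gens1 : List (List (Option ℕ)) := [[some 19], [some 27], [some 22], [some 23], [some 24]]

/-- the orbit tree of level 1 -/
def tree1 : List (ℕ × ℕ × ℕ) := [(10, 0, 30), (10, 1, 266), (10, 4, 193), (30, 1, 693), (30, 2, 18), (30, 3, 42), (266, 0, 543), (266, 2, 337), (266, 3, 1185), (266, 4, 696), (193, 1, 850), (693, 0, 442), (693, 2, 554), (693, 3, 829), (693, 4, 426), (18, 1, 336), (18, 3, 65), (42, 1, 341), (543, 2, 429), (543, 3, 436), (337, 0, 428), (337, 3, 1376), (337, 4, 853), (1185, 0, 1366), (1185, 4, 1168), (696, 1, 540), (850, 0, 1202), (850, 2, 1019), (850, 3, 998), (554, 3, 990), (554, 4, 335), (829, 4, 1229), (336, 3, 1402), (336, 4, 847), (65, 0, 26), (65, 1, 694), (341, 2, 435), (341, 4, 848), (429, 3, 551), (428, 3, 1590), (428,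 4, 691), (1376, 0, 1179), (1376, 1, 3270), (1376, 4, 993), (853, 0, 562), (853, 1, 48), (1366, 2, 1551), (1366, 4, 682), (1168, 0, 1165), (1168, 1, 2691), (540, 2, 425), (540, 3, 1716), (1019, 3, 835), (990, 0, 988), (990, 1, 2855), (990, 4, 1035), (335, 0, 677), (335, 1, 17), (1229, 0, 1028), (1229, 1, 3163), (1402, 0, 1212), (1402, 1, 830), (1402, 4, 681), (26, 1, 269), (26, 4, 194), (694, 0, 443), (694, 2, 555), (694, 4, 271), (435, 0, 342), (435, 4, 692), (1590, 0, 1023), (1590, 1, 3086), (1590, 4, 832), (691, 0, 1016), (691, 1, 243), (1179, 2, 1002), (3270, 4, 394), (993, 1, 1218), (48, 2, 29), (48, 3, 27), (1551, 1, 3085), (1551, 4, 833), (682, 0, 996), (682, 1, 504), (2691, 2, 2942), (2691, 3, 2857), (425, 0, 541), (425, 3, 1530), (1716, 0, 1172), (835, 0, 1176), (835, 1, 395),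 (988, 4, 831), (677, 3, 344), (1028, 2, 857), (1212, 2, 1413), (1212, 4, 828), (830, 2, 991), (830, 4, 1540), (681, 0, 995), (681, 1, 311), (269, 4, 438), (194, 1, 552), (443, 4, 846), (555, 4, 214), (271, 0, 343), (342, 4, 553), (692, 0, 1017), (692, 1, 152), (1023, 2, 1205), (3086, 2, 2856), (394, 1, 544), (1218, 2, 1423), (1218, 3, 270), (29, 3, 44), (2942, 3, 2608), (541, 3, 437), (1530, 0, 1357), (1530, 1, 678), (1172, 2, 1351), (1176, 4, 989), (395, 4, 3271), (828, 0, 827), (1540, 1, 3087), (552, 2, 690), (552, 3, 680), (214, 1, 16), (553, 0, 347)]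

/-- generators of level 2 -/
def gens2 : List (List (Option ℕ)) := [[some 23], [some 22], [some 50], [some 27, some 22, some 24, some 27, some 23, none, some 5, some 4, some 24, some 22, some 27, some 19]]

/-- the orbit tree of level 2 -/
def tree2 : List (ℕ × ℕ × ℕ) := [(344, 0, 677), (344, 1, 437), (344, 2, 990), (344, 3, 682), (677, 1, 541), (677, 2, 544), (677, 3, 1179), (437, 2, 835), (437, 3, 1205), (990, 0, 554), (990, 1, 829), (990, 3, 833), (682, 0, 848), (682, 2, 543), (682, 3, 857), (541, 2, 991), (541, 3, 681), (544, 0, 690), (544, 1, 680), (544, 3, 1002), (1179, 0, 1023), (1179, 2, 691), (835, 0, 1019), (835, 1, 998), (1205, 2, 692), (554, 1, 693), (554, 3, 993), (829, 3, 438), (833, 2, 678), (848, 2, 696), (543, 0, 436), (543, 1, 429), (543, 3, 1028), (857, 0, 1351),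 (857, 2, 694), (991, 0, 555), (991, 1, 830), (991, 3, 832), (681, 0, 847), (681, 2, 551), (681, 3, 1172), (690, 1, 552), (690, 3, 1168), (680, 3, 853), (1002, 2, 553), (1002, 3, 850), (1019, 3, 828)]

/-- generators of level 3 -/
def gens3 : List (List (Option ℕ)) := [[some 50, some 98, some 22, some 23], [some 22, some 50, some 23, some 82], [some 22, some 27, some 3, some 27, some 10, some 157, some 17, some 10, some 4, some 24, some 27, some 22, some 23, some 50]]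

/-- the orbit tree of level 3 -/
def tree3 : List (ℕ × ℕ × ℕ) := [(18, 0, 3086), (18, 1, 42), (18, 2, 1212), (3086, 1, 3085), (3086, 2, 342), (42, 2, 337), (1212, 2, 442), (3085, 2, 1185), (342, 2, 443), (337, 2, 988), (1185, 2, 989)]

/-- generators of level 4 -/
def gens4 : List (List (Option ℕ)) := []

/-- the orbit tree of level 4 -/
def tree4 : List (ℕ × ℕ × ℕ) := []

/-- generators of level 5 -/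
def gens5 : List (List (Option ℕ)) := []

/-- the orbit tree of level 5 -/
def tree5 : List (ℕ × ℕ × ℕ) := []

/-- points derived by conjugation before level 0 -/
def ext0 : List (ℕ × ℕ × ℕ) := []

/-- points derived by conjugation before level 1 -/
def ext1 : List (ℕ × ℕ × ℕ) := []

/-- points derived by conjugation before level 2 -/
def ext2 : List (ℕ × ℕ × ℕ) := [(6, 10, 16)]

/-- points derived by conjugation before level 3 -/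
def ext3 : List (ℕ × ℕ × ℕ) := [(6, 344, 429), (10, 344, 681), (10, 429, 554), (16, 344, 438), (16, 429, 544)]

/-- points derived by conjugation before level 4 -/
def ext4 : List (ℕ × ℕ × ℕ) := [(6, 18, 27), (10, 18, 43), (344, 27, 274), (344, 43, 271), (429, 43, 337), (681, 27, 442), (681, 337, 347), (554, 18, 217)]

/-- points derived by conjugation before level 5 -/
def ext5 : List (ℕ × ℕ × ℕ) := [(6, 48, 65), (10, 65, 70), (344, 65, 689), (344, 70, 1716), (429, 70, 1551), (681, 65, 1734), (681, 70, 1016), (554, 1716, 846), (18, 65, 97), (18, 689, 677), (18, 1551, 1710), (18, 1734, 1540), (18, 1016, 540), (18, 846, 828), (27, 689, 551), (27, 1734, 1376), (27, 1016, 990), (27, 846, 435), (43, 689, 550), (43, 1016, 847), (43, 846, 690), (274, 1734, 392), (274, 1016, 243), (274, 846,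 194), (274, 550, 59), (271, 990, 308)]

/-- relations of level 4 -/
def rels4 : List (List ℕ × Bool) := [([2, 20, 11, 3, 1, 0, 5, 2, 20, 11, 3, 1, 0, 5, 2, 20, 11, 3, 1, 0, 5, 2, 20, 11, 3, 1, 0, 5, 2, 20, 11, 3, 1, 0, 5], false), ([20, 1, 2, 11, 5, 3, 20, 1, 2, 11, 5, 3, 20, 1, 2, 11, 5, 3, 20, 1, 2, 11, 5, 3, 20, 1, 2, 11, 5, 3, 20, 1, 2, 11, 5, 3, 20, 1, 2, 11, 5, 3, 20, 1, 2, 11, 5, 3, 20, 1, 2, 11, 5, 3], true)]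

/-- relations of level 5 -/
def rels5 : List (List ℕ × Bool) := [([0, 2, 1, 11, 47, 3, 20, 0, 2, 1, 11, 47, 3, 20, 0, 2, 1, 11, 47, 3, 20, 0, 2, 1, 11, 47, 3, 20, 0, 2, 1, 11, 47, 3, 20, 0, 2, 1, 11, 47, 3, 20], false), ([47, 2, 5, 3, 0, 20, 47, 2, 5, 3, 0, 20, 47, 2, 5, 3, 0, 20, 47, 2, 5, 3, 0, 20, 47, 2, 5, 3, 0, 20, 47, 2, 5, 3, 0, 20, 47, 2, 5, 3, 0, 20, 47, 2, 5, 3, 0, 20, 47, 2, 5, 3, 0, 20], true)]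

/-- the six transpositions -/
def targets : List ℕ := [6, 10, 344, 18, 48, 47]

/-- conjugates of the eight transpositions -/
def conjTree : List (ℕ × ℕ × ℕ) := [(6, 3, 16), (6, 4, 429), (6, 5, 27), (6, 6, 65), (10, 4, 681), (10, 5, 43), (10, 7, 42), (344, 7, 1035), (18, 7, 26), (16, 4, 438), (16, 6, 70), (16, 7, 29), (429, 3, 554), (429, 5, 274), (429, 6, 689), (429, 7, 1212), (27, 6, 97), (27, 7, 17), (681, 2, 544), (681, 5, 271), (1035, 5, 692), (438, 6, 1716), (438, 7, 827), (70, 7, 92), (29, 4, 676), (29, 5, 40), (554, 5, 217), (554, 6, 1016), (554, 7, 988), (274, 3, 442), (274, 6, 677), (274, 7, 1525), (689, 7, 1543), (1212, 3, 875), (1212, 5, 443), (97, 7, 66), (17, 4, 993), (544, 5, 347), (544, 6, 1734), (271, 2, 337), (271, 7, 857), (692, 2, 850), (1716, 2, 1551), (1716,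 7, 1229), (827, 5, 552), (92, 4, 437), (92, 5, 30), (676, 5, 436), (217, 6, 540), (217, 7, 1347), (1016, 2, 846), (1016, 7, 832), (988, 5, 342), (442, 6, 847), (442, 7, 829), (677, 2, 551), (677, 7, 1218), (1525, 3, 1185), (1525, 4, 562), (1525, 5, 830), (1543, 3, 1530), (1543, 5, 833), (875, 5, 555), (443, 3, 708), (66, 4, 270), (993, 3, 835), (347, 6, 1540), (347, 7, 678), (337, 6, 550), (337, 7, 1023), (850, 3, 696), (850, 6, 434), (1551, 5, 1710), (1551, 7, 1413), (1229, 5, 1779), (552, 2, 691), (437, 2, 543), (437, 5, 679), (30, 2, 44), (436, 2, 541), (540, 2, 435), (540, 7, 1028), (1347, 3, 989), (1347, 4, 2857), (1347, 5, 1002), (846, 5, 828), (846, 7, 680), (832, 5, 542), (342, 2, 426), (342, 3, 539), (847, 2, 690), (847, 7, 995), (551, 3, 990), (551, 7, 1402), (1218, 3, 1581),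 (1218, 4, 335), (1218, 5, 1017), (1185, 2, 1357), (1530, 2, 1366), (1530, 5, 996), (833, 2, 998), (833, 3, 1351), (708, 4, 2942), (270, 2, 336), (270, 3, 427), (835, 2, 682), (835, 5, 1165), (1540, 2, 1376), (1540, 7, 1423), (678, 4, 3163), (550, 7, 1361), (1023, 4, 3400), (696, 4, 3087), (696, 6, 425), (1413, 3, 1062), (1413, 4, 504), (691, 4, 3270), (543, 3, 693), (435, 4, 194), (435, 7, 1205), (1028, 3, 848), (1028, 4, 2179), (1028, 5, 1396), (2857, 2, 3085), (2857, 5, 3399), (1002, 2, 1172), (680, 3, 553), (680, 4, 155), (542, 3, 343), (426, 4, 2609), (690, 4, 59), (690, 7, 831), (990, 4, 392), (1402, 4, 193), (1402, 5, 694), (335, 2, 269), (1017, 2, 1202), (1357, 4, 2692), (1366, 4, 395), (1366, 5, 991), (996, 2, 1176), (998, 3, 1168), (998, 4, 472), (1351, 2, 1179), (1351, 4,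 2125), (2942, 2, 3086), (336, 5, 172), (427, 5, 214), (682, 4, 3271), (1376, 4, 243), (1376, 7, 1590), (1423, 4, 2364), (1361, 4, 2855), (3087, 6, 2433), (425, 2, 341), (693, 4, 196), (693, 5, 428), (194, 3, 308), (848, 2, 1019), (2179, 5, 2856), (392, 7, 118), (193, 2, 152), (193, 5, 86), (694, 2, 853), (269, 3, 424), (395, 3, 636), (395, 5, 792), (172, 3, 266), (2855, 2, 2608), (196, 5, 394), (1019, 4, 637), (2856, 2, 2691), (792, 7, 246), (266, 4, 311)]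

end CfsgLib.ThreeTrans.FiCent.RigidData
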