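import Cfsg.Agent.Lib.ThreeTrans.FiCent.Outer
import Cfsg.Agent.Lib.ThreeTrans.FiCent.ChainData

/-!
Checks for tuples of transpositions commuting with two fixed ones.
-/

set_option autoImplicit false
set_option maxRecDepth 100000
set_option exponentiation.threshold 600

namespace CfsgLib.ThreeTrans.FiCent

open Subgroup CfsgLib.Presented CfsgLib.Presented.Fi22Pts RigidData ChainData
open CfsgLib.ThreeTrans.Inst.FiTwentyTwo (P maskA)
open Fi22UCert (rep)

/-- The word of a listed point. -/
noncomputable def wordAt (k : ℕ) : List ℕ := (table.getD k (0, [])).2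

/-- The point of an entry. -/
noncomputable def ptAt (k : ℕ) : ℕ := (table.getD k (0, [])).1

/-- The word reaching a listed point. -/
noncomputable def wordOf (p : ℕ) : Option (List ℕ) :=
  List.rec (motive := fun _ => Option (List ℕ)) none
    (fun e _ ih => cond (Nat.beq e.1 p) (some e.2) ih) table

/-- An automorphism given by a sequence of transpositions and symmetries. -/
noncomputable def atomAut : Option ℕ → MulAut X
  | none => tauAut
  | some k => MulAut.conj (el (tw (wordAt k)))

/-- The product of a sequence. -/
noncomputable def seqAut (s : List (Option ℕ)) : MulAut X := (s.map atomAut).prod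

/-- The effect of an atom on a listed point; out of range on failure. -/
noncomputable def atomPt (o : Option ℕ) (p : ℕ) : ℕ :=
  Option.rec (motive := fun _ => ℕ)
    (Option.rec (motive := fun _ => ℕ) 3510 (fun u => tauPt u) (wordOf p))
    (fun k => img (tw (wordAt k)) p) o

/-- The effect of a sequence on a listed point. -/
noncomputable def seqPt (s : List (Option ℕ)) (p : ℕ) : ℕ :=
  List.rec (motive := fun _ => ℕ) p (fun o _ ih => Vec.force ih fun q => cond (Nat.blt q 3510) (atomPt o q) 3510) s

theorem seqPt_cons (o : Option ℕ) (s : List (Option ℕ)) (p : ℕ) :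
    seqPt (o :: s) p = if seqPt s p < 3510 then atomPt o (seqPt s p) else 3510 := by
  show Vec.force (seqPt s p) (fun q => cond (Nat.blt q 3510) (atomPt o q) 3510) = _
  rw [Vec.force_eq]
  by_cases h : seqPt s p < 3510
  · rw [if_pos h, show Nat.blt (seqPt s p) 3510 = true by rwa [Nat.blt_eq]]; rfl
  · rw [if_neg h, show Nat.blt (seqPt s p) 3510 = false by
      rw [← Bool.not_eq_true, Nat.blt_eq]; exact h]; rfl

theorem table_ok : (table.all fun e => ok e.2 && Nat.beq (img e.2 0) e.1 && Nat.blt e.1 3510 &&
    ok (tw e.2)) = true := by decide +kernel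

theorem wordAt_ok (k : ℕ) : ok (wordAt k) = true := by
  unfold wordAt
  by_cases hk : k < table.length
  · have := List.all_eq_true.1 table_ok _ (List.getElem_mem hk)
    simp only [Bool.and_eq_true] at this
    rw [List.getD_eq_getElem _ _ hk]
    exact this.1.1.1
  · rw [List.getD_eq_default _ _ (not_lt.1 hk)]
    rfl

theorem wordOf_spec {p : ℕ} {u : List ℕ} (h : wordOf p = some u) : ok u = true ∧ img u 0 = p := by
  have key : ∀ l : List (ℕ × List ℕ), List.rec (motive := fun _ => Option (List ℕ)) none
      (fun e _ ih => cond (Nat.beq e.1 p) (some e.2) ih) l = some u → ∃ e ∈ l, e.1 = p ∧ e.2 = u := by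
    intro l
    induction l with
    | nil => intro h; exact absurd h (by simp)
    | cons e l ih =>
      intro h
      change cond (Nat.beq e.1 p) (some e.2) _ = some u at h
      cases hb : Nat.beq e.1 p
      · rw [hb] at h
        obtain ⟨e', he', h'⟩ := ih h
        exact ⟨e', List.mem_cons_of_mem _ he', h'⟩
      · rw [hb] at h
        exact ⟨e, List.mem_cons_self, Nat.eq_of_beq_eq_true hb, Option.some.inj h⟩
  obtain ⟨e, he, rfl, rfl⟩ := key table h
  have := List.all_eq_true.1 table_ok e he
  simp only [Bool.and_eq_true] at this
  exact ⟨this.1.1.1, Nat.eq_of_beq_eq_true this.1.1.2⟩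

theorem atomAut_T {o : Option ℕ} {p : ℕ} (hp : p < rep.N) (hq : atomPt o p < 3510) :
    atomAut o (T p) = T (atomPt o p) := by
  cases o with
  | none =>
    cases hu : wordOf p with
    | none =>
      have e : atomPt none p = 3510 := by
        show Option.rec (motive := fun _ => ℕ) 3510 (fun u => tauPt u) (wordOf p) = 3510
        rw [hu]
      rw [e] at hq
      exact absurd hq (lt_irrefl _)
    | some u =>
      obtain ⟨h1, h2⟩ := wordOf_spec hu
      have e : atomPt none p = tauPt u := by
        show Option.rec (motive := fun _ => ℕ) 3510 (fun u => tauPt u) (wordOf p) = _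
        rw [hu]
      rw [e, ← h2]
      exact tauAut_T h1
  | some k => exact el_conj (ok_tw (wordAt_ok k)) hp

theorem seqAut_T : ∀ {s : List (Option ℕ)} {p : ℕ}, p < rep.N → seqPt s p < 3510 →
    seqAut s (T p) = T (seqPt s p)
  | [], p, _, _ => rfl
  | o :: s, p, hp, hq => by
    have hs : seqPt s p < 3510 := by
      by_contra h
      rw [seqPt_cons, if_neg h] at hq
      exact absurd hq (lt_irrefl _)
    rw [seqPt_cons, if_pos hs] at hq ⊢
    rw [seqAut, List.map_cons, List.prod_cons, MulAut.mul_apply]
    rw [show (s.map atomAut).prod (T p) = T (seqPt s p) from seqAut_T hp hs]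
    exact atomAut_T hs hq

/-- The word of the elements listed by indices in `base`, the last being `p`. -/
noncomputable def relWord (base : List (List ℕ)) (u : List ℕ) : List ℕ :=
  u.flatMap fun k => tw (base.getD k [])

/-- The tests passed by images of the point `m`. -/
noncomputable def passes (base : List ℕ) (m : ℕ) (rels : List (List ℕ × Bool)) (p : ℕ) : Bool :=
  match wordOf p with
  | none => false
  | some u => !base.contains p &&
      base.all (fun q => match wordOf q with
        | none => false
        | some v => Nat.beq (img (tw v) p) p == Nat.beq (img (tw v) m) m) &&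
      rels.all (fun r => eqW (relWord ((base.map fun q => (wordOf q).getD []) ++ [u]) r.1) [] == r.2)

/-- The orbit tree of a level, as a list of points. -/
noncomputable def reach (gens : List (List (Option ℕ))) (tree : List (ℕ × ℕ × ℕ)) : List ℕ → Bool × List ℕ :=
  List.rec (motive := fun _ => List ℕ → Bool × List ℕ) (fun acc => (true, acc))
    (fun t _ ih acc => cond (acc.contains t.1 && Nat.blt t.1 3510 && Nat.blt t.2.1 gens.length &&
      Nat.beq (seqPt (gens.getD t.2.1 []) t.1) t.2.2 && Nat.blt t.2.2 3510)
      (ih (t.2.2 :: acc)) (false, acc)) tree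

theorem reach_spec {gens : List (List (Option ℕ))} (Q : ℕ → Prop)
    (hgen : ∀ s ∈ gens, ∀ p, p < rep.N → seqPt s p < 3510 → Q p → Q (seqPt s p)) :
    ∀ {tree : List (ℕ × ℕ × ℕ)} {acc : List ℕ}, (reach gens tree acc).1 = true →
      (∀ q ∈ acc, Q q) → ∀ q ∈ (reach gens tree acc).2, Q q
  | [], acc, _, ha, q, hq => ha q hq
  | t :: l, acc, h, ha, q, hq => by
    have e : reach gens (t :: l) acc = cond (acc.contains t.1 && Nat.blt t.1 3510 && Nat.blt t.2.1 gens.length &&
      Nat.beq (seqPt (gens.getD t.2.1 []) t.1) t.2.2 && Nat.blt t.2.2 3510)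
      (reach gens l (t.2.2 :: acc)) (false, acc) := rfl
    cases hb : (acc.contains t.1 && Nat.blt t.1 3510 && Nat.blt t.2.1 gens.length &&
      Nat.beq (seqPt (gens.getD t.2.1 []) t.1) t.2.2 && Nat.blt t.2.2 3510)
    · rw [e, hb] at h; exact absurd h (by simp)
    · rw [e, hb, cond_true] at h hq
      simp only [Bool.and_eq_true, List.contains_iff_mem, Nat.blt_eq] at hb
      obtain ⟨⟨⟨⟨h1, h2⟩, h3⟩, h4⟩, h5⟩ := hb
      refine reach_spec Q hgen h (fun r hr => ?_) q hq
      rcases List.mem_cons.1 hr with rfl | hr
      · rw [← Nat.eq_of_beq_eq_true h4] at h5 ⊢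
        refine hgen _ ?_ _ h2 h5 (ha _ h1)
        rw [List.getD_eq_getElem _ _ h3]
        exact List.getElem_mem _
      · exact ha r hr

/-- The check of one level. -/
noncomputable def levelOK (base : List ℕ) (m : ℕ) (rels : List (List ℕ × Bool))
    (gens : List (List (Option ℕ))) (tree : List (ℕ × ℕ × ℕ)) : Bool :=
  Nat.blt m 3510 && gens.all (fun s => base.all fun q => Nat.beq (seqPt s q) q) &&
    base.all (fun q => Nat.blt q 3510 && (wordOf q).isSome) && (wordOf m).isSome &&
    (reach gens tree [m]).1 &&
    table.all (fun e => !(passes base m rels e.1) || (reach gens tree [m]).2.contains e.1) &&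
    rels.all (fun r => r.1.all (fun k => Nat.ble k base.length) &&
      eqW (relWord ((base.map fun q => (wordOf q).getD []) ++ [(wordOf m).getD []]) r.1) [] == r.2) &&
    !base.contains m

/-- A step of conjugation is correct. -/
noncomputable def extOK (t : ℕ × ℕ × ℕ) (base : List ℕ) : Bool :=
  base.contains t.1 && base.contains t.2.1 && Nat.blt t.2.1 3510 &&
    Option.rec (motive := fun _ => Bool) false (fun u => Nat.beq (img (tw u) t.2.1) t.2.2) (wordOf t.1)

/-- Conjugates appended, each checked. -/
noncomputable def extend (exts : List (ℕ × ℕ × ℕ)) : List ℕ → Bool × List ℕ :=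
  List.rec (motive := fun _ => List ℕ → Bool × List ℕ) (fun base => (true, base))
    (fun t _ ih base => cond (extOK t base) (ih (base ++ [t.2.2])) (false, base)) exts

/-- The list before each level. -/
noncomputable def base0 : List ℕ := (extend ext0 [0, 154]).2
/-- The list before level one. -/
noncomputable def base1 : List ℕ := (extend ext1 (base0 ++ [6])).2
/-- The list before level two. -/
noncomputable def base2 : List ℕ := (extend ext2 (base1 ++ [10])).2
/-- The list before level three. -/
noncomputable def base3 : List ℕ := (extend ext3 (base2 ++ [344])).2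
/-- The list before level four. -/
noncomputable def base4 : List ℕ := (extend ext4 (base3 ++ [18])).2
/-- The list before level five. -/
noncomputable def base5 : List ℕ := (extend ext5 (base4 ++ [48])).2

end CfsgLib.ThreeTrans.FiCent
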