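import Cfsg.Agent.Lib.ThreeTrans.FiCent.RigidDefs

/-!
The levels checked.
-/

set_option autoImplicit false
set_option maxRecDepth 100000
set_option exponentiation.threshold 600

namespace CfsgLib.ThreeTrans.FiCent

open Subgroup CfsgLib.Presented CfsgLib.Presented.Fi22Pts RigidData ChainData
open CfsgLib.ThreeTrans.Inst.FiTwentyTwo (P maskA)
open Fi22UCert (rep)

theorem levels_high :
    (levelOK base3 18 [] gens3 tree3 && levelOK base4 48 rels4 gens4 tree4 &&
      levelOK base5 47 rels5 gens5 tree5) = true := by decide +kernel

end CfsgLib.ThreeTrans.FiCent
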