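import Cfsg.Agent.Lib.ThreeTrans.FiCent.RigidLevelsLow
import Cfsg.Agent.Lib.ThreeTrans.FiCent.RigidLevelsHigh

/-!
The levels checked.
-/

set_option autoImplicit false
set_option maxRecDepth 100000
set_option exponentiation.threshold 600

namespace CfsgLib.ThreeTrans.FiCent

open Subgroup CfsgLib.Presented CfsgLib.Presented.Fi22Pts RigidData ChainData
open CfsgLib.ThreeTrans.Inst.FiTwentyTwo (P maskA)
open Fi22UCert (rep)

theorem exts_ok :
    ((extend ext0 [0, 154]).1 && (extend ext1 (base0 ++ [6])).1 && (extend ext2 (base1 ++ [10])).1 &&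
      (extend ext3 (base2 ++ [344])).1 && (extend ext4 (base3 ++ [18])).1 &&
      (extend ext5 (base4 ++ [48])).1) = true := by decide +kernel

theorem levels_ok :
    (levelOK base0 6 [] gens0 tree0 && levelOK base1 10 [] gens1 tree1 &&
      levelOK base2 344 [] gens2 tree2 && levelOK base3 18 [] gens3 tree3 &&
      levelOK base4 48 rels4 gens4 tree4 && levelOK base5 47 rels5 gens5 tree5) = true := by
  have h₁ := levels_low
  have h₂ := levels_high
  simp only [Bool.and_eq_true] at h₁ h₂ ⊢
  exact ⟨⟨⟨h₁, h₂.1.1⟩, h₂.1.2⟩, h₂.2⟩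

end CfsgLib.ThreeTrans.FiCent
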