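import Cfsg.Agent.Lib.ThreeTrans.FiCent.RigidDefs

/-!
The levels checked.
-/

set_option autoImplicit false
set_option maxRecDepth 100000
set_option exponentiation.threshold 600

namespace CfsgLib.ThreeTrans.FiCent

open Subgroup CfsgLib.Presented CfsgLib.Presented.Fi22Pts RigidData ChainData
open CfsgLib.ThreeTrans.Inst.FiTwentyTwo (P maskA)
open Fi22UCert (rep)

theorem levels_low :
    (levelOK base0 6 [] gens0 tree0 && levelOK base1 10 [] gens1 tree1 &&
      levelOK base2 344 [] gens2 tree2) = true := by decide +kernel

end CfsgLib.ThreeTrans.FiCent
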