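import Cfsg.Agent.Lib.ThreeTrans.FiCent.Bases
import Cfsg.Agent.Lib.ThreeTrans.FiCent.NodeCalc

/-!
The stabiliser of the base in the centraliser of its first member induces a group of order 20160 on the
coordinates; its involutions fix more than 32 coordinates, and it is transitive on each listed orbit.
-/

set_option autoImplicit false
set_option maxRecDepth 20000

namespace CfsgLib.ThreeTrans.FiCent.Base

open Subgroup
open CfsgLib.Presented.Fi22Pts (bit img ok T conj_T lookup allLt)
open CfsgLib.Presented (evW)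
open CfsgLib.Presented.Fi22UCosets (ev hWords)

/-- The permutations of coordinates induced in the centraliser. -/
noncomputable abbrev M0 : Subgroup (Equiv.Perm (Fin 1024)) := induced el H0

theorem M0_additive {g : Equiv.Perm (Fin 1024)} (hg : g ∈ M0) : Additive g := coord.additive hg

theorem gen_induced {k : ℕ} (hk : k < 2) : ∃ g ∈ M0,
    (∀ u, gen k * el u * (gen k)⁻¹ = el (g u)) ∧ ∀ u, g u = linF hk u := by
  obtain ⟨g, hg, h⟩ := coord.exists_induced (gen_fix hk) fun u => ⟨_, gen_conj hk u⟩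
  exact ⟨g, hg, h, fun u => coord.inj ((h u).symm.trans (gen_conj hk u))⟩

theorem word_induced : ∀ w : List ℕ, (∀ k ∈ w, k < 2) → ∃ g ∈ M0, ∀ u, (g u : ℕ) = app w u
  | [], _ => ⟨1, one_mem _, fun u => rfl⟩
  | k :: w, h => by
    obtain ⟨g, hg, hgu⟩ := word_induced w fun x hx => h x (List.mem_cons_of_mem _ hx)
    obtain ⟨g', hg', -, hgu'⟩ := gen_induced (h k List.mem_cons_self)
    refine ⟨g' * g, mul_mem hg' hg, fun u => ?_⟩
    rw [Equiv.Perm.mul_apply, hgu']
    show lin (gImages.getD k []) (g u : ℕ) = lin (gImages.getD k []) (app w u)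
    rw [hgu]

theorem GN_induced {n : X} (hn : n ∈ GN) : ∃ g ∈ M0, ∀ u, n * el u * n⁻¹ = el (g u) := by
  unfold GN at hn
  induction hn using closure_induction with
  | mem x hx =>
    obtain ⟨k, hk, rfl⟩ := hx
    obtain ⟨g, hg, h, -⟩ := gen_induced hk
    exact ⟨g, hg, h⟩
  | one => exact ⟨1, one_mem _, fun u => by simp⟩
  | mul p q _ _ ihp ihq =>
    obtain ⟨g, hg, hp⟩ := ihp
    obtain ⟨h, hh, hq⟩ := ihq
    refine ⟨g * h, mul_mem hg hh, fun u => ?_⟩
    rw [Equiv.Perm.mul_apply, ← hp, ← hq]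
    group
  | inv p _ ihp =>
    obtain ⟨g, hg, hp⟩ := ihp
    refine ⟨g⁻¹, inv_mem hg, fun u => ?_⟩
    have h := hp (g⁻¹ u)
    rw [show g (g⁻¹ u) = u from g.apply_symm_apply u] at h
    rw [← h]
    group

/-- Transitivity on the listed orbits. -/
theorem M0_orbit (j : ℕ) (hj : j < 6) (u v : Fin 1024) (hu : (u : ℕ) = orbReps.getD j 0)
    (hv : (orbMasks.getD j 0).testBit (v : ℕ) = true) : ∃ g ∈ M0, g u = v := by
  obtain ⟨n, hn, he⟩ := mask_reach hj hv
  obtain ⟨g, hg, hgu⟩ := GN_induced hn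
  refine ⟨g, hg, coord.inj ?_⟩
  rw [← hgu, ← he, show u = ⟨orbReps.getD j 0, rep_lt hj⟩ from Fin.ext hu]

/-! ### At least 20160 -/

theorem chain_word {l : ℕ} (hl : l < 4) {i : ℕ} (hi : i < (chainWords.getD l []).length) :
    ∀ k ∈ (chainWords.getD l []).getD i [], k < 2 := by
  intro k hk
  have h := List.all_eq_true.1 (List.all_eq_true.1 (chain_ok.2.1 l hl).2.1
    ((chainWords.getD l []).getD i []) (by rw [List.getD_eq_getElem _ _ hi]; exact List.getElem_mem _)) k hk
  rwa [Nat.blt_eq] at h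

theorem chain_length (l : ℕ) : (chainWords.getD l []).length = ([21, 20, 16, 3] : List ℕ).getD l 0 := by
  rw [← chain_ok.2.2, show (0 : ℕ) = List.length ([] : List (List ℕ)) from rfl, List.getD_map]

/-- The permutation of a chain word. -/
noncomputable def chainPerm (l : ℕ) (hl : l < 4) (i : Fin ((chainWords.getD l []).length)) :
    Equiv.Perm (Fin 1024) :=
  (word_induced _ (chain_word hl i.2)).choose

theorem chainPerm_mem (l : ℕ) (hl : l < 4) (i : Fin ((chainWords.getD l []).length)) : chainPerm l hl i ∈ M0 :=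
  (word_induced _ (chain_word hl i.2)).choose_spec.1

theorem chainPerm_app (l : ℕ) (hl : l < 4) (i : Fin ((chainWords.getD l []).length)) (u : Fin 1024) :
    (chainPerm l hl i u : ℕ) = app ((chainWords.getD l []).getD i []) u :=
  (word_induced _ (chain_word hl i.2)).choose_spec.2 u

/-- A chain point. -/
def cpt (l : ℕ) (hl : l < 4) : Fin 1024 := ⟨chainPts.getD l 0, (chain_ok.2.1 l hl).1⟩

theorem chainPerm_fix {l : ℕ} (hl : l < 4) {j : ℕ} (hj : j < l) (i : Fin ((chainWords.getD l []).length)) :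
    chainPerm l hl i (cpt j (hj.trans hl)) = cpt j (hj.trans hl) := by
  refine Fin.ext ?_
  rw [chainPerm_app]
  refine (chain_ok.2.1 l hl).2.2.2 _ ?_ j hj
  rw [List.getD_eq_getElem _ _ i.2]
  exact List.getElem_mem _

theorem chainPerm_inj {l : ℕ} (hl : l < 4) {i i' : Fin ((chainWords.getD l []).length)}
    (h : chainPerm l hl i (cpt l hl) = chainPerm l hl i' (cpt l hl)) : i = i' := by
  have h' := congrArg Fin.val h
  rw [chainPerm_app, chainPerm_app] at h'
  refine Fin.ext ?_
  have hn := (chain_ok.2.1 l hl).2.2.1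
  rw [List.getD_eq_getElem _ _ i.2, List.getD_eq_getElem _ _ i'.2] at h'
  exact (hn.getElem_inj_iff (hi := by simpa using i.2) (hj := by simpa using i'.2)).1 (by simpa [cpt] using h')

theorem le_card_M0 : 20160 ≤ Nat.card M0 := by
  let f : (Fin ((chainWords.getD 0 []).length) × Fin ((chainWords.getD 1 []).length)) ×
      (Fin ((chainWords.getD 2 []).length) × Fin ((chainWords.getD 3 []).length)) → M0 := fun p =>
    ⟨chainPerm 0 (by norm_num) p.1.1 * chainPerm 1 (by norm_num) p.1.2 * chainPerm 2 (by norm_num) p.2.1 *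
      chainPerm 3 (by norm_num) p.2.2,
      mul_mem (mul_mem (mul_mem (chainPerm_mem _ _ _) (chainPerm_mem _ _ _)) (chainPerm_mem _ _ _))
        (chainPerm_mem _ _ _)⟩
  have hf : Function.Injective f := by
    rintro ⟨⟨i, j⟩, k, m⟩ ⟨⟨i', j'⟩, k', m'⟩ e
    have e0 : ∀ u, chainPerm 0 (by norm_num) i (chainPerm 1 (by norm_num) j (chainPerm 2 (by norm_num) k
        (chainPerm 3 (by norm_num) m u))) = chainPerm 0 (by norm_num) i' (chainPerm 1 (by norm_num) j'
        (chainPerm 2 (by norm_num) k' (chainPerm 3 (by norm_num) m' u))) := fun u =>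
      congrArg (fun g : M0 => (g : Equiv.Perm (Fin 1024)) u) e
    obtain rfl : i = i' := chainPerm_inj (by norm_num) (by
      have h := e0 (cpt 0 (by norm_num))
      simpa [chainPerm_fix] using h)
    have e1 := fun u => (chainPerm 0 (by norm_num) i).injective (e0 u)
    obtain rfl : j = j' := chainPerm_inj (by norm_num) (by
      have h := e1 (cpt 1 (by norm_num))
      simpa [chainPerm_fix] using h)
    have e2 := fun u => (chainPerm 1 (by norm_num) j).injective (e1 u)
    obtain rfl : k = k' := chainPerm_inj (by norm_num) (by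
      have h := e2 (cpt 2 (by norm_num))
      simpa [chainPerm_fix] using h)
    have e3 := fun u => (chainPerm 2 (by norm_num) k).injective (e2 u)
    obtain rfl : m = m' := chainPerm_inj (by norm_num) (e3 (cpt 3 (by norm_num)))
    rfl
  have h := Nat.card_le_card_of_injective f hf
  simp only [Nat.card_prod, Nat.card_fin, chain_length] at h
  exact h

/-! ### At most 20160 -/

/-- One listed set. -/
def node (k : ℕ) : ℕ := (nodes.getD k (0, 0, 0)).1

theorem increasing_spec : ∀ {l : List ℕ}, increasing l = true → (∀ q ∈ l, q < 3510) ∧ l.Pairwise (· < ·)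
  | [], _ => by simp
  | [x], h => by simpa [increasing, Nat.blt_eq] using h
  | x :: y :: l, h => by
    rw [increasing, Bool.and_eq_true, Nat.blt_eq] at h
    obtain ⟨h1, h2⟩ := increasing_spec h.2
    have hx : ∀ z ∈ y :: l, x < z := fun z hz => by
      rcases List.mem_cons.1 hz with rfl | hz
      · exact h.1
      · exact h.1.trans ((List.pairwise_cons.1 h2).1 z hz)
    refine ⟨fun q hq => ?_, List.pairwise_cons.2 ⟨hx, h2⟩⟩
    rcases List.mem_cons.1 hq with rfl | hq
    · exact h.1.trans (h1 y List.mem_cons_self)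
    · exact h1 q hq

theorem pairwise_lt_ext : ∀ {l l' : List ℕ}, l.Pairwise (· < ·) → l'.Pairwise (· < ·) →
    (∀ x, x ∈ l ↔ x ∈ l') → l = l'
  | [], [], _, _, _ => rfl
  | [], y :: l', _, _, h => absurd ((h y).2 List.mem_cons_self) (by simp)
  | x :: l, [], _, _, h => absurd ((h x).1 List.mem_cons_self) (by simp)
  | x :: l, y :: l', hl, hl', h => by
    rw [List.pairwise_cons] at hl hl'
    have hxy : x = y := by
      rcases List.mem_cons.1 ((h x).1 List.mem_cons_self) with e | e
      · exact e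
      rcases List.mem_cons.1 ((h y).2 List.mem_cons_self) with e' | e'
      · exact e'.symm
      exact absurd ((hl'.1 x e).trans (hl.1 y e')) (lt_irrefl y)
    subst hxy
    refine congrArg _ (pairwise_lt_ext hl.2 hl'.2 fun z => ⟨fun hz => ?_, fun hz => ?_⟩)
    · exact ((List.mem_cons.1 ((h z).1 (List.mem_cons_of_mem _ hz))).resolve_left (hl.1 z hz).ne')
    · exact ((List.mem_cons.1 ((h z).2 (List.mem_cons_of_mem _ hz))).resolve_left (hl'.1 z hz).ne')

theorem repack_ok : (nodes.all fun n => Nat.beq ((unpack n.1).foldr (fun p r => 4096 * r + p) 0) n.1) = true := by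
  decide +kernel

theorem node_mem {k : ℕ} (hk : k < 891) : nodes.getD k (0, 0, 0) ∈ nodes := by
  rw [List.getD_eq_getElem _ _ (nodes_root.2.2.1.symm ▸ hk)]
  exact List.getElem_mem _

theorem node_spec {k : ℕ} (hk : k < 891) :
    (∀ q ∈ unpack (node k), q < 3510) ∧ (unpack (node k)).Pairwise (· < ·) :=
  increasing_spec (List.all_eq_true.1 nodes_sets _ (node_mem hk))

theorem distinctB_nodup : ∀ {l : List ℕ}, distinctB l = true → l.Nodup
  | [], _ => List.nodup_nil
  | x :: l, h => by
    rw [distinctB, Bool.and_eq_true, List.all_eq_true] at h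
    refine List.nodup_cons.2 ⟨fun hx => ?_, distinctB_nodup h.2⟩
    simpa [Nat.beq_refl] using h.1 x hx

theorem node_inj {k k' : ℕ} (hk : k < 891) (hk' : k' < 891)
    (h : ∀ q, q ∈ unpack (node k) ↔ q ∈ unpack (node k')) : k = k' := by
  have e := pairwise_lt_ext (node_spec hk).2 (node_spec hk').2 h
  have hp : ∀ {i : ℕ}, i < 891 → (unpack (node i)).foldr (fun p r => 4096 * r + p) 0 = node i := fun hi =>
    Nat.eq_of_beq_eq_true (List.all_eq_true.1 repack_ok _ (node_mem hi))
  have en : node k = node k' := by rw [← hp hk, ← hp hk', e]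
  have hn : ∀ (L : List (ℕ × ℕ × ℕ)), (L.map fun n => n.1).Nodup → k < L.length → k' < L.length →
      (L.getD k (0, 0, 0)).1 = (L.getD k' (0, 0, 0)).1 → k = k' := fun L hL hk hk' e => by
    rw [List.getD_eq_getElem _ _ hk, List.getD_eq_getElem _ _ hk'] at e
    refine (hL.getElem_inj_iff (hi := by simpa using hk) (hj := by simpa using hk')).1 ?_
    simpa using e
  exact hn nodes (distinctB_nodup nodes_distinct) (nodes_root.2.2.1.symm ▸ hk) (nodes_root.2.2.1.symm ▸ hk') en

theorem gen9_mem {g : ℕ} (hg : g < 9) : hWords.getD g [] ∈ hWords := by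
  rw [List.getD_eq_getElem _ _ (nodes_root.2.2.2.2.symm ▸ hg)]
  exact List.getElem_mem _

/-- An element carrying the base into a listed set. -/
theorem exists_to_node : ∀ k, k < 891 → ∃ h ∈ H0, ∀ i, i < 22 → ∃ q ∈ unpack (node k), h * mem i * h⁻¹ = T q := by
  intro k
  induction k using Nat.strong_induction_on with
  | _ k ih =>
    intro hk
    rcases k with _ | k
    · refine ⟨1, one_mem _, fun i hi => ⟨pts.getD i 0, ?_, by simp [mem]⟩⟩
      rw [node, nodes_root.2.1, List.getD_eq_getElem _ _ (pts_ok.1.symm ▸ hi)]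
      exact List.getElem_mem _
    · have h := List.all_eq_true.1 nodes_edges k (List.mem_range.2 (by omega))
      rw [CfsgLib.Presented.Vec.force_eq, edgeOk, Bool.and_eq_true, Bool.and_eq_true,
        CfsgLib.Presented.Vec.force_eq, Nat.blt_eq, Nat.blt_eq, List.all_eq_true] at h
      obtain ⟨⟨hp, hg⟩, hall⟩ := h
      obtain ⟨h', hh', hi'⟩ := ih _ hp (hp.trans hk)
      have hw := gen9_mem hg
      refine ⟨evW ev (hWords.getD _ []) * h',
        mul_mem (by rw [H0_eq]; exact CfsgLib.Presented.Fi22UCosets.mem_H hw) hh', fun i hi => ?_⟩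
      obtain ⟨q, hq, e⟩ := hi' i hi
      obtain ⟨y, hy, hyq⟩ := List.any_eq_true.1 (hall q hq)
      refine ⟨y, hy, ?_⟩
      rw [← Nat.eq_of_beq_eq_true hyq,
        ← conj_T (List.all_eq_true.1 nodes_root.2.2.2.1 _ hw) ((node_spec (hp.trans hk)).1 q hq), ← e]
      group

/-- The chosen element for a listed set. -/
noncomputable def toNode (k : Fin 891) : X := (exists_to_node k k.2).choose

theorem toNode_mem (k : Fin 891) : toNode k ∈ H0 := (exists_to_node k k.2).choose_spec.1

theorem T_inj {p q : ℕ} (hp : p < 3510) (hq : q < 3510) (h : T p = T q) : p = q := by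
  have h' := congrArg Fin.val (Inst.FiTwentyTwo.P.tp_injective h)
  rwa [CfsgLib.Presented.Fi22Pts.pt_val hp, CfsgLib.Presented.Fi22Pts.pt_val hq] at h'

theorem toNode_image (k : Fin 891) (q : ℕ) (hq : q < 3510) :
    (∃ i, i < 22 ∧ toNode k * mem i * (toNode k)⁻¹ = T q) ↔ q ∈ unpack (node k) := by
  classical
  constructor
  · rintro ⟨i, hi, e⟩
    obtain ⟨q', hq', e'⟩ := (exists_to_node k k.2).choose_spec.2 i hi
    have e'' : T q = T q' := e.symm.trans e'
    rwa [T_inj hq ((node_spec k.2).1 q' hq') e'']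
  · intro hqm
    have hsub : (fun x => toNode k * x * (toNode k)⁻¹) '' B0 ⊆ T '' {q | q ∈ unpack (node k)} := by
      rintro _ ⟨_, ⟨i, hi, rfl⟩, rfl⟩
      obtain ⟨q', hq', e'⟩ := (exists_to_node k k.2).choose_spec.2 i hi
      exact ⟨q', hq', e'.symm⟩
    have heq := Set.eq_of_subset_of_ncard_le hsub (by
      rw [Set.ncard_image_of_injective _ (fun a b h => mul_left_cancel (mul_right_cancel h)), B0_card]
      refine (Set.ncard_image_le (List.finite_toSet _)).trans ?_
      rw [show {q | q ∈ unpack (node k)} = ((unpack (node k)).toFinset : Set ℕ) by ext; simp,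
        Set.ncard_coe_finset]
      exact (List.toFinset_card_le _).trans (by simp [unpack])) (Set.toFinite _)
    have hT : T q ∈ (fun x => toNode k * x * (toNode k)⁻¹) '' B0 := by rw [heq]; exact ⟨q, hqm, rfl⟩
    obtain ⟨_, ⟨i, hi, rfl⟩, e⟩ := hT
    exact ⟨i, hi, e⟩

theorem card_H0 : Nat.card H0 = 18393661440 :=
  (CfsgLib.ThreeTrans.Tower.orders22 m22.group m22.prim m22.typ).1 _ Inst.FiTwentyTwo.P.a_mem

theorem card_M0 : Nat.card M0 = 20160 := by
  classical
  refine le_antisymm ?_ le_card_M0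
  let n : M0 → X := fun g => (mem_induced.1 g.2).choose
  have hn : ∀ g : M0, n g ∈ H0 ∧ ∀ u, n g * el u * (n g)⁻¹ = el ((g : Equiv.Perm (Fin 1024)) u) := fun g =>
    (mem_induced.1 g.2).choose_spec
  let f : Fin 891 × M0 × A0 → H0 := fun p => ⟨toNode p.1 * n p.2.1 * (p.2.2 : X),
    mul_mem (mul_mem (toNode_mem _) (hn _).1) (A0_le_H0 p.2.2.2)⟩
  have hB : ∀ (g : M0) (α : A0), ∀ b, b ∈ B0 ↔ n g * α * b * (n g * α)⁻¹ ∈ B0 := by
    intro g α
    have e : ∀ b ∈ A0, n g * α * b * (n g * α)⁻¹ = n g * b * (n g)⁻¹ := fun b hb => by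
      rw [show n g * α * b * (n g * α)⁻¹ = n g * (α * b * (α : X)⁻¹) * (n g)⁻¹ by group,
        setLike_mul_comm α.2 hb, mul_inv_cancel_right]
    have h1 : ∀ b ∈ B0, n g * α * b * (n g * α)⁻¹ ∈ B0 := fun b hb => by
      obtain ⟨u, rfl⟩ := el_range.1 (subset_closure hb)
      refine D0_A0 (Inst.FiTwentyTwo.P.conj_mem _ (B0_sub hb)) ?_
      rw [e _ (el_mem u), (hn g).2]
      exact el_mem _
    have hs : (fun b => n g * α * b * (n g * α)⁻¹) '' B0 = B0 :=
      Set.eq_of_subset_of_ncard_le (Set.image_subset_iff.2 h1)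
        (by rw [Set.ncard_image_of_injective _ (fun a b h => mul_left_cancel (mul_right_cancel h))]) (Set.toFinite _)
    intro b
    refine ⟨h1 b, fun hb => ?_⟩
    obtain ⟨b', hb', e'⟩ := hs.symm ▸ hb
    rwa [← mul_left_cancel (mul_right_cancel e' :)]
  have hf : Function.Injective f := by
    rintro ⟨k, g, α⟩ ⟨k', g', α'⟩ e
    have e' : toNode k * n g * α = toNode k' * n g' * α' := congrArg Subtype.val e
    have key : ∀ {k k' : Fin 891} {g g' : M0} {α α' : A0}, toNode k * n g * α = toNode k' * n g' * α' →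
        ∀ q, q ∈ unpack (node k) → q ∈ unpack (node k') := by
      intro k k' g g' α α' e q hq
      have hq' := (node_spec k.2).1 q hq
      obtain ⟨i, hi, hiq⟩ := (toNode_image k q hq').2 hq
      refine (toNode_image k' q hq').1 ?_
      set b := (n g * α)⁻¹ * mem i * (n g * α) with hb
      have hbB : b ∈ B0 := (hB g α b).2 (by
        rw [hb, show n g * α * ((n g * α)⁻¹ * mem i * (n g * α)) * (n g * α)⁻¹ = mem i by group]
        exact ⟨i, hi, rfl⟩)
      obtain ⟨j, hj, hjb⟩ := (hB g' α' b).1 hbB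
      refine ⟨j, hj, ?_⟩
      rw [hjb, ← hiq, hb, show toNode k' * (n g' * α' * ((n g * α)⁻¹ * mem i * (n g * α)) * (n g' * α')⁻¹) *
          (toNode k')⁻¹ = (toNode k' * n g' * α') * ((n g * α)⁻¹ * mem i * (n g * α)) *
            (toNode k' * n g' * α')⁻¹ by group, ← e]
      group
    obtain rfl : k = k' := Fin.ext (node_inj k.2 k'.2 fun q => ⟨key e' q, key e'.symm q⟩)
    have e'' : n g * α = n g' * α' := mul_left_cancel (a := toNode k) (by simpa [mul_assoc] using e')
    obtain rfl : g = g' := by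
      refine Subtype.ext (Equiv.ext fun u => coord.inj ?_)
      rw [← (hn g).2, ← (hn g').2]
      have hc : ∀ α : A0, (α : X) * el u * (α : X)⁻¹ = el u := fun α => by
        rw [setLike_mul_comm α.2 (el_mem u), mul_inv_cancel_right]
      calc n g * el u * (n g)⁻¹ = (n g * α) * el u * (n g * α)⁻¹ := by
            rw [show n g * α * el u * (n g * α)⁻¹ = n g * (α * el u * (α : X)⁻¹) * (n g)⁻¹ by group, hc]
        _ = (n g' * α') * el u * (n g' * α')⁻¹ := by rw [e'']
        _ = n g' * el u * (n g')⁻¹ := by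
            rw [show n g' * α' * el u * (n g' * α')⁻¹ = n g' * (α' * el u * (α' : X)⁻¹) * (n g')⁻¹ by group, hc]
    rw [Subtype.ext (mul_left_cancel e'') (a1 := α) (a2 := α')]
  have h := Nat.card_le_card_of_injective f hf
  rw [Nat.card_prod, Nat.card_prod, Nat.card_fin, card_A0, card_H0] at h
  omega

/-! ### Involutions -/

theorem lin_zero : ∀ l : List ℕ, lin l 0 = 0
  | [] => rfl
  | x :: l => by
    rw [lin, show Nat.div 0 2 = 0 from rfl, lin_zero l]
    rfl

theorem lin_pow : ∀ (l : List ℕ) (j : ℕ), j < l.length → lin l (2 ^ j) = l.getD j 0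
  | [], _, h => absurd h (Nat.not_lt_zero _)
  | x :: l, 0, _ => by
    rw [lin, show Nat.div (2 ^ 0) 2 = 0 from rfl, lin_zero,
      show bit (2 ^ 0) 0 = true from rfl]
    exact Nat.xor_zero x
  | x :: l, j + 1, h => by
    rw [lin, CfsgLib.Presented.Fi22Pts.bit_eq, Nat.testBit_two_pow_of_ne (by omega),
      show Nat.div (2 ^ (j + 1)) 2 = 2 ^ j from by
        show 2 ^ (j + 1) / 2 = 2 ^ j
        rw [pow_succ, Nat.mul_div_cancel _ two_pos]]
    simpa using lin_pow l j (by simpa using h)

/-- An additive permutation is given by its ten images. -/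
theorem additive_lin {g : Equiv.Perm (Fin 1024)} (hg : Additive g) {l : List ℕ} (hl : l.length = 10)
    (hlt : ∀ x ∈ l, x < 1024)
    (h : ∀ j (hj : j < 10), (g ⟨2 ^ j, (Nat.pow_lt_pow_iff_right one_lt_two).2 hj⟩ : ℕ) = l.getD j 0)
    (u : Fin 1024) : (g u : ℕ) = lin l u := by
  let f1 : VG →* X :=
    { toFun := fun u => el (g u)
      map_one' := (congrArg el hg.map_zero).trans elHom.map_one
      map_mul' := fun u v => (congrArg el (hg u v)).trans (el_add _ _) }
  let f2 : VG →* X :=
    { toFun := fun (u : Fin 1024) => el ⟨lin l u, lin_lt l _ hlt⟩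
      map_one' := by
        have e : (⟨lin l 0, lin_lt l _ hlt⟩ : Fin 1024) = 0 := Fin.ext (lin_zero l)
        exact (congrArg el e).trans elHom.map_one
      map_mul' := fun (u v : Fin 1024) => by
        have e : (⟨lin l (vx u v), lin_lt l _ hlt⟩ : Fin 1024) =
            vx ⟨lin l u, lin_lt l _ hlt⟩ ⟨lin l v, lin_lt l _ hlt⟩ := Fin.ext (lin_xor l u v)
        exact (congrArg el e).trans (el_add _ _) }
  have := DFunLike.congr_fun (hom_ext (f := f1) (g := f2) fun j hj => congrArg el (Fin.ext (by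
    rw [h j hj]; exact (lin_pow l j (hl.symm ▸ hj)).symm))) u
  exact congrArg Fin.val (coord.inj this)

theorem key_length (w : List ℕ) : (key w).length = 10 := by simp [key]

theorem app_lin {w : List ℕ} {g : Equiv.Perm (Fin 1024)} (hg : g ∈ M0) (h : ∀ u, (g u : ℕ) = app w u)
    (u : Fin 1024) : (g u : ℕ) = lin (key w) u := by
  refine additive_lin (M0_additive hg) (key_length w) ?_ (fun j hj => ?_) u
  · intro x hx
    obtain ⟨j, hj, rfl⟩ := List.mem_map.1 hx
    have h' := h ⟨2 ^ j, (Nat.pow_lt_pow_iff_right one_lt_two).2 (List.mem_range.1 hj)⟩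
    exact h' ▸ Fin.isLt _
  · rw [h, List.getD_eq_getElem _ _ (by simpa [key] using hj)]
    simp [key]

theorem packKey_inj : ∀ {l l' : List ℕ}, l.length = l'.length → (∀ x ∈ l, x < 1024) → (∀ x ∈ l', x < 1024) →
    packKey l = packKey l' → l = l'
  | [], [], _, _, _, _ => rfl
  | [], _ :: _, h, _, _, _ => by simp at h
  | _ :: _, [], h, _, _, _ => by simp at h
  | x :: l, y :: l', hlen, hl, hl', h => by
    replace h : x + 1024 * packKey l = y + 1024 * packKey l' := h
    have hx := hl x List.mem_cons_self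
    have hy := hl' y List.mem_cons_self
    obtain rfl : x = y := by omega
    rw [packKey_inj (by simpa using hlen) (fun z hz => hl z (List.mem_cons_of_mem _ hz))
      (fun z hz => hl' z (List.mem_cons_of_mem _ hz)) (by omega)]

/-- The permutations of the listed words. -/
def sylSet : Set (Equiv.Perm (Fin 1024)) := {g | g ∈ M0 ∧ ∃ w ∈ sylWords, ∀ u, (g u : ℕ) = app w u}

theorem syl_key_lt {w : List ℕ} {g : Equiv.Perm (Fin 1024)} (h : ∀ u, (g u : ℕ) = app w u) :
    ∀ x ∈ key w, x < 1024 := fun x hx => by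
  obtain ⟨j, hj, rfl⟩ := List.mem_map.1 hx
  exact h ⟨2 ^ j, (Nat.pow_lt_pow_iff_right one_lt_two).2 (List.mem_range.1 hj)⟩ ▸ Fin.isLt _

theorem syl_word_ok {w : List ℕ} (hw : w ∈ sylWords) : ∀ k ∈ w, k < 2 := fun k hk => by
  have h := List.all_eq_true.1 (List.all_eq_true.1 syl_ok.2.1 w hw) k hk
  rwa [Nat.blt_eq] at h

theorem syl_key_mem {w : List ℕ} (hw : w ∈ sylWords) : key w ∈ sylImages :=
  syl_ok.2.2.1 ▸ List.mem_map_of_mem hw

theorem sylSet_mul {g g' : Equiv.Perm (Fin 1024)} (hg : g ∈ sylSet) (hg' : g' ∈ sylSet) : g * g' ∈ sylSet := by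
  obtain ⟨hgM, w, hw, hgw⟩ := hg
  obtain ⟨hgM', w', hw', hgw'⟩ := hg'
  refine ⟨mul_mem hgM hgM', ?_⟩
  obtain ⟨p, hp, hpe⟩ := List.any_eq_true.1
    (List.all_eq_true.1 (List.all_eq_true.1 syl_mul _ (syl_key_mem hw)) _ (syl_key_mem hw'))
  obtain ⟨_, himg, rfl⟩ := List.mem_map.1 hp
  rw [← syl_ok.2.2.1] at himg
  obtain ⟨w'', hw'', rfl⟩ := List.mem_map.1 himg
  obtain ⟨g'', hg'', hgw''⟩ := word_induced w'' (syl_word_ok hw'')
  refine ⟨w'', hw'', fun u => ?_⟩
  have he : (key w').map (lin (key w)) = key w'' :=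
    packKey_inj (by simp [key]) (fun x hx => by
      obtain ⟨y, hy, rfl⟩ := List.mem_map.1 hx
      exact lin_lt _ _ (syl_key_lt hgw)) (syl_key_lt hgw'') (Nat.eq_of_beq_eq_true hpe)
  rw [← hgw'' u, app_lin hg'' hgw'',
    additive_lin (M0_additive (mul_mem hgM hgM')) (key_length w'') (syl_key_lt hgw'') (fun j hj => ?_) u]
  rw [Equiv.Perm.mul_apply, app_lin hgM hgw, hgw', ← he,
    List.getD_eq_getElem _ _ (by simpa [key] using hj), List.getElem_map]
  simp [key]

theorem one_mem_sylSet : (1 : Equiv.Perm (Fin 1024)) ∈ sylSet :=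
  ⟨one_mem _, [], syl_ok.2.2.2.2, fun _ => rfl⟩

/-- The subgroup of order 64. -/
def sylGroup : Subgroup M0 where
  carrier := {g | (g : Equiv.Perm (Fin 1024)) ∈ sylSet}
  one_mem' := one_mem_sylSet
  mul_mem' := fun hg hg' => sylSet_mul hg hg'
  inv_mem' := fun {g} hg => by
    have hp : ∀ n : ℕ, (((g ^ n : M0)) : Equiv.Perm (Fin 1024)) ∈ sylSet := fun n => by
      induction n with
      | zero => exact one_mem_sylSet
      | succ n ih => rw [pow_succ]; exact sylSet_mul ih hg
    have e : g⁻¹ = g ^ (orderOf g - 1) := inv_eq_of_mul_eq_one_left (by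
      rw [← pow_succ, Nat.sub_add_cancel (orderOf_pos g), pow_orderOf_eq_one])
    rw [e]
    exact hp _

theorem card_sylGroup : Nat.card sylGroup = 64 := by
  classical
  obtain ⟨W, hW⟩ : ∃ W, W = sylWords := ⟨_, rfl⟩
  have hW1 : W.length = 64 := hW ▸ syl_ok.1
  have hW3 : W.map key = sylImages := hW ▸ syl_ok.2.2.1
  have hlen : (W.map fun w => packKey (key w)).length = 64 := by rw [List.length_map]; exact hW1
  have hlt : ∀ i : Fin 64, (i : ℕ) < W.length := fun i => hW1.symm ▸ i.2
  have hmem : ∀ i : Fin 64, W[(i : ℕ)]'(hlt i) ∈ W := fun i => List.getElem_mem _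
  choose p hp hpw using fun i : Fin 64 => word_induced (W[(i : ℕ)]'(hlt i)) (syl_word_ok (hW ▸ hmem i))
  let f : Fin 64 → sylGroup := fun i => ⟨⟨p i, hp i⟩, ⟨hp i, _, hW ▸ hmem i, hpw i⟩⟩
  have hf : Function.Bijective f := by
    refine ⟨fun i i' e => ?_, fun g => ?_⟩
    · have e' : p i = p i' := congrArg (fun g : sylGroup => ((g : M0) : Equiv.Perm (Fin 1024))) e
      have hk : key (W[(i : ℕ)]'(hlt i)) = key (W[(i' : ℕ)]'(hlt i')) := by
        refine List.map_congr_left fun j hj => ?_
        have h1 := hpw i ⟨2 ^ j, (Nat.pow_lt_pow_iff_right one_lt_two).2 (List.mem_range.1 hj)⟩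
        rw [e', hpw i'] at h1
        exact h1.symm
      have hn : (W.map fun w => packKey (key w)).Nodup := by
        have := syl_ok.2.2.2.1
        rw [← hW3, List.map_map] at this
        rw [Function.comp_def] at this
        exact this
      refine Fin.ext ((hn.getElem_inj_iff (hi := hlen.symm ▸ i.2) (hj := hlen.symm ▸ i'.2)).1 ?_)
      rw [List.getElem_map, List.getElem_map, hk]
    · obtain ⟨-, w, hw, hgw⟩ := g.2
      rw [← hW] at hw
      obtain ⟨i, hi, rfl⟩ := List.mem_iff_getElem.1 hw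
      refine ⟨⟨i, hW1 ▸ hi⟩, Subtype.ext (Subtype.ext (Equiv.ext fun u => Fin.ext ?_))⟩
      rw [hgw]
      exact hpw ⟨i, hW1 ▸ hi⟩ u
  rw [← Nat.card_congr (Equiv.ofBijective f hf), Nat.card_fin]

theorem length_filter_range (n : ℕ) (p : ℕ → Prop) [DecidablePred p] :
    ((List.range n).filter fun x => decide (p x)).length = ((Finset.range n).filter p).card := rfl

/-- An involution fixes more than 32 coordinates. -/
theorem M0_involution {g : Equiv.Perm (Fin 1024)} (hg : g ∈ M0) (h2 : g * g = 1) (h1 : g ≠ 1) :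
    32 < (fixedSet g).card := by
  classical
  have : Fact (Nat.Prime 2) := ⟨Nat.prime_two⟩
  let x : M0 := ⟨g, hg⟩
  have hx2 : x ^ 2 = 1 := Subtype.ext (by rw [pow_two]; exact h2)
  have hp : IsPGroup 2 (zpowers x) := fun ⟨y, hy⟩ => ⟨1, Subtype.ext (by
    obtain ⟨n, rfl⟩ := mem_zpowers_iff.1 hy
    show (x ^ n) ^ (2 ^ 1) = 1
    rw [pow_one, ← zpow_natCast, ← zpow_mul, mul_comm, zpow_mul, zpow_natCast, hx2, one_zpow])⟩
  obtain ⟨Q, hQ⟩ := hp.exists_le_sylow
  let P : Sylow 2 M0 := Sylow.ofCard sylGroup (by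
    rw [card_sylGroup, card_M0, show (20160 : ℕ).factorization 2 = 6 by
      rw [show (20160 : ℕ) = 2 ^ 6 * 315 by norm_num, Nat.factorization_mul (by norm_num) (by norm_num),
        Finsupp.add_apply, Nat.Prime.factorization_pow Nat.prime_two, Finsupp.single_eq_same,
        Nat.factorization_eq_zero_of_not_dvd (by norm_num : ¬ 2 ∣ 315)]]
    norm_num)
  obtain ⟨k, hk⟩ := MulAction.exists_smul_eq M0 Q P
  have hy : MulAut.conj k x ∈ sylGroup := by
    rw [show sylGroup = (P : Subgroup M0) from rfl, ← hk, Sylow.coe_subgroup_smul]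
    exact Subgroup.smul_mem_pointwise_smul x (MulAut.conj k) _ (hQ (mem_zpowers x))
  obtain ⟨-, w, hw, hyw⟩ := hy
  set y := MulAut.conj k x with hy'
  have hyM : (y : Equiv.Perm (Fin 1024)) ∈ M0 := y.2
  have hy1 : (y : Equiv.Perm (Fin 1024)) ≠ 1 := fun e => h1 (by
    have : y = 1 := Subtype.ext e
    rw [hy', MulEquiv.map_eq_one_iff] at this
    exact congrArg Subtype.val this)
  have hy2 : (y : Equiv.Perm (Fin 1024)) * y = 1 := by
    have : y * y = 1 := by rw [hy', ← map_mul, ← pow_two, hx2, map_one]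
    exact congrArg Subtype.val this
  have h := List.all_eq_true.1 syl_fix _ (syl_key_mem hw)
  simp only [Bool.or_eq_true, Bool.not_eq_true', beq_iff_eq, beq_eq_false_iff_ne] at h
  rcases h with (h | h) | h
  · refine absurd (Equiv.ext fun u => Fin.ext ?_) hy1
    rw [app_lin hyM hyw, h, ← app_lin (one_mem M0) (w := []) fun _ => rfl]
  · refine absurd ?_ h
    show (key w).map (lin (key w)) = key []
    rw [key, List.map_map]
    refine List.map_congr_left fun j hj => ?_
    have hj' := (Nat.pow_lt_pow_iff_right one_lt_two).2 (List.mem_range.1 hj)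
    show lin (key w) (app w (2 ^ j)) = 2 ^ j
    rw [← hyw ⟨2 ^ j, hj'⟩, ← app_lin hyM hyw]
    exact congrArg Fin.val (DFunLike.congr_fun hy2 ⟨2 ^ j, hj'⟩)
  · rw [Nat.blt_eq] at h
    refine lt_of_lt_of_le h (le_of_eq ?_)
    rw [show ((List.range 1024).filter fun x => Nat.beq (lin (key w) x) x) =
      (List.range 1024).filter fun x => decide (lin (key w) x = x) from
        List.filter_congr fun v _ => by rw [Bool.eq_iff_iff, decide_eq_true_eq]; exact ⟨Nat.eq_of_beq_eq_true,
          fun e => by rw [e]; exact Nat.beq_refl _⟩, length_filter_range, count_fin]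
    refine Finset.card_equiv ((k : Equiv.Perm (Fin 1024))⁻¹) fun u => ?_
    simp only [fixedSet, Finset.mem_filter, Finset.mem_univ, true_and, ← app_lin hyM hyw, Fin.val_inj]
    show ((k : Equiv.Perm (Fin 1024)) * g * (k : Equiv.Perm (Fin 1024))⁻¹) u = u ↔ _
    rw [Equiv.Perm.mul_apply, Equiv.Perm.mul_apply]
    constructor
    · intro e
      conv_rhs => rw [← e]
      exact ((k : Equiv.Perm (Fin 1024)).symm_apply_apply _).symm
    · intro e
      rw [e]
      exact (k : Equiv.Perm (Fin 1024)).apply_symm_apply u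

end CfsgLib.ThreeTrans.FiCent.Base
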